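import Groth.Agent.Lib.Helper18.Plucker.Det

/-!
# Second fundamental theorem for `GL_n` acting on pairs of matrices

The kernel of `y_{ij} ↦ Σ_k u_{ik} ξ_{kj}` is the ideal of `(n+1)`-minors.
-/

set_option autoImplicit false

namespace Groth.Agent.Lib.Helper18.Plucker

open W4bk4grassmannian MvPolynomial

universe u

variable {K : Type u} [Field K]

section General

variable {d r : ℕ} {T : Type*} [CommRing T] [Algebra K T]

/-- The point `[I; Z₀]` over an algebra. -/
noncomputable def cellPtT (z : Fin r × Fin d → T) : Matrix (Fin (d + r)) (Fin d) T :=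
  (cellMatrix K d r).map (aeval z)

theorem aeval_minors_cellPtT (z : Fin r × Fin d → T) (f : PlRing K d (d + r)) :
    aeval (fun θ : Idx d (d + r) => ((cellPtT (K := K) z).submatrix θ.1 id).det) f =
      aeval z (cellRho K d r f) := by
  have : (aeval (fun θ : Idx d (d + r) => ((cellPtT (K := K) z).submatrix θ.1 id).det) :
      PlRing K d (d + r) →ₐ[K] T) = (aeval z : CellRing K d r →ₐ[K] T).comp (cellRho K d r) := by
    apply MvPolynomial.algHom_ext
    intro θ
    rw [aeval_X, AlgHom.comp_apply, cellRho_X]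
    unfold cellMinor
    rw [AlgHom.map_det (aeval z : CellRing K d r →ₐ[K] T)]
    rfl
  exact congrFun (congrArg DFunLike.coe this) f

theorem eq_cellPtT (E : Matrix (Fin (d + r)) (Fin d) T)
    (hE : E.submatrix (iota d r).1 id = 1) :
    E = cellPtT (K := K) (fun p : Fin r × Fin d => E ⟨d + p.1.val, by omega⟩ p.2) := by
  ext i j
  unfold cellPtT cellMatrix
  simp only [Matrix.map_apply, Matrix.of_apply]
  by_cases h : i.val < d
  · rw [dif_pos h]
    have h1 := congrFun (congrFun hE ⟨i.val, h⟩) j
    simp only [Matrix.submatrix_apply, id, botIdx, Matrix.one_apply] at h1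
    have h2 : (⟨i.val, lt_of_lt_of_le h (Nat.le_add_right d r)⟩ : Fin (d + r)) = i := Fin.ext rfl
    rw [h2] at h1
    rw [h1]
    by_cases hij : i.val = j.val
    · rw [if_pos hij, if_pos (Fin.ext hij), map_one]
    · rw [if_neg hij, if_neg (fun h' => hij (by rw [← h'])), map_zero]
  · rw [dif_neg h, aeval_X]
    congr 1
    exact Fin.ext (by simp; omega)

end General

/-- A product of an `(n+1) × n` and an `n × (n+1)` matrix has determinant zero. -/
theorem det_mul_eq_zero_of_lt {R : Type*} [CommRing R] {n : ℕ}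
    (A : Matrix (Fin (n + 1)) (Fin n) R) (B : Matrix (Fin n) (Fin (n + 1)) R) :
    (A * B).det = 0 := by
  set A' : Matrix (Fin (n + 1)) (Fin (n + 1)) R :=
    Matrix.of fun i j => if h : j.val < n then A i ⟨j.val, h⟩ else 0 with hA'
  set B' : Matrix (Fin (n + 1)) (Fin (n + 1)) R :=
    Matrix.of fun j k => if h : j.val < n then B ⟨j.val, h⟩ k else 0 with hB'
  have hmul : A * B = A' * B' := by
    ext i k
    rw [Matrix.mul_apply, Matrix.mul_apply, Fin.sum_univ_castSucc]
    simp only [hA', hB', Matrix.of_apply, Fin.val_last, lt_irrefl, dite_false, mul_zero, add_zero,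
      Fin.val_castSucc, Fin.is_lt, dite_true]
  rw [hmul, Matrix.det_mul]
  have : A'.det = 0 := by
    apply Matrix.det_eq_zero_of_column_eq_zero (Fin.last n)
    intro i
    simp [hA']
  rw [this, zero_mul]

variable (K)

theorem minorIdeal_le_ker (m n q : ℕ) :
    CAlgX.minorIdeal (genMatrix K m q) (n + 1) ≤ RingHom.ker (pairingMap K n m q).toRingHom := by
  unfold CAlgX.minorIdeal
  rw [Ideal.span_le]
  rintro _ ⟨⟨f, g⟩, rfl⟩
  rw [SetLike.mem_coe, RingHom.mem_ker]
  change pairingMap K n m q (((genMatrix K m q).submatrix f g).det) = 0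
  rw [AlgHom.map_det]
  have : (pairingMap K n m q).mapMatrix ((genMatrix K m q).submatrix f g) =
      (Matrix.of fun (s : Fin (n + 1)) (k : Fin n) =>
          (X (Sum.inl (f s, k)) : PairRing K n m q)) *
        (Matrix.of fun (k : Fin n) (s : Fin (n + 1)) =>
          (X (Sum.inr (k, g s)) : PairRing K n m q)) := by
    ext s s'
    simp only [AlgHom.mapMatrix_apply, Matrix.map_apply, Matrix.submatrix_apply, genMatrix,
      Matrix.of_apply, Matrix.mul_apply, pairingMap, aeval_X]
  rw [this]
  exact det_mul_eq_zero_of_lt _ _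

theorem minorIdeal_eq_bot_of_lt_left (m q t : ℕ) (h : m < t) :
    CAlgX.minorIdeal (genMatrix K m q) t = ⊥ := by
  unfold CAlgX.minorIdeal
  rw [Ideal.span_eq_bot]
  rintro _ ⟨⟨f, g⟩, rfl⟩
  obtain ⟨s, s', hne, heq⟩ := Fintype.exists_ne_map_eq_of_card_lt f (by simpa using h)
  apply Matrix.det_zero_of_row_eq hne
  ext c
  simp only [Matrix.submatrix_apply, heq]

theorem minorIdeal_eq_bot_of_lt_right (m q t : ℕ) (h : q < t) :
    CAlgX.minorIdeal (genMatrix K m q) t = ⊥ := by
  unfold CAlgX.minorIdeal
  rw [Ideal.span_eq_bot]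
  rintro _ ⟨⟨f, g⟩, rfl⟩
  obtain ⟨s, s', hne, heq⟩ := Fintype.exists_ne_map_eq_of_card_lt g (by simpa using h)
  apply Matrix.det_zero_of_column_eq hne
  intro c
  simp only [Matrix.submatrix_apply, heq]

theorem pairingMap_injective_of_le_left (m n q : ℕ) (h : m ≤ n) :
    Function.Injective (pairingMap K n m q) := by
  set ψ : PairRing K n m q →ₐ[K] MvPolynomial (Fin m × Fin q) K :=
    aeval (Sum.elim
      (fun p : Fin m × Fin n => if p.1.val = p.2.val then (1 : MvPolynomial (Fin m × Fin q) K) else 0)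
      (fun p : Fin n × Fin q => if h : p.1.val < m then X (⟨p.1.val, h⟩, p.2) else 0)) with hψ
  have hcomp : ψ.comp (pairingMap K n m q) = AlgHom.id K _ := by
    apply MvPolynomial.algHom_ext
    rintro ⟨i, j⟩
    rw [AlgHom.comp_apply, AlgHom.id_apply]
    simp only [pairingMap, aeval_X, map_sum, map_mul, hψ, Sum.elim_inl, Sum.elim_inr]
    rw [Finset.sum_eq_single (⟨i.val, lt_of_lt_of_le i.isLt h⟩ : Fin n)]
    · simp
    · intro k _ hk
      rw [if_neg (fun h' => hk (Fin.ext h'.symm)), zero_mul]
    · intro h'; exact absurd (Finset.mem_univ _) h'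
  intro a b hab
  have := congrArg ψ hab
  rwa [← AlgHom.comp_apply, ← AlgHom.comp_apply, hcomp] at this

theorem pairingMap_injective_of_le_right (m n q : ℕ) (h : q ≤ n) :
    Function.Injective (pairingMap K n m q) := by
  set ψ : PairRing K n m q →ₐ[K] MvPolynomial (Fin m × Fin q) K :=
    aeval (Sum.elim
      (fun p : Fin m × Fin n => if h : p.2.val < q then X (p.1, ⟨p.2.val, h⟩) else 0)
      (fun p : Fin n × Fin q =>
        if p.1.val = p.2.val then (1 : MvPolynomial (Fin m × Fin q) K) else 0)) with hψ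
  have hcomp : ψ.comp (pairingMap K n m q) = AlgHom.id K _ := by
    apply MvPolynomial.algHom_ext
    rintro ⟨i, j⟩
    rw [AlgHom.comp_apply, AlgHom.id_apply]
    simp only [pairingMap, aeval_X, map_sum, map_mul, hψ, Sum.elim_inl, Sum.elim_inr]
    rw [Finset.sum_eq_single (⟨j.val, lt_of_lt_of_le j.isLt h⟩ : Fin n)]
    · simp
    · intro k _ hk
      rw [if_neg (fun h' => hk (Fin.ext h')), mul_zero]
    · intro h'; exact absurd (Finset.mem_univ _) h'
  intro a b hab
  have := congrArg ψ hab
  rwa [← AlgHom.comp_apply, ← AlgHom.comp_apply, hcomp] at this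

variable {K}

/-- The generic point of the Schubert variety `X(wdet)` factors through a product. -/
theorem mem_minorIdeal_of_ker [Infinite K] {m n q : ℕ} (hnm : n + 1 ≤ m) (hnq : n + 1 ≤ q)
    (f : MvPolynomial (Fin m × Fin q) K) (hf : pairingMap K n m q f = 0) :
    f ∈ CAlgX.minorIdeal (genMatrix K m q) (n + 1) := by
  classical
  obtain ⟨a, rfl⟩ : ∃ a, q = a + n := ⟨q - n, by omega⟩
  have hq : 0 < a + n := by omega
  set w := wdet (a + n) m (n + 1) (Nat.succ_pos n) hnm with hw
  obtain ⟨f₀, rfl⟩ := cellRho_surjective (K := K) (d := a + n) (r := m) f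
  set f' := Dehom.hom (iota (a + n) m) f₀.totalDegree f₀ with hf'
  have h1 : cellRho K (a + n) m f' = cellRho K (a + n) m f₀ := by
    have h2 : f' - f₀ ∈ RingHom.ker (cellRho K (a + n) m).toRingHom :=
      (Ideal.span_le.2 (Set.singleton_subset_iff.2 X_iota_sub_one_mem_ker))
        (Dehom.hom_sub_mem (K := K) (iota (a + n) m) (le_refl f₀.totalDegree))
    rw [RingHom.mem_ker, map_sub, sub_eq_zero] at h2
    exact h2
  suffices hmem : f' ∈ schubertVanishing K (a + n) (a + n + m) w by
    have h2 : f' ∈ (CAlgX.minorIdeal (genMatrix K m (a + n)) (n + 1)).comap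
        (cellRho K (a + n) m).toRingHom := by
      rw [comap_minorIdeal hq (Nat.succ_pos n) hnq hnm]
      exact Ideal.mem_sup_left hmem
    rw [Ideal.mem_comap] at h2
    change cellRho K (a + n) m f' ∈ _ at h2
    rwa [h1] at h2
  rw [schubertVanishing_eq_kerP hq w, mem_kerP]
  set P : Fin (a + n + m) → Fin (a + n) → Prop := fun x t => x ≤ w.1 t with hP
  set MR := MatRing K (a + n) (a + n + m)
  set F := FractionRing MR
  apply IsFractionRing.injective MR F
  rw [map_zero]
  set GF : Matrix (Fin (a + n + m)) (Fin (a + n)) F := (genP (K := K) P).map (algebraMap MR F)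
    with hGF
  have hcomp : ∀ g : PlRing K (a + n) (a + n + m), algebraMap MR F (evalGenP P g) =
      aeval (fun θ : Idx (a + n) (a + n + m) => (GF.submatrix θ.1 id).det) g := by
    intro g
    have : (IsScalarTower.toAlgHom K MR F).comp (evalGenP (K := K) P) =
        aeval (fun θ : Idx (a + n) (a + n + m) => (GF.submatrix θ.1 id).det) := by
      apply MvPolynomial.algHom_ext
      intro θ
      rw [AlgHom.comp_apply, aeval_X]
      unfold evalGenP
      rw [aeval_X, IsScalarTower.coe_toAlgHom', RingHom.map_det]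
      rfl
    exact congrFun (congrArg DFunLike.coe this) g
  rw [hcomp]
  set B := GF.submatrix (iota (a + n) m).1 id with hB
  have hBdet : B.det ≠ 0 := by
    have h2 := hcomp (X (iota (a + n) m))
    rw [aeval_X] at h2
    rw [hB, ← h2, Ne, map_eq_zero_iff _ (IsFractionRing.injective MR F), ← mem_kerP,
      ← schubertVanishing_eq_kerP hq w]
    exact X_notMem_schubertVanishing hq w _ (botIdx_le _ w)
  have hBu : IsUnit B.det := isUnit_iff_ne_zero.2 hBdet
  set E := GF * B⁻¹ with hE
  have hsub : ∀ (M : Matrix (Fin (a + n + m)) (Fin (a + n)) F)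
      (N : Matrix (Fin (a + n)) (Fin (a + n)) F)
      (c : Fin (a + n) → Fin (a + n + m)), (M * N).submatrix c id = M.submatrix c id * N := by
    intro M N c
    rw [Matrix.submatrix_mul _ _ c id id Function.bijective_id, Matrix.submatrix_id_id]
  have hEw : E.submatrix (iota (a + n) m).1 id = 1 := by
    rw [hE, hsub, ← hB, Matrix.mul_nonsing_inv _ hBu]
  have hAE : GF = E * B := by
    rw [hE, Matrix.mul_assoc, Matrix.nonsing_inv_mul _ hBu, Matrix.mul_one]
  have hminor : (fun θ : Idx (a + n) (a + n + m) => (GF.submatrix θ.1 id).det) =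
      fun θ => B.det * (E.submatrix θ.1 id).det := by
    funext θ
    conv_lhs => rw [hAE]
    rw [hsub, Matrix.det_mul, mul_comm]
  rw [hminor, aeval_mul_of_isHomogeneous (Dehom.hom_isHomogeneous (iota (a + n) m) _ f₀),
    eq_cellPtT (K := K) E hEw, aeval_minors_cellPtT, h1]
  -- factorisation of the point
  set U₀ : Fin m → Fin n → F := fun i l =>
    GF ⟨a + n + i.val, by omega⟩ (Fin.natAdd a l) with hU₀
  set W₀ : Fin n → Fin (a + n) → F := fun l j => B⁻¹ (Fin.natAdd a l) j with hW₀
  set ev : PairRing K n m (a + n) →ₐ[K] F :=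
    aeval (Sum.elim (fun p : Fin m × Fin n => U₀ p.1 p.2) (fun p : Fin n × Fin (a + n) => W₀ p.1 p.2))
    with hev
  have hz : ∀ (i : Fin m) (j : Fin (a + n)),
      E ⟨a + n + i.val, by omega⟩ j = ∑ l : Fin n, U₀ i l * W₀ l j := by
    intro i j
    rw [hE, Matrix.mul_apply, Fin.sum_univ_add]
    have hz0 : ∀ k : Fin a, GF ⟨a + n + i.val, by omega⟩ (Fin.castAdd n k) = 0 := by
      intro k
      rw [hGF, Matrix.map_apply, genP, Matrix.of_apply, if_neg, map_zero]
      rw [hP]
      simp only [hw, wdet, Fin.le_def, Fin.coe_castAdd]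
      have := k.isLt
      rw [if_pos (by omega)]
      omega
    simp only [hz0, zero_mul, Finset.sum_const_zero, zero_add]
    rfl
  have hevp : ∀ g : MvPolynomial (Fin m × Fin (a + n)) K,
      ev (pairingMap K n m (a + n) g) =
        aeval (fun p : Fin m × Fin (a + n) => E ⟨a + n + p.1.val, by omega⟩ p.2) g := by
    intro g
    have : ev.comp (pairingMap K n m (a + n)) =
        aeval (fun p : Fin m × Fin (a + n) => E ⟨a + n + p.1.val, by omega⟩ p.2) := by
      apply MvPolynomial.algHom_ext
      rintro ⟨i, j⟩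
      rw [AlgHom.comp_apply, aeval_X, hz]
      simp only [pairingMap, aeval_X, map_sum, map_mul, hev, Sum.elim_inl, Sum.elim_inr]
    exact congrFun (congrArg DFunLike.coe this) g
  rw [← hevp, hf, map_zero, mul_zero]

variable (K)

theorem ker_pairingMap [Infinite K] (m n q : ℕ) :
    RingHom.ker (pairingMap K n m q).toRingHom = CAlgX.minorIdeal (genMatrix K m q) (n + 1) := by
  by_cases h : n + 1 ≤ m ∧ n + 1 ≤ q
  · refine le_antisymm (fun f hf => mem_minorIdeal_of_ker h.1 h.2 f hf) (minorIdeal_le_ker K m n q)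
  · have hinj : Function.Injective (pairingMap K n m q) := by
      by_cases h1 : n + 1 ≤ m
      · exact pairingMap_injective_of_le_right K m n q (by omega)
      · exact pairingMap_injective_of_le_left K m n q (by omega)
    have hbot : CAlgX.minorIdeal (genMatrix K m q) (n + 1) = ⊥ := by
      by_cases h1 : n + 1 ≤ m
      · exact minorIdeal_eq_bot_of_lt_right K m q _ (by omega)
      · exact minorIdeal_eq_bot_of_lt_left K m q _ (by omega)
    rw [hbot]
    exact (RingHom.injective_iff_ker_eq_bot _).1 hinj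

end Groth.Agent.Lib.Helper18.Plucker
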