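import Mathlib

/-! # A multilinear map vanishing on adjacent equal arguments is alternating -/

set_option autoImplicit false

namespace Groth.Agent.Lib.Helper18.Plucker

open Equiv

variable {K V W : Type*} [CommRing K] [AddCommGroup V] [Module K V] [AddCommGroup W] [Module K W]
  {m : ℕ}

theorem map_comp_swap_adjacent (f : MultilinearMap K (fun _ : Fin (m + 1) => V) W)
    (hadj : ∀ (v : Fin (m + 1) → V) (a : Fin m), v a.castSucc = v a.succ → f v = 0)
    (v : Fin (m + 1) → V) (a : Fin m) :
    f (v ∘ (swap a.castSucc a.succ : Perm (Fin (m + 1)))) = - f v := by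
  have hne : a.castSucc ≠ a.succ := (Fin.castSucc_lt_succ).ne
  set x := v a.castSucc with hx
  set y := v a.succ with hy
  let w : V → V → (Fin (m + 1) → V) := fun z z' =>
    Function.update (Function.update v a.castSucc z) a.succ z'
  have hw1 : w x y = v := by
    simp only [w, hx, hy, Function.update_eq_self]
  have hw2 : w y x = v ∘ (swap a.castSucc a.succ : Perm (Fin (m + 1))) := by
    funext t
    simp only [w, Function.comp_apply]
    by_cases h1 : t = a.succ
    · rw [h1, Function.update_self, swap_apply_right]
    · rw [Function.update_of_ne h1]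
      by_cases h2 : t = a.castSucc
      · rw [h2, Function.update_self, swap_apply_left]
      · rw [Function.update_of_ne h2, swap_apply_of_ne_of_ne h2 h1]
  have hzz : ∀ z : V, f (w z z) = 0 := by
    intro z
    apply hadj _ a
    simp only [w]
    rw [Function.update_self, Function.update_of_ne hne, Function.update_self]
  have hexp : f (w (x + y) (x + y)) = f (w x x) + f (w x y) + (f (w y x) + f (w y y)) := by
    simp only [w]
    rw [f.map_update_add, Function.update_comm hne (x + y) x v, Function.update_comm hne (x + y) y v,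
      f.map_update_add, f.map_update_add, Function.update_comm hne.symm x x v,
      Function.update_comm hne.symm x y v, Function.update_comm hne.symm y x v,
      Function.update_comm hne.symm y y v]
    abel
  rw [hzz, hzz, hzz, hw1, hw2, zero_add, add_zero] at hexp
  exact eq_neg_of_add_eq_zero_right hexp.symm

theorem map_comp_perm_of_adjacent (f : MultilinearMap K (fun _ : Fin (m + 1) => V) W)
    (hadj : ∀ (v : Fin (m + 1) → V) (a : Fin m), v a.castSucc = v a.succ → f v = 0)
    (σ : Perm (Fin (m + 1))) (v : Fin (m + 1) → V) :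
    f (v ∘ σ) = (Perm.sign σ : ℤ) • f v := by
  have hmem : σ ∈ Submonoid.closure
      (Set.range fun i : Fin m => (swap i.castSucc i.succ : Perm (Fin (m + 1)))) := by
    rw [Equiv.Perm.mclosure_swap_castSucc_succ]; trivial
  induction hmem using Submonoid.closure_induction generalizing v with
  | mem τ hτ =>
    obtain ⟨a, rfl⟩ := hτ
    rw [map_comp_swap_adjacent f hadj, Perm.sign_swap (Fin.castSucc_lt_succ).ne]
    simp
  | one => simp
  | mul σ τ _ _ hσ hτ =>
    have : v ∘ ⇑(σ * τ) = (v ∘ σ) ∘ τ := by
      funext t; simp [Perm.mul_apply]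
    rw [this, hτ, hσ, Perm.sign_mul, smul_smul]
    congr 1
    push_cast
    ring

theorem map_eq_zero_of_eq_of_adjacent (f : MultilinearMap K (fun _ : Fin (m + 1) => V) W)
    (hadj : ∀ (v : Fin (m + 1) → V) (a : Fin m), v a.castSucc = v a.succ → f v = 0)
    (v : Fin (m + 1) → V) (a b : Fin (m + 1)) (hab : a ≠ b) (h : v a = v b) : f v = 0 := by
  -- `m ≥ 1` since there are two distinct indices
  obtain ⟨m', rfl⟩ : ∃ m', m = m' + 1 := by
    rcases m with _ | m'
    · exact absurd (Fin.ext (by have := a.isLt; have := b.isLt; omega)) hab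
    · exact ⟨m', rfl⟩
  -- a permutation sending `0 ↦ a`, `1 ↦ b`
  set z : Fin (m' + 1) := 0 with hz
  obtain ⟨σ, hσ0, hσ1⟩ : ∃ σ : Perm (Fin (m' + 2)), σ z.castSucc = a ∧ σ z.succ = b := by
    have h01 : z.castSucc ≠ z.succ := (Fin.castSucc_lt_succ).ne
    set b' := swap z.castSucc a b with hb'
    have hb0 : z.castSucc ≠ b' := by
      intro hh
      have h3 : swap z.castSucc a z.castSucc = swap z.castSucc a b' := congrArg _ hh
      rw [swap_apply_left, hb', swap_apply_self] at h3
      exact hab h3
    refine ⟨swap z.castSucc a * swap z.succ b', ?_, ?_⟩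
    · rw [Perm.mul_apply, swap_apply_of_ne_of_ne h01 hb0, swap_apply_left]
    · rw [Perm.mul_apply, swap_apply_left, hb', swap_apply_self]
  have h1 := map_comp_perm_of_adjacent f hadj σ v
  have h2 : f (v ∘ σ) = 0 := by
    apply hadj _ z
    simp only [Function.comp_apply, hσ0, hσ1, h]
  rw [h2] at h1
  have hunit : ((Perm.sign σ : ℤ) • f v = 0) := h1.symm
  rcases Int.units_eq_one_or (Perm.sign σ) with hs | hs
  · rw [hs] at hunit; simpa using hunit
  · rw [hs] at hunit; simpa using hunit

end Groth.Agent.Lib.Helper18.Plucker
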