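import Mathlib
import Groth.Prelude.Def_W4bk4grassmannianPl

/-! # Alternating functions on tuples of indices and signed Plücker coordinates -/

set_option autoImplicit false

namespace Groth.Agent.Lib.Helper18.Plucker

open W4bk4grassmannian Equiv

variable {K : Type*} [CommRing K] {d n : ℕ}

/-- The sign of a permutation as an element of `K`. -/
def sg (σ : Perm (Fin d)) : K := ((Perm.sign σ : ℤ) : K)

theorem sg_mul (σ τ : Perm (Fin d)) : (sg (σ * τ) : K) = sg σ * sg τ := by
  simp [sg]

theorem sg_one : (sg (1 : Perm (Fin d)) : K) = 1 := by simp [sg]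

theorem sg_mul_self (σ : Perm (Fin d)) : (sg σ : K) * sg σ = 1 := by
  unfold sg
  rw [← Int.cast_mul, ← Units.val_mul, Int.units_mul_self]
  simp

theorem sg_inv (σ : Perm (Fin d)) : (sg σ⁻¹ : K) = sg σ := by
  simp [sg]

theorem sg_symm (σ : Perm (Fin d)) : (sg σ.symm : K) = sg σ := sg_inv σ

/-- Alternating functions on `d`-tuples of indices. -/
structure IsAlt (F : (Fin d → Fin n) → K) : Prop where
  perm : ∀ (a : Fin d → Fin n) (σ : Perm (Fin d)), F (a ∘ σ) = sg σ * F a
  zero : ∀ a, ¬ Function.Injective a → F a = 0

theorem IsAlt.eq_sg_mul {F : (Fin d → Fin n) → K} (hF : IsAlt F) (a : Fin d → Fin n)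
    (σ : Perm (Fin d)) : F a = sg σ * F (a ∘ σ) := by
  rw [hF.perm, ← mul_assoc, sg_mul_self, one_mul]

/-- Two alternating functions which agree on increasing tuples are equal. -/
theorem IsAlt.ext {F G : (Fin d → Fin n) → K} (hF : IsAlt F) (hG : IsAlt G)
    (h : ∀ a, StrictMono a → F a = G a) : F = G := by
  funext a
  by_cases ha : Function.Injective a
  · have hm : StrictMono (a ∘ Tuple.sort a) :=
      (Tuple.monotone_sort a).strictMono_of_injective (ha.comp (Tuple.sort a).injective)
    rw [hF.eq_sg_mul a (Tuple.sort a), hG.eq_sg_mul a (Tuple.sort a), h _ hm]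
  · rw [hF.zero a ha, hG.zero a ha]

theorem card_image_eq_iff (a : Fin d → Fin n) :
    (Finset.univ.image a).card = d ↔ Function.Injective a := by
  constructor
  · intro h
    have := Finset.card_image_iff.1 (by rw [h, Finset.card_univ, Fintype.card_fin] :
      (Finset.univ.image a).card = (Finset.univ : Finset (Fin d)).card)
    exact fun x y hxy => this (Finset.mem_coe.2 (Finset.mem_univ x)) (Finset.mem_coe.2 (Finset.mem_univ y)) hxy
  · intro h
    rw [Finset.card_image_of_injective _ h, Finset.card_univ, Fintype.card_fin]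

theorem sortIdx_congr {a b : Fin d → Fin n} (ha : (Finset.univ.image a).card = d)
    (hb : (Finset.univ.image b).card = d) (hab : Finset.univ.image a = Finset.univ.image b) :
    sortIdx d n a ha = sortIdx d n b hb := by
  apply Subtype.ext
  show (fun t => Finset.orderEmbOfFin _ ha t) = _
  apply Finset.orderEmbOfFin_unique hb
  · intro x
    rw [← hab]
    exact Finset.orderEmbOfFin_mem _ ha x
  · exact (Finset.orderEmbOfFin _ ha).strictMono

theorem sortIdx_of_strictMono (θ : Idx d n) (h : (Finset.univ.image θ.1).card = d) :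
    sortIdx d n θ.1 h = θ := by
  apply Subtype.ext
  symm
  apply Finset.orderEmbOfFin_unique h
  · intro x
    exact Finset.mem_image_of_mem _ (Finset.mem_univ x)
  · exact θ.2

/-- The antisymmetric comparison function used to compute the inversion sign. -/
def cmp (a : Fin d → Fin n) (i j : Fin d) : K :=
  if a i < a j then 1 else if a j < a i then -1 else 0

theorem cmp_antisymm (a : Fin d → Fin n) (i j : Fin d) : (cmp a i j : K) = - cmp a j i := by
  unfold cmp
  rcases lt_trichotomy (a i) (a j) with h | h | h
  · rw [if_pos h, if_neg (not_lt.2 h.le), if_pos h, neg_neg]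
  · rw [h]; simp
  · rw [if_neg (not_lt.2 h.le), if_pos h, if_pos h]

theorem neg_one_pow_invCount (a : Fin d → Fin n) (ha : Function.Injective a) :
    ((-1 : K) ^ invCount d n a) = ∏ j, ∏ i ∈ Finset.Iio j, cmp a i j := by
  have h1 : ∀ j : Fin d, ∏ i ∈ Finset.Iio j, (cmp a i j : K) =
      ∏ i, if i < j ∧ a j < a i then (-1 : K) else 1 := by
    intro j
    have : (Finset.Iio j) = Finset.univ.filter (fun i => i < j) := by
      ext i; simp
    rw [this, Finset.prod_filter]
    refine Finset.prod_congr rfl fun i _ => ?_
    by_cases hij : i < j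
    · rw [if_pos hij]
      unfold cmp
      rcases lt_trichotomy (a i) (a j) with h | h | h
      · rw [if_pos h, if_neg (fun h' => absurd h'.2 (not_lt.2 h.le))]
      · exact absurd (ha h) hij.ne
      · rw [if_neg (not_lt.2 h.le), if_pos h, if_pos ⟨hij, h⟩]
    · rw [if_neg hij, if_neg (fun h' => hij h'.1)]
  simp_rw [h1]
  rw [Finset.prod_comm, ← Fintype.prod_prod_type' (f := fun i j : Fin d =>
    if i < j ∧ a j < a i then (-1 : K) else 1)]
  rw [Finset.prod_ite, Finset.prod_const_one, mul_one, Finset.prod_const]
  rfl

theorem neg_one_pow_invCount_comp (a : Fin d → Fin n) (ha : Function.Injective a)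
    (σ : Perm (Fin d)) :
    ((-1 : K) ^ invCount d n (a ∘ σ)) = sg σ * (-1 : K) ^ invCount d n a := by
  rw [neg_one_pow_invCount a ha, neg_one_pow_invCount (a ∘ σ) (ha.comp σ.injective)]
  exact Equiv.Perm.prod_Iio_comp_eq_sign_mul_prod σ (cmp_antisymm a)

theorem invCount_of_strictMono (θ : Idx d n) : invCount d n θ.1 = 0 := by
  unfold invCount
  rw [Finset.card_eq_zero, Finset.filter_eq_empty_iff]
  rintro ⟨i, j⟩ _ ⟨hij, h⟩
  exact absurd (θ.2 hij) (not_lt.2 h.le)

/-- The alternating extension of a function on increasing tuples. -/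
noncomputable def altExt (Q : Idx d n → K) (a : Fin d → Fin n) : K :=
  if h : (Finset.univ.image a).card = d then (-1 : K) ^ invCount d n a * Q (sortIdx d n a h) else 0

theorem altExt_of_strictMono (Q : Idx d n → K) (θ : Idx d n) : altExt Q θ.1 = Q θ := by
  have h : (Finset.univ.image θ.1).card = d := (card_image_eq_iff _).2 θ.2.injective
  rw [altExt, dif_pos h, invCount_of_strictMono, pow_zero, one_mul, sortIdx_of_strictMono]

theorem isAlt_altExt (Q : Idx d n → K) : IsAlt (altExt Q) where
  perm a σ := by
    by_cases ha : Function.Injective a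
    · have h1 : (Finset.univ.image a).card = d := (card_image_eq_iff _).2 ha
      have h2 : (Finset.univ.image (a ∘ σ)).card = d :=
        (card_image_eq_iff _).2 (ha.comp σ.injective)
      have himg : Finset.univ.image (a ∘ σ) = Finset.univ.image a := by
        ext x
        simp only [Finset.mem_image, Finset.mem_univ, true_and, Function.comp_apply]
        constructor
        · rintro ⟨t, rfl⟩; exact ⟨σ t, rfl⟩
        · rintro ⟨t, rfl⟩; exact ⟨σ.symm t, by simp⟩
      rw [altExt, dif_pos h2, altExt, dif_pos h1, sortIdx_congr h2 h1 himg,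
        neg_one_pow_invCount_comp a ha, mul_assoc]
    · have h1 : ¬ (Finset.univ.image a).card = d := fun h => ha ((card_image_eq_iff _).1 h)
      have h2 : ¬ (Finset.univ.image (a ∘ σ)).card = d := fun h =>
        ha (by
          have := (card_image_eq_iff _).1 h
          have h3 : a = (a ∘ σ) ∘ σ.symm := by ext; simp
          rw [h3]
          exact this.comp σ.symm.injective)
      rw [altExt, dif_neg h2, altExt, dif_neg h1, mul_zero]
  zero a ha := by
    rw [altExt, dif_neg (fun h => ha ((card_image_eq_iff _).1 h))]

theorem eval_coord (q : Idx d n → K) (a : Fin d → Fin n) :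
    MvPolynomial.eval q (coord K d n a) = altExt q a := by
  unfold coord altExt
  split_ifs with h
  · simp
  · simp

/-- Minors of a matrix form an alternating function. -/
theorem isAlt_minor (A : Matrix (Fin n) (Fin d) K) :
    IsAlt (fun a : Fin d → Fin n => (A.submatrix a id).det) where
  perm a σ := by
    have : A.submatrix (a ∘ σ) id = (A.submatrix a id).submatrix σ id := rfl
    rw [this, Matrix.det_permute]
    rfl
  zero a ha := by
    obtain ⟨x, y, hxy, hne⟩ := Function.not_injective_iff.1 ha
    exact Matrix.det_zero_of_row_eq hne (by ext t; simp [Matrix.submatrix, hxy])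

end Groth.Agent.Lib.Helper18.Plucker
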