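import Groth.Agent.Lib.Helper18.Plucker.Shuffle

/-! # Straightening: standard monomials span modulo the shuffle relations -/

set_option autoImplicit false

namespace Groth.Agent.Lib.Helper18.Plucker

open W4bk4grassmannian Equiv MvPolynomial

variable (K : Type*) [CommRing K] {d n : ℕ}

/-- The monomial of a multiset of indices. -/
noncomputable def mon (M : Multiset (Idx d n)) : PlRing K d n := (M.map X).prod

theorem mon_cons (τ : Idx d n) (M : Multiset (Idx d n)) : mon K (τ ::ₘ M) = X τ * mon K M := by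
  simp [mon]

theorem mon_zero : mon K (0 : Multiset (Idx d n)) = 1 := by simp [mon]

theorem mon_add (M N : Multiset (Idx d n)) : mon K (M + N) = mon K M * mon K N := by
  simp [mon]

/-- The span of the standard monomials in the quotient. -/
noncomputable def Sp : Submodule K (PlRing K d n ⧸ plIdealTop (d := d) (n := n) K) :=
  Submodule.span K (Set.range fun c : (Σ m : ℕ, {c : Fin m → Idx d n // Antitone c}) =>
    Ideal.Quotient.mk (plIdealTop (d := d) (n := n) K) (chainMon K c.2.1))

variable {K}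

theorem rsum_le_of_le {τ φ : Idx d n} (h : τ ≤ φ) : rsum τ.1 ≤ rsum φ.1 :=
  Finset.sum_le_sum fun t _ => h t

theorem eq_of_le_of_rsum_le {τ φ : Idx d n} (h : τ ≤ φ) (hs : rsum φ.1 ≤ rsum τ.1) : τ = φ := by
  have h1 : ∀ t ∈ Finset.univ, ((τ.1 t : Fin n) : ℕ) ≤ (φ.1 t : ℕ) := fun t _ => h t
  have h2 := (Finset.sum_eq_sum_iff_of_le h1).1 (le_antisymm (rsum_le_of_le h) hs)
  apply Subtype.ext
  funext t
  exact Fin.ext (h2 t (Finset.mem_univ t))

theorem exists_list_of_chain (M : Multiset (Idx d n))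
    (hM : ∀ τ ∈ M, ∀ φ ∈ M, τ ≤ φ ∨ φ ≤ τ) :
    ∃ l : List (Idx d n), (l : Multiset (Idx d n)) = M ∧ l.Pairwise (fun a b => b ≤ a) := by
  induction' hc : Multiset.card M with k ih generalizing M
  · rw [Multiset.card_eq_zero] at hc
    exact ⟨[], by simp [hc], List.Pairwise.nil⟩
  · have hne : M.toFinset.Nonempty := by
      rw [Finset.nonempty_iff_ne_empty, Ne, Multiset.toFinset_eq_empty]
      intro h0
      rw [h0] at hc
      simp at hc
    obtain ⟨τ, hτ, hmax⟩ := M.toFinset.exists_max_image (fun τ => rsum τ.1) hne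
    rw [Multiset.mem_toFinset] at hτ
    have hM' : M = τ ::ₘ M.erase τ := (Multiset.cons_erase hτ).symm
    obtain ⟨l', hl', hp'⟩ := ih (M.erase τ)
      (fun a ha b hb => hM a (Multiset.mem_of_mem_erase ha) b (Multiset.mem_of_mem_erase hb))
      (by rw [Multiset.card_erase_of_mem hτ, hc]; rfl)
    refine ⟨τ :: l', ?_, ?_⟩
    · rw [← Multiset.cons_coe, hl']
      exact hM'.symm
    · rw [List.pairwise_cons]
      refine ⟨fun φ hφ => ?_, hp'⟩
      have hφM : φ ∈ M := by
        have : φ ∈ M.erase τ := by rw [← hl']; exact hφ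
        exact Multiset.mem_of_mem_erase this
      rcases hM τ hτ φ hφM with h | h
      · have := hmax φ (Multiset.mem_toFinset.2 hφM)
        rw [eq_of_le_of_rsum_le h this]
      · exact h

theorem mk_mon_mem_of_chain (M : Multiset (Idx d n))
    (hM : ∀ τ ∈ M, ∀ φ ∈ M, τ ≤ φ ∨ φ ≤ τ) :
    Ideal.Quotient.mk (plIdealTop (d := d) (n := n) K) (mon K M) ∈ Sp K := by
  obtain ⟨l, hl, hp⟩ := exists_list_of_chain M hM
  refine Submodule.subset_span ⟨⟨l.length, ⟨fun k => l.get k, ?_⟩⟩, ?_⟩
  · intro a b hab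
    rcases hab.lt_or_eq with h | h
    · exact (List.pairwise_iff_get.1 hp) a b h
    · rw [h]
  · simp only
    congr 1
    unfold chainMon mon
    have hmap : (l.map (X : Idx d n → PlRing K d n)) =
        List.ofFn (fun k : Fin l.length => (X (l.get k) : PlRing K d n)) := by
      conv_lhs => rw [← List.ofFn_get l]
      rw [List.map_ofFn]
      rfl
    rw [← hl, Multiset.map_coe, Multiset.prod_coe, hmap, List.prod_ofFn]

theorem coord_cases (a : Fin d → Fin n) :
    coord K d n a = 0 ∨ ∃ θ : Idx d n, rsum θ.1 = rsum a ∧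
      coord K d n a = ((-1 : K) ^ invCount d n a) • X θ := by
  unfold coord
  split_ifs with h
  · right
    refine ⟨sortIdx d n a h, rsum_sortIdx a h, ?_⟩
    rw [smul_eq_C_mul, map_pow, map_neg, map_one]
  · left; rfl

theorem coord_of_idx (θ : Idx d n) : coord K d n θ.1 = X θ := by
  have h : (Finset.univ.image θ.1).card = d := (card_image_eq_iff _).2 θ.2.injective
  unfold coord
  rw [dif_pos h, invCount_of_strictMono, pow_zero, one_mul, sortIdx_of_strictMono]

/-- The measure: sum of squares of the row sums. -/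
def mu (M : Multiset (Idx d n)) : ℕ := (M.map fun τ => (rsum τ.1) ^ 2).sum

theorem rsum_le (a : Fin d → Fin n) : rsum a ≤ d * n := by
  unfold rsum
  calc ∑ t, (a t : ℕ) ≤ ∑ _t : Fin d, n := Finset.sum_le_sum fun t _ => (a t).isLt.le
    _ = d * n := by simp

theorem mu_le (M : Multiset (Idx d n)) : mu M ≤ Multiset.card M * (d * n) ^ 2 := by
  unfold mu
  have := Multiset.sum_le_card_nsmul (M.map fun τ : Idx d n => (rsum τ.1) ^ 2) ((d * n) ^ 2) ?_
  · simpa using this
  · intro x hx
    obtain ⟨τ, _, rfl⟩ := Multiset.mem_map.1 hx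
    exact Nat.pow_le_pow_left (rsum_le τ.1) 2

/-- The main induction: every monomial is in the span of the standard monomials. -/
theorem mk_mon_mem (M : Multiset (Idx d n)) :
    Ideal.Quotient.mk (plIdealTop (d := d) (n := n) K) (mon K M) ∈ Sp K := by
  induction' hk : Multiset.card M * (d * n) ^ 2 - mu M using Nat.strong_induction_on
    with k ih generalizing M
  by_cases hM : ∀ τ ∈ M, ∀ φ ∈ M, τ ≤ φ ∨ φ ≤ τ
  · exact mk_mon_mem_of_chain M hM
  push_neg at hM
  obtain ⟨τ, hτ, φ, hφ, h1, h2⟩ := hM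
  -- choose roles
  obtain ⟨i, j, hi, hj, hij, hji, hsum⟩ : ∃ i j : Idx d n, i ∈ M ∧ j ∈ M ∧ ¬ i ≤ j ∧ ¬ j ≤ i ∧
      rsum j.1 ≤ rsum i.1 := by
    rcases le_total (rsum φ.1) (rsum τ.1) with h | h
    · exact ⟨τ, φ, hτ, hφ, h1, h2, h⟩
    · exact ⟨φ, τ, hφ, hτ, h2, h1, h⟩
  have hne : i ≠ j := fun h => hij (h ▸ le_refl _)
  obtain ⟨N, hN⟩ : ∃ N, M = i ::ₘ j ::ₘ N := by
    refine ⟨(M.erase i).erase j, ?_⟩
    have hj' : j ∈ M.erase i := (Multiset.mem_erase_of_ne (Ne.symm hne)).2 hj
    rw [Multiset.cons_erase hj', Multiset.cons_erase hi]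
  -- the pivot
  have hex : (Finset.univ.filter fun t : Fin d => i.1 t < j.1 t).Nonempty := by
    by_contra hemp
    rw [Finset.not_nonempty_iff_eq_empty, Finset.filter_eq_empty_iff] at hemp
    exact hji fun t => not_lt.1 (hemp (Finset.mem_univ t))
  set r := (Finset.univ.filter fun t : Fin d => i.1 t < j.1 t).min' hex with hr
  have hr1 : i.1 r < j.1 r := (Finset.mem_filter.1 (Finset.min'_mem _ hex)).2
  have hr2 : ∀ t : Fin d, t < r → j.1 t ≤ i.1 t := by
    intro t ht
    by_contra hlt
    have : t ∈ Finset.univ.filter fun t : Fin d => i.1 t < j.1 t :=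
      Finset.mem_filter.2 ⟨Finset.mem_univ t, not_le.1 hlt⟩
    exact absurd (Finset.min'_le _ t this) (not_le.2 ht)
  have hpiv : IsPivot i j r := ⟨hr2, hr1⟩
  have hrel : shuffleRel K i j r ∈ plIdealTop (d := d) (n := n) K :=
    Ideal.subset_span ⟨i, j, r, hpiv, rfl⟩
  have h0 := card_initSeg (d := d) r
  -- the identity term
  set ε₀ : PlRing K d n := (-1 : PlRing K d n) ^ shuffleSign r (initSeg r) with hε₀
  have hεε : ε₀ * ε₀ = 1 := by
    rw [hε₀, ← mul_pow]; simp
  have hid : shuffleTerm K i j r (initSeg r) = ε₀ * (X i * X j) := by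
    unfold shuffleTerm
    rw [dif_pos h0, shuffleI_initSeg, shuffleJ_initSeg, coord_of_idx, coord_of_idx, mul_assoc]
  have hsplit : shuffleRel K i j r = shuffleTerm K i j r (initSeg r) +
      ∑ A ∈ Finset.univ.erase (initSeg r), shuffleTerm K i j r A := by
    unfold shuffleRel
    rw [Finset.add_sum_erase _ _ (Finset.mem_univ _)]
  have hXX : X i * X j = ε₀ * shuffleRel K i j r -
      ∑ A ∈ Finset.univ.erase (initSeg r), ε₀ * shuffleTerm K i j r A := by
    rw [hsplit, hid, mul_add, ← mul_assoc, hεε, one_mul, ← Finset.mul_sum]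
    ring
  rw [hN, mon_cons, mon_cons, ← mul_assoc, hXX, sub_mul, map_sub, Finset.sum_mul, map_sum]
  refine Submodule.sub_mem _ ?_ (Submodule.sum_mem _ fun A hA => ?_)
  · have : ε₀ * shuffleRel K i j r * mon K N ∈ plIdealTop (d := d) (n := n) K :=
      Ideal.mul_mem_right _ _ (Ideal.mul_mem_left _ _ hrel)
    rw [Ideal.Quotient.eq_zero_iff_mem.2 this]
    exact Submodule.zero_mem _
  · have hAne : A ≠ initSeg r := (Finset.mem_erase.1 hA).1
    unfold shuffleTerm
    split_ifs with hAc
    · rcases coord_cases (K := K) (shuffleI i j r A hAc) with hI | ⟨i', hi', hI⟩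
      · rw [hI]; simp
      rcases coord_cases (K := K) (shuffleJ i j r A hAc) with hJ | ⟨j', hj', hJ⟩
      · rw [hJ]; simp
      rw [hI, hJ]
      have hform : ε₀ * ((-1 : PlRing K d n) ^ shuffleSign r A *
          ((-1 : K) ^ invCount d n (shuffleI i j r A hAc) • X i') *
          ((-1 : K) ^ invCount d n (shuffleJ i j r A hAc) • X j')) * mon K N =
          ((-1 : K) ^ shuffleSign r (initSeg r) * (-1 : K) ^ shuffleSign r A *
            (-1 : K) ^ invCount d n (shuffleI i j r A hAc) *
            (-1 : K) ^ invCount d n (shuffleJ i j r A hAc)) • mon K (i' ::ₘ j' ::ₘ N) := by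
        rw [mon_cons, mon_cons, hε₀]
        simp only [smul_eq_C_mul, map_mul, map_pow, map_neg, map_one]
        ring
      rw [hform, ← Ideal.Quotient.mkₐ_eq_mk K, map_smul, Ideal.Quotient.mkₐ_eq_mk]
      refine Submodule.smul_mem _ _ ?_
      -- the measure increases
      have e1 := rsum_shuffle_add i j r A hAc
      have e2 := rsum_shuffleI_lt i j r hr1 A hAc hAne
      rw [← hi'] at e1 e2
      rw [← hj'] at e1
      have hmu : mu (i ::ₘ j ::ₘ N) < mu (i' ::ₘ j' ::ₘ N) := by
        unfold mu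
        simp only [Multiset.map_cons, Multiset.sum_cons]
        have : rsum i.1 ^ 2 + rsum j.1 ^ 2 < rsum i'.1 ^ 2 + rsum j'.1 ^ 2 := by nlinarith
        omega
      have hcard : Multiset.card (i' ::ₘ j' ::ₘ N) = Multiset.card M := by
        rw [hN]; simp
      have hle := mu_le (i' ::ₘ j' ::ₘ N)
      refine ih (Multiset.card (i' ::ₘ j' ::ₘ N) * (d * n) ^ 2 - mu (i' ::ₘ j' ::ₘ N)) ?_ _ rfl
      rw [← hk, hcard, hN] at *
      omega
    · simp

end Groth.Agent.Lib.Helper18.Plucker

namespace Groth.Agent.Lib.Helper18.Plucker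

open W4bk4grassmannian MvPolynomial

variable (K : Type*) [CommRing K] {d n : ℕ}

theorem exists_mon_of_mem_closure (f : PlRing K d n)
    (hf : f ∈ Submonoid.closure (Set.range (X : Idx d n → PlRing K d n))) :
    ∃ M : Multiset (Idx d n), f = mon K M := by
  induction hf using Submonoid.closure_induction with
  | mem x hx =>
    obtain ⟨θ, rfl⟩ := hx
    exact ⟨{θ}, by simp [mon]⟩
  | one => exact ⟨0, (mon_zero K).symm⟩
  | mul x y _ _ hx hy =>
    obtain ⟨M, rfl⟩ := hx
    obtain ⟨N, rfl⟩ := hy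
    exact ⟨M + N, (mon_add K M N).symm⟩

theorem Sp_eq_top : Sp K (d := d) (n := n) = ⊤ := by
  rw [eq_top_iff]
  rintro x -
  obtain ⟨f, rfl⟩ := Ideal.Quotient.mk_surjective x
  have hf : f ∈ Submodule.span K
      ((Submonoid.closure (Set.range (X : Idx d n → PlRing K d n)) : Set (PlRing K d n))) := by
    rw [← Algebra.adjoin_eq_span, MvPolynomial.adjoin_range_X]
    exact Algebra.mem_top (R := K)
  have hle : Submodule.span K
      ((Submonoid.closure (Set.range (X : Idx d n → PlRing K d n)) : Set (PlRing K d n))) ≤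
      (Sp K (d := d) (n := n)).comap
        (Ideal.Quotient.mkₐ K (plIdealTop (d := d) (n := n) K)).toLinearMap := by
    rw [Submodule.span_le]
    intro g hg
    obtain ⟨M, rfl⟩ := exists_mon_of_mem_closure K g hg
    exact mk_mon_mem M
  exact hle hf

end Groth.Agent.Lib.Helper18.Plucker
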