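import Groth.Agent.Lib.Helper18.Plucker.Indep
import Groth.Agent.Lib.Helper18.Plucker.Straight

/-! # Standard monomial bases of unions of Schubert varieties -/

set_option autoImplicit false

namespace Groth.Agent.Lib.Helper18.Plucker

open W4bk4grassmannian Equiv MvPolynomial

variable {K : Type*} [Field K] {d n : ℕ}

/-- The type of chains (standard monomials). -/
abbrev Chain (d n : ℕ) : Type := Σ m : ℕ, {c : Fin m → Idx d n // Antitone c}

theorem chainMon_mem_of_X_mem (J : Ideal (PlRing K d n)) {m : ℕ} (c : Fin m → Idx d n) (k : Fin m)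
    (h : (X (c k) : PlRing K d n) ∈ J) : chainMon K c ∈ J := by
  unfold chainMon
  exact Ideal.mem_of_dvd _ (Finset.dvd_prod_of_mem _ (Finset.mem_univ k)) h

/-- Spanning: modulo an ideal containing the shuffle relations, the standard monomials
outside the ideal span. -/
theorem span_std_eq_top (J : Ideal (PlRing K d n)) (hJ : plIdealTop (d := d) (n := n) K ≤ J)
    (p : Chain d n → Prop) (hp : ∀ c : Chain d n, ¬ p c → chainMon K c.2.1 ∈ J) :
    Submodule.span K {x | ∃ c : Chain d n, p c ∧ x = Ideal.Quotient.mk J (chainMon K c.2.1)} =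
      ⊤ := by
  rw [eq_top_iff]
  rintro x -
  obtain ⟨f, rfl⟩ := Ideal.Quotient.mk_surjective x
  have hf : Ideal.Quotient.mk (plIdealTop (d := d) (n := n) K) f ∈ Sp K (d := d) (n := n) := by
    rw [Sp_eq_top]; trivial
  let φ : (PlRing K d n ⧸ plIdealTop (d := d) (n := n) K) →ₗ[K] (PlRing K d n ⧸ J) :=
    (Ideal.Quotient.factorₐ K hJ).toLinearMap
  have hφ : ∀ g, φ (Ideal.Quotient.mk _ g) = Ideal.Quotient.mk J g := fun g => rfl
  have hle : Sp K (d := d) (n := n) ≤ (Submodule.span K {x | ∃ c : Chain d n, p c ∧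
      x = Ideal.Quotient.mk J (chainMon K c.2.1)}).comap φ := by
    unfold Sp
    rw [Submodule.span_le]
    rintro _ ⟨c, rfl⟩
    rw [SetLike.mem_coe, Submodule.mem_comap, hφ]
    by_cases hc : p c
    · exact Submodule.subset_span ⟨c, hc, rfl⟩
    · rw [Ideal.Quotient.eq_zero_iff_mem.2 (hp c hc)]
      exact Submodule.zero_mem _
  have := hle hf
  rwa [Submodule.mem_comap, hφ] at this

/-- Independence: modulo an intersection of Schubert ideals, the standard monomials below one of
the `τ_i` are linearly independent. -/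
theorem std_indep [Infinite K] (hd : 0 < d) {r : ℕ} (τs : Fin r → Idx d n) {ι : Type*}
    (ch : ι → Chain d n) (hinj : Function.Injective ch)
    (hle : ∀ i, ∃ j, ∀ k, (ch i).2.1 k ≤ τs j) :
    LinearIndependent K (fun i : ι =>
      Ideal.Quotient.mk (⨅ j, schubertVanishing K d n (τs j)) (chainMon K (ch i).2.1)) := by
  classical
  rw [linearIndependent_iff']
  intro s g hsum i₀ hi₀
  have hmem : ∑ i ∈ s, g i • chainMon K (ch i).2.1 ∈ ⨅ j, schubertVanishing K d n (τs j) := by
    rw [← Ideal.Quotient.eq_zero_iff_mem, map_sum, ← hsum]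
    refine Finset.sum_congr rfl fun i _ => ?_
    rw [← Ideal.Quotient.mkₐ_eq_mk K, map_smul]
  obtain ⟨j, hj⟩ := hle i₀
  rw [Ideal.mem_iInf] at hmem
  have hmemj := hmem j
  set s₁ := s.filter fun i => ∀ k, (ch i).2.1 k ≤ τs j with hs₁
  have hsplit : ∑ i ∈ s, g i • chainMon K (ch i).2.1 =
      ∑ i ∈ s₁, g i • chainMon K (ch i).2.1 +
        ∑ i ∈ s.filter (fun i => ¬ ∀ k, (ch i).2.1 k ≤ τs j), g i • chainMon K (ch i).2.1 :=
    (Finset.sum_filter_add_sum_filter_not s _ _).symm
  have hrest : ∑ i ∈ s.filter (fun i => ¬ ∀ k, (ch i).2.1 k ≤ τs j),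
      g i • chainMon K (ch i).2.1 ∈ schubertVanishing K d n (τs j) := by
    refine Ideal.sum_mem _ fun i hi => ?_
    rw [Finset.mem_filter] at hi
    obtain ⟨k, hk⟩ := not_forall.1 hi.2
    rw [smul_eq_C_mul]
    exact Ideal.mul_mem_left _ _
      (chainMon_mem_of_X_mem _ _ k (X_mem_schubertVanishing (τs j) _ hk))
  have h1 : ∑ i ∈ s₁, g i • chainMon K (ch i).2.1 ∈ schubertVanishing K d n (τs j) := by
    have := (Ideal.add_mem_iff_left _ hrest).1 (hsplit ▸ hmemj)
    exact this
  refine indep_core hd (τs j) s₁ ch (fun a _ b _ h => hinj h) ?_ g h1 i₀ ?_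
  · intro i hi
    exact (Finset.mem_filter.1 hi).2
  · exact Finset.mem_filter.2 ⟨hi₀, hj⟩

end Groth.Agent.Lib.Helper18.Plucker
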