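import Groth.Agent.Lib.Helper18.Plucker.Skew

/-! # The least Plücker coordinate is prime on every Schubert variety -/

set_option autoImplicit false

namespace Groth.Agent.Lib.Helper18.Plucker

open W4bk4grassmannian Equiv MvPolynomial

variable {K : Type*} [Field K] {d n : ℕ}

theorem strictMono_add_le (a : Fin d → Fin n) (ha : StrictMono a) :
    ∀ (k : ℕ) (s t : Fin d), s.val + k = t.val → (a s).val + k ≤ (a t).val := by
  intro k
  induction k with
  | zero =>
    intro s t h
    have : s = t := Fin.ext (by omega)
    rw [this]; omega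
  | succ k ih =>
    intro s t h
    have ht : t.val - 1 < d := by have := t.isLt; omega
    have h1 := ih s ⟨t.val - 1, ht⟩ (by simp only; omega)
    have h2 : a ⟨t.val - 1, ht⟩ < a t := ha (by rw [Fin.lt_def]; simp only; omega)
    rw [Fin.lt_def] at h2
    omega

theorem val_le_apply (a : Fin d → Fin n) (ha : StrictMono a) (s : Fin d) :
    s.val ≤ (a s).val := by
  have hd : 0 < d := lt_of_le_of_lt (Nat.zero_le _) s.isLt
  have := strictMono_add_le a ha s.val ⟨0, hd⟩ s (by simp)
  omega

/-- The support of the generic matrix of the section of `X(w)` by the opposite Schubert divisor. -/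
def bottomP (w : Idx d n) (x : Fin n) (t : Fin d) : Prop := (t.val + 1 = d → d ≤ x.val) ∧ x ≤ w.1 t

instance (w : Idx d n) (x : Fin n) (t : Fin d) : Decidable (bottomP w x t) := by
  unfold bottomP; infer_instance

theorem sup_span_bottom_eq [Infinite K] (hd : 0 < d) (w ι : Idx d n)
    (hι : ∀ t, (ι.1 t).val = t.val) :
    schubertVanishing K d n w ⊔ Ideal.span {(X ι : PlRing K d n)} =
      kerP (K := K) (bottomP w) := by
  have hI : plIdealTop (d := d) (n := n) K ≤
      schubertVanishing K d n w ⊔ Ideal.span {(X ι : PlRing K d n)} :=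
    (plIdealTop_le_schubertVanishing w).trans le_sup_left
  have hX : (X ι : PlRing K d n) ∈ kerP (K := K) (bottomP w) := by
    rw [mem_kerP]
    unfold evalGenP
    rw [aeval_X]
    refine Matrix.det_eq_zero_of_column_eq_zero ⟨d - 1, by omega⟩ fun i => ?_
    simp only [Matrix.submatrix_apply, id, genP, Matrix.of_apply]
    rw [if_neg]
    rintro ⟨h1, -⟩
    have := h1 (by simp only; omega)
    rw [hι] at this
    have := i.isLt
    omega
  have hIJ : schubertVanishing K d n w ⊔ Ideal.span {(X ι : PlRing K d n)} ≤
      kerP (K := K) (bottomP w) := by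
    refine sup_le (schubertVanishing_le_kerP _ w fun x t h => h.2) ?_
    rw [Ideal.span_le, Set.singleton_subset_iff]
    exact hX
  refine eq_of_std _ _ hI hIJ (fun c => ∀ k t, bottomP w ((c.2.1 k).1 t) t) ?_ ?_
  · rintro ⟨m, c, hc⟩ hp
    simp only at hp ⊢
    push_neg at hp
    obtain ⟨k, t, hkt⟩ := hp
    refine chainMon_mem_of_X_mem _ _ k ?_
    by_cases hle : c k ≤ w
    · have h1 : ¬ (t.val + 1 = d → d ≤ ((c k).1 t).val) := fun h => hkt ⟨h, hle t⟩
      push_neg at h1
      obtain ⟨ht, hlt⟩ := h1
      have hck : c k = ι := by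
        apply Subtype.ext
        funext s
        apply Fin.ext
        rw [hι]
        have h2 := val_le_apply (c k).1 (c k).2 s
        have hst : s.val + (t.val - s.val) = t.val := by have := s.isLt; omega
        have h3 := strictMono_add_le (c k).1 (c k).2 (t.val - s.val) s t hst
        omega
      rw [hck]
      exact Ideal.mem_sup_right (Ideal.subset_span rfl)
    · exact Ideal.mem_sup_left (X_mem_schubertVanishing w _ hle)
  · exact std_indepP (K := K) (bottomP w) hd
      (fun c : {c : Chain d n // ∀ k t, bottomP w ((c.2.1 k).1 t) t} => c.1)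
      Subtype.val_injective (fun c => c.2)

theorem X_notMem_schubertVanishing [Infinite K] (hd : 0 < d) (w θ : Idx d n) (h : θ ≤ w) :
    (X θ : PlRing K d n) ∉ schubertVanishing K d n w := by
  rw [schubertVanishing_eq_kerP hd w, mem_kerP]
  intro h0
  have hl := lead_minorP (K := K) (fun x t => x ≤ w.1 t) θ (fun t => h t)
  unfold evalGenP at h0
  rw [aeval_X] at h0
  rw [h0] at hl
  have := hl.1
  rw [coeff_zero] at this
  exact zero_ne_one this

theorem prime_mk_X_bottom [Infinite K] (hd : 0 < d) (w ι : Idx d n)
    (hι : ∀ t, (ι.1 t).val = t.val) :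
    Prime (Ideal.Quotient.mk (schubertVanishing K d n w) (X ι : PlRing K d n)) := by
  have key := sup_span_bottom_eq (K := K) hd w ι hι
  haveI hprime : (schubertVanishing K d n w ⊔ Ideal.span {(X ι : PlRing K d n)}).IsPrime := by
    rw [key]; infer_instance
  have hιw : ι ≤ w := by
    intro t
    rw [Fin.le_def, hι]
    exact val_le_apply w.1 w.2 t
  have hne : Ideal.Quotient.mk (schubertVanishing K d n w) (X ι : PlRing K d n) ≠ 0 := by
    intro h0
    rw [Ideal.Quotient.eq_zero_iff_mem] at h0
    exact X_notMem_schubertVanishing hd w ι hιw h0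
  rw [← Ideal.span_singleton_prime hne]
  have : Ideal.span {Ideal.Quotient.mk (schubertVanishing K d n w) (X ι : PlRing K d n)} =
      (schubertVanishing K d n w ⊔ Ideal.span {(X ι : PlRing K d n)}).map
        (Ideal.Quotient.mk (schubertVanishing K d n w)) := by
    rw [Ideal.map_sup, Ideal.map_span, Set.image_singleton, Ideal.map_quotient_self, bot_sup_eq]
  rw [this]
  exact Ideal.map_isPrime_of_surjective Ideal.Quotient.mk_surjective
    (by rw [Ideal.mk_ker]; exact le_sup_left)

end Groth.Agent.Lib.Helper18.Plucker
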