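import Groth.Agent.Lib.Helper18.Plucker.Dim
import Groth.Agent.Lib.Helper18.CMGraded.Basic

/-! # Schubert varieties and unions of Schubert divisors are arithmetically Cohen–Macaulay -/

set_option autoImplicit false

namespace Groth.Agent.Lib.Helper18.Plucker

open W4bk4grassmannian MvPolynomial Groth.Agent.Lib.Helper18.CMGraded

universe u

variable {K : Type u} [Field K] {d n : ℕ}

/-! ## Homogeneity -/

theorem coord_isHomogeneous (a : Fin d → Fin n) : (coord K d n a).IsHomogeneous 1 := by
  unfold coord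
  split_ifs with h
  · have h1 : ((-1 : PlRing K d n) ^ invCount d n a).IsHomogeneous 0 := by
      have := ((isHomogeneous_one (Idx d n) K).neg).pow (invCount d n a)
      simpa using this
    simpa using h1.mul (isHomogeneous_X K (sortIdx d n a h))
  · exact isHomogeneous_zero _ _ _

theorem shuffleRel_isHomogeneous (i j : Idx d n) (r : Fin d) :
    (shuffleRel K i j r).IsHomogeneous 2 := by
  unfold shuffleRel
  refine IsHomogeneous.sum _ _ _ fun A _ => ?_
  unfold shuffleTerm
  split_ifs with hA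
  · have h1 : ((-1 : PlRing K d n) ^ shuffleSign r A).IsHomogeneous 0 := by
      have := ((isHomogeneous_one (Idx d n) K).neg).pow (shuffleSign r A)
      simpa using this
    have := (h1.mul (coord_isHomogeneous (K := K) (shuffleI i j r A hA))).mul
      (coord_isHomogeneous (K := K) (shuffleJ i j r A hA))
    simpa using this
  · exact isHomogeneous_zero _ _ _

/-- The lib form of S11250. -/
theorem plIdeal_eq_schubertVanishing [Infinite K] (hd : 0 < d) (τ : Idx d n) :
    plIdeal K τ = schubertVanishing K d n τ := by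
  have hI : plIdealTop (d := d) (n := n) K ≤ plIdeal K τ := by
    unfold plIdealTop plIdeal
    exact Ideal.span_mono Set.subset_union_left
  have hIJ : plIdeal K τ ≤ schubertVanishing K d n τ := by
    unfold plIdeal
    rw [Ideal.span_le]
    rintro f (⟨i, j, r, hr, rfl⟩ | ⟨φ, hφ, rfl⟩)
    · exact plIdealTop_le_schubertVanishing τ (Ideal.subset_span ⟨i, j, r, hr, rfl⟩)
    · exact X_mem_schubertVanishing τ φ hφ
  refine eq_of_std _ _ hI hIJ (fun c => ∀ k, c.2.1 k ≤ τ) ?_ ?_
  · intro c hc
    obtain ⟨k, hk⟩ := not_forall.1 hc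
    refine chainMon_mem_of_X_mem _ _ k ?_
    exact Ideal.subset_span (Or.inr ⟨_, hk, rfl⟩)
  · have := std_indep' (K := K) hd (fun _ : Unit => τ)
      (fun c : {c : Chain d n // ∀ k, c.2.1 k ≤ τ} => c.1)
      Subtype.val_injective (fun c => ⟨(), c.2⟩)
    rwa [iInf_const] at this

theorem homGen_schubertVanishing [Infinite K] (hd : 0 < d) (τ : Idx d n) :
    HomGen (schubertVanishing K d n τ) := by
  rw [← plIdeal_eq_schubertVanishing hd τ]
  refine ⟨_, ?_, rfl⟩
  rintro f (⟨i, j, r, -, rfl⟩ | ⟨φ, -, rfl⟩)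
  · exact ⟨2, shuffleRel_isHomogeneous i j r⟩
  · exact ⟨1, isHomogeneous_X K φ⟩

theorem homGen_top : HomGen (⊤ : Ideal (PlRing K d n)) :=
  ⟨{1}, fun f hf => ⟨0, by rw [Set.mem_singleton_iff.1 hf]; exact isHomogeneous_one _ _⟩,
    by rw [Ideal.span_singleton_one]⟩

theorem homGen_finsetInf [Infinite K] (hd : 0 < d) (F : Finset (Idx d n)) :
    HomGen (F.inf fun φ => schubertVanishing K d n φ) := by
  classical
  induction F using Finset.induction_on with
  | empty => rw [Finset.inf_empty]; exact homGen_top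
  | insert a s _ ih =>
    rw [Finset.inf_insert]
    exact (homGen_schubertVanishing hd a).inf ih

/-! ## Combinatorics of divisors -/

/-- The sum of the entries. -/
def sumVal (w : Idx d n) : ℕ := ∑ t : Fin d, (w.1 t).val

theorem codeg_add (w : Idx d n) : codeg w + ∑ t : Fin d, t.val = sumVal w := by
  unfold codeg sumVal
  rw [← Finset.sum_add_distrib]
  refine Finset.sum_congr rfl fun t _ => ?_
  have := val_le_apply w.1 w.2 t
  omega

theorem sumVal_inf_add_sup (a b : Idx d n) :
    sumVal (W4bk4grassmannian.inf a b) + sumVal (W4bk4grassmannian.sup a b) =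
      sumVal a + sumVal b := by
  unfold sumVal
  rw [← Finset.sum_add_distrib, ← Finset.sum_add_distrib]
  refine Finset.sum_congr rfl fun t _ => ?_
  simp only [W4bk4grassmannian.inf, W4bk4grassmannian.sup]
  rcases le_total (a.1 t) (b.1 t) with h | h
  · rw [min_eq_left h, max_eq_right h]
  · rw [min_eq_right h, max_eq_left h, add_comm]

theorem sumVal_mono {a b : Idx d n} (h : a ≤ b) : sumVal a ≤ sumVal b :=
  Finset.sum_le_sum fun t _ => h t

theorem sumVal_lt {a b : Idx d n} (h : a < b) : sumVal a < sumVal b := by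
  obtain ⟨hle, hne⟩ := lt_iff_le_and_ne.1 h
  have : ∃ t, a.1 t < b.1 t := by
    by_contra hcon
    push_neg at hcon
    exact hne (Subtype.ext (funext fun t => le_antisymm (hle t) (hcon t)))
  obtain ⟨t, ht⟩ := this
  exact Finset.sum_lt_sum (fun s _ => hle s) ⟨t, Finset.mem_univ _, ht⟩

theorem inf_mem_divisors {τ φ ψ : Idx d n} (hφ : φ ∈ divisors τ) (hψ : ψ ∈ divisors τ)
    (hne : φ ≠ ψ) : W4bk4grassmannian.inf φ ψ ∈ divisors ψ := by
  have h1 := codeg_add φ
  have h2 := codeg_add ψ
  have h3 := codeg_add τ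
  have h4 := codeg_add (W4bk4grassmannian.inf φ ψ)
  have h6 := sumVal_inf_add_sup φ ψ
  have hφ2 := hφ.2
  have hψ2 := hψ.2
  have hsupτ : W4bk4grassmannian.sup φ ψ ≤ τ := fun t => max_le (hφ.1.le t) (hψ.1.le t)
  have hφsup : φ ≤ W4bk4grassmannian.sup φ ψ := fun t => le_max_left _ _
  have hφne : φ ≠ W4bk4grassmannian.sup φ ψ := by
    intro h
    have hψφ : ψ ≤ φ := by
      rw [h]; exact fun t => le_max_right _ _
    have hnlt : ¬ ψ < φ := fun hlt => by
      have := sumVal_lt hlt
      omega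
    exact hne (eq_of_le_of_not_lt hψφ hnlt).symm
  have h7 := sumVal_lt (lt_of_le_of_ne hφsup hφne)
  have h8 := sumVal_mono hsupτ
  refine ⟨lt_of_le_of_ne (fun t => min_le_right _ _) ?_, ?_⟩
  · intro h
    have := congrArg sumVal h
    omega
  · omega

/-! ## The ideal of an intersection with a Schubert variety -/

theorem inf_sup_eq [Infinite K] (hd : 0 < d) (F : Finset (Idx d n)) (ψ : Idx d n) :
    (F.inf fun φ => schubertVanishing K d n φ) ⊔ schubertVanishing K d n ψ =
      F.inf fun φ => schubertVanishing K d n (W4bk4grassmannian.inf φ ψ) := by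
  have hI : plIdealTop (d := d) (n := n) K ≤
      (F.inf fun φ => schubertVanishing K d n φ) ⊔ schubertVanishing K d n ψ :=
    (plIdealTop_le_schubertVanishing ψ).trans le_sup_right
  have hIJ : (F.inf fun φ => schubertVanishing K d n φ) ⊔ schubertVanishing K d n ψ ≤
      F.inf fun φ => schubertVanishing K d n (W4bk4grassmannian.inf φ ψ) := by
    refine sup_le (Finset.le_inf fun φ hφ => ?_) (Finset.le_inf fun φ hφ => ?_)
    · exact (Finset.inf_le hφ).trans (schubertVanishing_anti fun t => min_le_left _ _)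
    · exact schubertVanishing_anti fun t => min_le_right _ _
  have hJ : (F.inf fun φ => schubertVanishing K d n (W4bk4grassmannian.inf φ ψ)) =
      ⨅ j : {φ : Idx d n // φ ∈ F}, schubertVanishing K d n (W4bk4grassmannian.inf j.1 ψ) := by
    rw [Finset.inf_eq_iInf]
    exact iInf_subtype' (p := fun φ : Idx d n => φ ∈ F)
      (f := fun φ _ => schubertVanishing K d n (W4bk4grassmannian.inf φ ψ))
  rw [hJ] at hIJ ⊢
  refine eq_of_std _ _ hI hIJ
    (fun c => ∃ φ : {φ : Idx d n // φ ∈ F}, ∀ k, c.2.1 k ≤ W4bk4grassmannian.inf φ.1 ψ) ?_ ?_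
  · rintro ⟨m, c, hc⟩ hp
    simp only at hp ⊢
    by_cases h1 : ∀ k, c k ≤ ψ
    · refine Ideal.mem_sup_left ?_
      rw [Submodule.mem_finsetInf]
      intro φ hφ
      have : ¬ ∀ k, c k ≤ W4bk4grassmannian.inf φ ψ := fun h => hp ⟨⟨φ, hφ⟩, h⟩
      obtain ⟨k, hk⟩ := not_forall.1 this
      refine chainMon_mem_of_X_mem _ _ k (X_mem_schubertVanishing φ _ ?_)
      intro hle
      exact hk fun t => le_min (hle t) (h1 k t)
    · obtain ⟨k, hk⟩ := not_forall.1 h1
      exact Ideal.mem_sup_right (chainMon_mem_of_X_mem _ _ k (X_mem_schubertVanishing ψ _ hk))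
  · exact std_indep' (K := K) hd
      (fun φ : {φ : Idx d n // φ ∈ F} => W4bk4grassmannian.inf φ.1 ψ)
      (fun c : {c : Chain d n //
        ∃ φ : {φ : Idx d n // φ ∈ F}, ∀ k, c.2.1 k ≤ W4bk4grassmannian.inf φ.1 ψ} => c.1)
      Subtype.val_injective (fun c => c.2)

theorem isSMulRegular_of_prime {A : Type*} [CommRing A] (P : Ideal A) [hP : P.IsPrime] (x : A)
    (hx : x ∉ P) : IsSMulRegular (A ⧸ P) x := by
  rw [isSMulRegular_iff_right_eq_zero_of_smul]
  intro m hm
  obtain ⟨a, rfl⟩ := Ideal.Quotient.mk_surjective m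
  have h1 : x • (Ideal.Quotient.mk P a) = Ideal.Quotient.mk P (x * a) := rfl
  rw [h1, Ideal.Quotient.eq_zero_iff_mem] at hm
  rw [Ideal.Quotient.eq_zero_iff_mem]
  exact (hP.mem_or_mem hm).resolve_left hx

/-! ## The depth induction -/

/-- The finite set of divisors. -/
noncomputable def divFinset (τ : Idx d n) : Finset (Idx d n) := (Set.toFinite (divisors τ)).toFinset

theorem mem_divFinset (τ φ : Idx d n) : φ ∈ divFinset τ ↔ φ ∈ divisors τ :=
  Set.Finite.mem_toFinset _

theorem sup_span_eq_inf_divFinset [Infinite K] (hd : 0 < d) (τ : Idx d n)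
    (hτ : ∃ φ : Idx d n, φ < τ) :
    schubertVanishing K d n τ ⊔ Ideal.span {(X τ : PlRing K d n)} =
      (divFinset τ).inf fun φ => schubertVanishing K d n φ := by
  rw [sup_span_eq_iInf_divisors hd τ hτ, Finset.inf_eq_iInf]
  refine le_antisymm (le_iInf₂ fun a ha => ?_) (le_iInf fun φ => ?_)
  · exact iInf_le_of_le ⟨a, (mem_divFinset τ a).1 ha⟩ le_rfl
  · exact iInf₂_le φ.1 ((mem_divFinset τ φ.1).2 φ.2)

theorem depth_main [Infinite K] (hd : 0 < d) : ∀ (N : ℕ) (τ : Idx d n), codeg τ = N →
    ((N + 1 : ℕ) : ℕ∞) ≤ LocCoh.idealDepth (CMGraded.irr K (Idx d n))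
        (PlRing K d n ⧸ schubertVanishing K d n τ) ∧
    ∀ F : Finset (Idx d n), F.Nonempty → (∀ φ ∈ F, φ ∈ divisors τ) →
      (N : ℕ∞) ≤ LocCoh.idealDepth (CMGraded.irr K (Idx d n))
        (PlRing K d n ⧸ F.inf fun φ => schubertVanishing K d n φ) := by
  intro N
  induction N using Nat.strong_induction_on with
  | _ N IH =>
  intro τ hτN
  have hQ : ∀ F : Finset (Idx d n), F.Nonempty → (∀ φ ∈ F, φ ∈ divisors τ) →
      (N : ℕ∞) ≤ LocCoh.idealDepth (CMGraded.irr K (Idx d n))
        (PlRing K d n ⧸ F.inf fun φ => schubertVanishing K d n φ) := by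
    intro F hF
    induction hF using Finset.Nonempty.cons_induction with
    | singleton φ =>
      intro hdiv
      have hφ := hdiv φ (Finset.mem_singleton_self φ)
      have hcod : codeg φ + 1 = N := by rw [← hτN]; exact hφ.2
      rw [Finset.inf_singleton]
      have := (IH (codeg φ) (by omega) φ rfl).1
      rwa [hcod] at this
    | cons ψ F' hψ hF' ih =>
      intro hdiv
      have hψd := hdiv ψ (Finset.mem_cons_self ψ F')
      have hcod : codeg ψ + 1 = N := by rw [← hτN]; exact hψd.2
      have hdiv' : ∀ φ ∈ F', φ ∈ divisors τ := fun φ hφ => hdiv φ (Finset.mem_cons_of_mem hφ)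
      rw [Finset.inf_cons]
      refine depth_inf (CMGraded.irr K (Idx d n)) _ _ N (by omega) ?_ (ih hdiv') ?_
      · have := (IH (codeg ψ) (by omega) ψ rfl).1
        rwa [hcod] at this
      · rw [sup_comm, inf_sup_eq hd F' ψ]
        have himg : (F'.inf fun φ => schubertVanishing K d n (W4bk4grassmannian.inf φ ψ)) =
            (F'.image fun φ => W4bk4grassmannian.inf φ ψ).inf
              fun φ => schubertVanishing K d n φ := by
          classical
          rw [Finset.inf_image]
          rfl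
        rw [himg]
        have := (IH (codeg ψ) (by omega) ψ rfl).2
          (F'.image fun φ => W4bk4grassmannian.inf φ ψ) (hF'.image _) ?_
        · have hN : N - 1 = codeg ψ := by omega
          rwa [hN]
        · intro θ hθ
          classical
          obtain ⟨φ, hφ, rfl⟩ := Finset.mem_image.1 hθ
          exact inf_mem_divisors (hdiv' φ hφ) hψd (fun h => hψ (h ▸ hφ))
  refine ⟨?_, hQ⟩
  haveI hprime := schubertVanishing_isPrime (K := K) hd τ
  have hXirr : (X τ : PlRing K d n) ∈ CMGraded.irr K (Idx d n) := by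
    unfold CMGraded.irr
    rw [RingHom.mem_ker, constantCoeff_X]
  have hreg : IsSMulRegular (PlRing K d n ⧸ schubertVanishing K d n τ) (X τ : PlRing K d n) :=
    isSMulRegular_of_prime _ _ (X_notMem_schubertVanishing hd τ τ le_rfl)
  by_cases hex : ∃ φ : Idx d n, φ < τ
  · refine depth_regular (CMGraded.irr K (Idx d n)) _ _ hXirr hreg N ?_
    rw [sup_span_eq_inf_divFinset hd τ hex]
    refine hQ (divFinset τ) ?_ (fun φ hφ => (mem_divFinset τ φ).1 hφ)
    obtain ⟨φ₀, hφ₀⟩ := hex
    obtain ⟨ψ₀, hψ₀, -⟩ := Groth.Agent.S11268.result d n φ₀ τ hφ₀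
    exact ⟨ψ₀, (mem_divFinset τ ψ₀).2 hψ₀⟩
  · have hN0 : N = 0 := by rw [← hτN]; exact codeg_eq_zero_of_isMin τ hex
    subst hN0
    exact depth_regular (CMGraded.irr K (Idx d n)) _ _ hXirr hreg 0 (by simp)

/-! ## The theorems -/

theorem isCM_schubert [Infinite K] (hd : 0 < d) (τ : Idx d n) :
    LocCoh.IsCohenMacaulayRing (PlRing K d n ⧸ schubertVanishing K d n τ) := by
  haveI hprime := schubertVanishing_isPrime (K := K) hd τ
  exact isCM_of_depth (homGen_schubertVanishing hd τ) hprime.ne_top (codeg τ + 1)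
    (ringKrullDim_schubert hd τ).le (depth_main hd (codeg τ) τ rfl).1

theorem ringKrullDim_finsetInf_le [Infinite K] (hd : 0 < d) (τ : Idx d n) (F : Finset (Idx d n))
    (hF : ∀ φ ∈ F, φ ∈ divisors τ) :
    ringKrullDim (PlRing K d n ⧸ F.inf fun φ => schubertVanishing K d n φ) ≤
      ((codeg τ : ℕ) : WithBot ℕ∞) := by
  classical
  induction F using Finset.induction_on with
  | empty =>
    rw [Finset.inf_empty]
    haveI : Subsingleton (PlRing K d n ⧸ (⊤ : Ideal (PlRing K d n))) :=
      Ideal.Quotient.subsingleton_iff.2 rfl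
    rw [ringKrullDim_eq_bot_of_subsingleton]
    exact bot_le
  | insert a s _ ih =>
    rw [Finset.inf_insert]
    refine Groth.Agent.Lib.Helper7.CMInf.ringKrullDim_quotient_inf_le _ _ _ ?_
      (ih fun φ hφ => hF φ (Finset.mem_insert_of_mem hφ))
    have ha := hF a (Finset.mem_insert_self a s)
    rw [ringKrullDim_schubert hd a, ha.2]

theorem isCM_union_divisors [Infinite K] (hd : 0 < d) (τ : Idx d n) (F : Finset (Idx d n))
    (hne : F.Nonempty) (hF : ∀ φ ∈ F, φ ∈ divisors τ) :
    LocCoh.IsCohenMacaulayRing (PlRing K d n ⧸ F.inf fun φ => schubertVanishing K d n φ) := by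
  obtain ⟨φ₀, hφ₀⟩ := hne
  haveI hprime := schubertVanishing_isPrime (K := K) hd φ₀
  have htop : (F.inf fun φ => schubertVanishing K d n φ) ≠ ⊤ := by
    intro h
    have := Finset.inf_le (f := fun φ => schubertVanishing K d n φ) hφ₀
    rw [h, top_le_iff] at this
    exact hprime.ne_top this
  exact isCM_of_depth (homGen_finsetInf hd F) htop (codeg τ)
    (ringKrullDim_finsetInf_le hd τ F hF) ((depth_main hd (codeg τ) τ rfl).2 F ⟨φ₀, hφ₀⟩ hF)

end Groth.Agent.Lib.Helper18.Plucker
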