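import Groth.Agent.Lib.Helper18.Plucker.Dim

/-! # The big cell of a Schubert variety: echelon parametrisation -/

set_option autoImplicit false

namespace Groth.Agent.Lib.Helper18.Plucker

open W4bk4grassmannian MvPolynomial Equiv

universe u

variable {K : Type u} [Field K] {d n : ℕ}

/-! ## Determinant of a diagonal matrix with one row replaced -/

theorem det_updateRow_diagonal {R : Type*} [CommRing R] (c : Fin d → R) (t : Fin d)
    (v : Fin d → R) :
    ((Matrix.diagonal c).updateRow t v).det = (∏ j ∈ Finset.univ.erase t, c j) * v t := by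
  rw [← Matrix.cramer_transpose_apply, Matrix.diagonal_transpose,
    Matrix.cramer_eq_adjugate_mulVec, Matrix.adjugate_diagonal, Matrix.mulVec_diagonal]

theorem det_updateRow_one {R : Type*} [CommRing R] (t : Fin d) (v : Fin d → R) :
    ((1 : Matrix (Fin d) (Fin d) R).updateRow t v).det = v t := by
  rw [← Matrix.diagonal_one, det_updateRow_diagonal]
  simp

/-! ## Alternating functions: minors over a commutative algebra -/

theorem aeval_coord {P : Type*} [CommRing P] [Algebra K P] (q : Idx d n → P)
    (a : Fin d → Fin n) : aeval q (coord K d n a) = altExt q a := by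
  unfold coord altExt
  split_ifs with h
  · simp
  · simp

theorem aeval_minors_coord {P : Type*} [CommRing P] [Algebra K P]
    (M : Matrix (Fin n) (Fin d) P) (a : Fin d → Fin n) :
    aeval (fun θ : Idx d n => (M.submatrix θ.1 id).det) (coord K d n a) =
      (M.submatrix a id).det := by
  rw [aeval_coord]
  have hext : altExt (fun θ : Idx d n => (M.submatrix θ.1 id).det) =
      fun a : Fin d → Fin n => (M.submatrix a id).det := by
    refine IsAlt.ext (isAlt_altExt _) (isAlt_minor M) fun a ha => ?_
    exact altExt_of_strictMono _ ⟨a, ha⟩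
  rw [hext]

theorem altExt_mul {P : Type*} [CommRing P] (c : P) (q : Idx d n → P) (a : Fin d → Fin n) :
    altExt (fun θ => c * q θ) a = c * altExt q a := by
  unfold altExt
  split_ifs with h
  · ring
  · simp

/-! ## The echelon matrix -/

/-- Free positions of the echelon matrix of shape `w`. -/
abbrev Free (w : Idx d n) : Type :=
  {p : Fin n × Fin d // p.1 < w.1 p.2 ∧ ∀ s, w.1 s ≠ p.1}

/-- The coordinate ring of the cone over the big cell: `K[λ, z_{i,t}]`. -/
abbrev CellR (K : Type u) [Field K] (w : Idx d n) : Type u := MvPolynomial (Option (Free w)) K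

open Classical in
/-- The generic echelon matrix of shape `w`. -/
noncomputable def ech (w : Idx d n) : Matrix (Fin n) (Fin d) (CellR K w) :=
  Matrix.of fun i t => if i = w.1 t then 1
    else if h : i < w.1 t ∧ ∀ s, w.1 s ≠ i then X (some ⟨(i, t), h⟩) else 0

/-- The parametrisation of the cone over the big cell. -/
noncomputable def cellEval (w : Idx d n) : PlRing K d n →ₐ[K] CellR K w :=
  aeval fun θ : Idx d n => X none * ((ech (K := K) w).submatrix θ.1 id).det

theorem ech_submatrix_top (w : Idx d n) :
    (ech (K := K) w).submatrix w.1 id = 1 := by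
  ext s t
  simp only [Matrix.submatrix_apply, id, ech, Matrix.of_apply, Matrix.one_apply]
  by_cases hst : s = t
  · rw [hst, if_pos rfl, if_pos rfl]
  · rw [if_neg (fun h => hst (w.2.injective h)), if_neg hst, dif_neg]
    rintro ⟨-, h⟩
    exact h s rfl

theorem cellEval_X_top (w : Idx d n) : cellEval (K := K) w (X w) = X none := by
  unfold cellEval
  rw [aeval_X, ech_submatrix_top, Matrix.det_one, mul_one]

theorem cellEval_coord (w : Idx d n) (a : Fin d → Fin n) :
    cellEval (K := K) w (coord K d n a) = X none * ((ech (K := K) w).submatrix a id).det := by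
  unfold cellEval
  rw [aeval_coord, altExt_mul]
  congr 1
  have hext : altExt (fun θ : Idx d n => ((ech (K := K) w).submatrix θ.1 id).det) =
      fun a : Fin d → Fin n => ((ech (K := K) w).submatrix a id).det := by
    refine IsAlt.ext (isAlt_altExt _) (isAlt_minor _) fun a ha => ?_
    exact altExt_of_strictMono _ ⟨a, ha⟩
  rw [hext]

theorem submatrix_update_eq {R : Type*} [CommRing R] (E : Matrix (Fin n) (Fin d) R)
    (w : Idx d n) (hE : E.submatrix w.1 id = 1) (t : Fin d) (i : Fin n) :
    E.submatrix (Function.update w.1 t i) id = (1 : Matrix (Fin d) (Fin d) R).updateRow t (E i) := by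
  ext s c
  simp only [Matrix.submatrix_apply, id, Matrix.updateRow_apply, Function.update_apply]
  by_cases hst : s = t
  · rw [if_pos hst, if_pos hst]
  · rw [if_neg hst, if_neg hst]
    have := congrFun (congrFun hE s) c
    simpa using this

theorem det_submatrix_update {R : Type*} [CommRing R] (E : Matrix (Fin n) (Fin d) R)
    (w : Idx d n) (hE : E.submatrix w.1 id = 1) (t : Fin d) (i : Fin n) :
    (E.submatrix (Function.update w.1 t i) id).det = E i t := by
  rw [submatrix_update_eq E w hE, det_updateRow_one]

theorem cellEval_free (w : Idx d n) (p : Free w) :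
    cellEval (K := K) w (coord K d n (Function.update w.1 p.1.2 p.1.1)) =
      X none * X (some p) := by
  rw [cellEval_coord, det_submatrix_update _ w (ech_submatrix_top w)]
  congr 1
  obtain ⟨⟨i, t⟩, h⟩ := p
  simp only [ech, Matrix.of_apply]
  rw [if_neg (fun hi => h.2 t hi.symm), dif_pos h]

/-- Every element of the cell ring becomes a value of the parametrisation after multiplying by a
power of `λ`. -/
theorem exists_pow_mul_mem_range (w : Idx d n) (g : CellR K w) :
    ∃ k : ℕ, (X none : CellR K w) ^ k * g ∈ (cellEval (K := K) w).range := by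
  induction g using MvPolynomial.induction_on with
  | C a => exact ⟨0, ⟨C a, by simp⟩⟩
  | add p q hp hq =>
    obtain ⟨k₁, f₁, h₁⟩ := hp
    obtain ⟨k₂, f₂, h₂⟩ := hq
    refine ⟨k₁ + k₂, ⟨X w ^ k₂ * f₁ + X w ^ k₁ * f₂, ?_⟩⟩
    have e1 : cellEval (K := K) w f₁ = X none ^ k₁ * p := h₁
    have e2 : cellEval (K := K) w f₂ = X none ^ k₂ * q := h₂
    change cellEval (K := K) w (X w ^ k₂ * f₁ + X w ^ k₁ * f₂) = _
    rw [map_add, map_mul, map_mul, map_pow, map_pow, cellEval_X_top, e1, e2]
    ring
  | mul_X p i hp =>
    obtain ⟨k, f, h⟩ := hp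
    have e1 : cellEval (K := K) w f = X none ^ k * p := h
    cases i with
    | none =>
      refine ⟨k, ⟨f * X w, ?_⟩⟩
      change cellEval (K := K) w (f * X w) = _
      rw [map_mul, cellEval_X_top, e1]
      ring
    | some q =>
      refine ⟨k + 1, ⟨f * coord K d n (Function.update w.1 q.1.2 q.1.1), ?_⟩⟩
      change cellEval (K := K) w (f * coord K d n (Function.update w.1 q.1.2 q.1.1)) = _
      rw [map_mul, cellEval_free, e1]
      ring

end Groth.Agent.Lib.Helper18.Plucker
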