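import Groth.Agent.Lib.Helper18.Plucker.Cell
import Groth.Agent.Lib.Helper18.Plucker.CM

/-! # The kernel of the echelon parametrisation is the Schubert ideal -/

set_option autoImplicit false

namespace Groth.Agent.Lib.Helper18.Plucker

open W4bk4grassmannian MvPolynomial Equiv

universe u

variable {K : Type u} [Field K] {d n : ℕ}

/-- The echelon matrix at a `K`-point. -/
noncomputable def echK (w : Idx d n) (v : Option (Free w) → K) : Matrix (Fin n) (Fin d) K :=
  (ech (K := K) w).map (MvPolynomial.eval v)

open Classical in
theorem echK_apply (w : Idx d n) (v : Option (Free w) → K) (i : Fin n) (t : Fin d) :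
    echK w v i t = if i = w.1 t then 1
      else if h : i < w.1 t ∧ ∀ s, w.1 s ≠ i then v (some ⟨(i, t), h⟩) else 0 := by
  simp only [echK, ech, Matrix.map_apply, Matrix.of_apply]
  split_ifs <;> simp

/-- The column scaling. -/
noncomputable def colS (hd : 0 < d) (c : K) : Fin d → K := fun t => if t = ⟨0, hd⟩ then c else 1

theorem prod_colS (hd : 0 < d) (c : K) : ∏ t, colS hd c t = c := by
  unfold colS
  rw [Finset.prod_ite_eq' Finset.univ (⟨0, hd⟩ : Fin d) (fun _ => c)]
  simp

theorem eval_cellEval (hd : 0 < d) (w : Idx d n) (v : Option (Free w) → K) (f : PlRing K d n) :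
    MvPolynomial.eval v (cellEval w f) =
      evalMinors K d n (echK w v * Matrix.diagonal (colS hd (v none))) f := by
  have : (MvPolynomial.eval v : CellR K w →+* K).comp (cellEval (K := K) w).toRingHom =
      (evalMinors K d n (echK w v * Matrix.diagonal (colS hd (v none)))).toRingHom := by
    apply MvPolynomial.ringHom_ext
    · intro c
      simp [cellEval, evalMinors]
    · intro θ
      simp only [RingHom.comp_apply, AlgHom.toRingHom_eq_coe, RingHom.coe_coe, cellEval,
        evalMinors, aeval_X, map_mul, eval_X]
      rw [RingHom.map_det]
      have h1 : ((echK w v * Matrix.diagonal (colS hd (v none))).submatrix θ.1 id) =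
          (echK w v).submatrix θ.1 id * Matrix.diagonal (colS hd (v none)) := by
        rw [Matrix.submatrix_mul _ _ θ.1 id id Function.bijective_id, Matrix.submatrix_id_id]
      rw [h1, Matrix.det_mul, Matrix.det_diagonal, prod_colS, mul_comm]
      rfl
  exact congrFun (congrArg DFunLike.coe this) f

theorem schubertVanishing_le_ker_cellEval [Infinite K] (hd : 0 < d) (w : Idx d n)
    (f : PlRing K d n) (hf : f ∈ schubertVanishing K d n w) : cellEval w f = 0 := by
  apply MvPolynomial.funext
  intro v
  rw [eval_cellEval hd, map_zero]
  unfold schubertVanishing at hf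
  simp only [Ideal.mem_iInf, RingHom.mem_ker] at hf
  refine hf _ fun φ hφ => ?_
  refine minor_eq_zero_of_shape w φ _ ?_ hφ
  intro x t hxt
  rw [Matrix.mul_diagonal, echK_apply, if_neg (ne_of_gt hxt), dif_neg, zero_mul]
  rintro ⟨h, -⟩
  exact lt_asymm h hxt

theorem evalMinors_eq_zero_of_cellEval (hd : 0 < d) (w : Idx d n)
    (A : Matrix (Fin n) (Fin d) K)
    (hA : ∀ φ : Idx d n, ¬ φ ≤ w → (A.submatrix φ.1 id).det = 0)
    (hdet : (A.submatrix w.1 id).det ≠ 0) (f : PlRing K d n) (hf : cellEval w f = 0) :
    evalMinors K d n A f = 0 := by
  classical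
  set B := A.submatrix w.1 id with hB
  have hBu : IsUnit B.det := isUnit_iff_ne_zero.2 hdet
  set E := A * B⁻¹ with hE
  have hsub : ∀ (M : Matrix (Fin n) (Fin d) K) (N : Matrix (Fin d) (Fin d) K)
      (a : Fin d → Fin n), (M * N).submatrix a id = M.submatrix a id * N := by
    intro M N a
    rw [Matrix.submatrix_mul _ _ a id id Function.bijective_id, Matrix.submatrix_id_id]
  have hEw : E.submatrix w.1 id = 1 := by
    rw [hE, hsub, ← hB, Matrix.mul_nonsing_inv _ hBu]
  have hAE : A = E * B := by
    rw [hE, Matrix.mul_assoc, Matrix.nonsing_inv_mul _ hBu, Matrix.mul_one]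
  have hminor : ∀ a : Fin d → Fin n,
      (A.submatrix a id).det = (E.submatrix a id).det * B.det := by
    intro a
    conv_lhs => rw [hAE]
    rw [hsub, Matrix.det_mul]
  have hEzero : ∀ (i : Fin n) (t : Fin d), w.1 t < i → (∀ s, w.1 s ≠ i) → E i t = 0 := by
    intro i t hit hi
    rw [← det_submatrix_update E w hEw t i]
    have h1 := hminor (Function.update w.1 t i)
    have h2 : (A.submatrix (Function.update w.1 t i) id).det = 0 := by
      rw [← evalMinors_coord]
      unfold coord
      split_ifs with hcard
      · rw [map_mul, map_pow, map_neg, map_one]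
        have hX : evalMinors K d n A (X (sortIdx d n (Function.update w.1 t i) hcard)) =
            (A.submatrix (sortIdx d n (Function.update w.1 t i) hcard).1 id).det := by
          unfold evalMinors
          rw [aeval_X]
        rw [hX, hA _ ?_, mul_zero]
        intro hle
        have h3 := sumVal_mono hle
        have h4 : sumVal (sortIdx d n (Function.update w.1 t i) hcard) =
            rsum (Function.update w.1 t i) := rsum_sortIdx _ hcard
        have h5 : rsum (Function.update w.1 t i) + (w.1 t).val = sumVal w + i.val := by
          unfold rsum sumVal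
          rw [← Finset.add_sum_erase _ _ (Finset.mem_univ t),
            ← Finset.add_sum_erase (f := fun s => ((w.1 s : Fin n) : ℕ)) _ (Finset.mem_univ t),
            Function.update_self]
          have : ∑ x ∈ Finset.univ.erase t, ((Function.update w.1 t i x : Fin n) : ℕ) =
              ∑ x ∈ Finset.univ.erase t, ((w.1 x : Fin n) : ℕ) := by
            refine Finset.sum_congr rfl fun x hx => ?_
            rw [Function.update_of_ne (Finset.ne_of_mem_erase hx)]
          rw [this]
          ring
        have h6 : (w.1 t).val < i.val := hit
        omega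
      · rw [map_zero]
    rw [h2] at h1
    exact (mul_eq_zero.1 h1.symm).resolve_right hdet
  -- the point of the cell
  let v : Option (Free w) → K := fun o => match o with
    | none => B.det
    | some p => E p.1.1 p.1.2
  have hEv : echK w v = E := by
    ext i t
    rw [echK_apply]
    by_cases h1 : i = w.1 t
    · rw [if_pos h1, h1]
      have := congrFun (congrFun hEw t) t
      simpa using this.symm
    · rw [if_neg h1]
      by_cases h2 : i < w.1 t ∧ ∀ s, w.1 s ≠ i
      · rw [dif_pos h2]
      · rw [dif_neg h2]
        by_cases h3 : ∃ s, w.1 s = i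
        · obtain ⟨s, rfl⟩ := h3
          have hst : s ≠ t := fun h => h1 (by rw [h])
          have := congrFun (congrFun hEw s) t
          simp only [Matrix.submatrix_apply, id, Matrix.one_apply, if_neg hst] at this
          exact this.symm
        · push_neg at h3
          have h4 : w.1 t < i := by
            rcases lt_trichotomy i (w.1 t) with h | h | h
            · exact absurd ⟨h, h3⟩ h2
            · exact absurd h h1
            · exact h
          exact (hEzero i t h4 h3).symm
  have hev : evalMinors K d n A f = MvPolynomial.eval v (cellEval w f) := by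
    have : (evalMinors K d n A).toRingHom =
        (MvPolynomial.eval v : CellR K w →+* K).comp (cellEval (K := K) w).toRingHom := by
      apply MvPolynomial.ringHom_ext
      · intro c
        simp [cellEval, evalMinors]
      · intro θ
        simp only [RingHom.comp_apply, AlgHom.toRingHom_eq_coe, RingHom.coe_coe, cellEval,
          evalMinors, aeval_X, map_mul, eval_X]
        rw [RingHom.map_det, hminor θ.1, mul_comm]
        congr 1
        rw [← hEv]
        rfl
    exact congrFun (congrArg DFunLike.coe this) f
  rw [hev, hf, map_zero]

theorem mem_of_cellEval_eq_zero [Infinite K] (hd : 0 < d) (w : Idx d n) (f : PlRing K d n)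
    (hf : cellEval w f = 0) : f ∈ schubertVanishing K d n w := by
  haveI hprime := schubertVanishing_isPrime (K := K) hd w
  have hXf : X w * f ∈ schubertVanishing K d n w := by
    unfold schubertVanishing
    simp only [Ideal.mem_iInf, RingHom.mem_ker]
    intro A hA
    rw [AlgHom.toRingHom_eq_coe, RingHom.coe_coe, map_mul]
    by_cases hdet : (A.submatrix w.1 id).det = 0
    · have : evalMinors K d n A (X w) = (A.submatrix w.1 id).det := by
        unfold evalMinors
        rw [aeval_X]
      rw [this, hdet, zero_mul]
    · rw [evalMinors_eq_zero_of_cellEval hd w A hA hdet f hf, mul_zero]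
  exact (hprime.mem_or_mem hXf).resolve_left (X_notMem_schubertVanishing hd w w le_rfl)

theorem ker_cellEval [Infinite K] (hd : 0 < d) (w : Idx d n) :
    RingHom.ker (cellEval (K := K) w).toRingHom = schubertVanishing K d n w := by
  ext f
  rw [RingHom.mem_ker]
  exact ⟨fun h => mem_of_cellEval_eq_zero hd w f h,
    fun h => schubertVanishing_le_ker_cellEval hd w f h⟩

end Groth.Agent.Lib.Helper18.Plucker
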