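import Groth.Agent.Lib.Helper18.Plucker.StrShape2

/-!
# Weights on Plücker coordinates and weighted straightening
-/

set_option autoImplicit false

namespace Groth.Agent.Lib.Helper18.Plucker

open W4bk4grassmannian MvPolynomial

universe u

variable {K : Type u} [Field K] {d n : ℕ}

/-! ## The total counting statistic -/

/-- The sum of the counting function. -/
def sc (θ : Idx d n) : ℕ := ∑ x ∈ Finset.range (n + 1), cnt θ.1 x

theorem sc_le (θ : Idx d n) : sc θ ≤ (n + 1) * d := by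
  unfold sc
  calc ∑ x ∈ Finset.range (n + 1), cnt θ.1 x ≤ ∑ _x ∈ Finset.range (n + 1), d :=
        Finset.sum_le_sum fun x _ => cnt_le _ _
    _ = (n + 1) * d := by simp

theorem sc_anti {α β : Idx d n} (h : α ≤ β) : sc β ≤ sc α :=
  Finset.sum_le_sum fun x _ => (idx_le_iff_cnt α β).1 h x

theorem sc_lt {α β : Idx d n} (h : α < β) : sc β < sc α := by
  apply lt_of_le_of_ne (sc_anti h.le)
  intro heq
  apply h.ne
  apply idx_eq_of_cnt
  intro x
  by_cases hx : x ∈ Finset.range (n + 1)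
  · have h1 : ∀ y ∈ Finset.range (n + 1), cnt β.1 y ≤ cnt α.1 y :=
      fun y _ => (idx_le_iff_cnt α β).1 h.le y
    exact ((Finset.sum_eq_sum_iff_of_le h1).1 heq x hx).symm
  · rw [Finset.mem_range, not_lt] at hx
    rw [cnt_top α (by omega), cnt_top β (by omega)]

/-- The non-strict shape of the terms of a straightening relation. -/
def StrRelLe (τ φ α β : Idx d n) : Prop :=
  β ≤ α ∧ W4bk4grassmannian.sup τ φ ≤ α ∧ β ≤ W4bk4grassmannian.inf τ φ ∧
    ∀ x : ℕ, cnt α.1 x + cnt β.1 x = cnt τ.1 x + cnt φ.1 x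

theorem StrRel.le {τ φ α β : Idx d n} (h : StrRel τ φ α β) : StrRelLe τ φ α β :=
  ⟨h.1, h.2.1.le, h.2.2.1.le, h.2.2.2⟩

theorem inf_le_sup (τ φ : Idx d n) : W4bk4grassmannian.inf τ φ ≤ W4bk4grassmannian.sup τ φ :=
  fun t => le_trans (min_le_left _ _) (le_max_left _ _)

theorem strRelLe_sup_inf (τ φ : Idx d n) :
    StrRelLe τ φ (W4bk4grassmannian.sup τ φ) (W4bk4grassmannian.inf τ φ) :=
  ⟨inf_le_sup τ φ, le_rfl, le_rfl, content_sup_inf τ φ⟩

theorem le_sup_left' (τ φ : Idx d n) : τ ≤ W4bk4grassmannian.sup τ φ := fun t => le_max_left _ _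

theorem le_sup_right' (τ φ : Idx d n) : φ ≤ W4bk4grassmannian.sup τ φ := fun t => le_max_right _ _

theorem lt_sup_left {τ φ : Idx d n} (h₂ : ¬ φ ≤ τ) : τ < W4bk4grassmannian.sup τ φ := by
  apply lt_of_le_of_ne (le_sup_left' τ φ)
  intro h
  apply h₂
  rw [h]
  exact le_sup_right' τ φ

theorem lt_sup_right {τ φ : Idx d n} (h₁ : ¬ τ ≤ φ) : φ < W4bk4grassmannian.sup τ φ := by
  apply lt_of_le_of_ne (le_sup_right' τ φ)
  intro h
  apply h₁
  rw [h]
  exact le_sup_left' τ φ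

theorem sc_content {τ φ α β : Idx d n}
    (hc : ∀ x : ℕ, cnt α.1 x + cnt β.1 x = cnt τ.1 x + cnt φ.1 x) :
    sc α + sc β = sc τ + sc φ := by
  unfold sc
  rw [← Finset.sum_add_distrib, ← Finset.sum_add_distrib]
  exact Finset.sum_congr rfl fun x _ => hc x

/-- The measure strictly increases along a straightening step. -/
theorem sc_sq_lt {τ φ α β : Idx d n} (h₁ : ¬ τ ≤ φ) (h₂ : ¬ φ ≤ τ) (h : StrRelLe τ φ α β) :
    sc τ ^ 2 + sc φ ^ 2 < sc α ^ 2 + sc β ^ 2 := by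
  have e1 : sc α < sc τ := sc_lt (lt_of_lt_of_le (lt_sup_left h₂) h.2.1)
  have e2 : sc α < sc φ := sc_lt (lt_of_lt_of_le (lt_sup_right h₁) h.2.1)
  have e3 := sc_content h.2.2.2
  obtain ⟨s, hs⟩ : ∃ s, sc τ = sc α + s + 1 := ⟨sc τ - sc α - 1, by omega⟩
  obtain ⟨t, ht⟩ : ∃ t, sc φ = sc α + t + 1 := ⟨sc φ - sc α - 1, by omega⟩
  have hb : sc β = sc α + s + t + 2 := by omega
  rw [hs, ht, hb]
  nlinarith

/-! ## The two weights -/

/-- The weight of the Stanley–Reisner degeneration. -/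
def omegaS (θ : Idx d n) : ℕ := ((n + 1) * d) ^ 2 - sc θ ^ 2

theorem omegaS_lt {τ φ α β : Idx d n} (h₁ : ¬ τ ≤ φ) (h₂ : ¬ φ ≤ τ) (h : StrRelLe τ φ α β) :
    omegaS α + omegaS β < omegaS τ + omegaS φ := by
  have h1 := sc_sq_lt h₁ h₂ h
  have b1 := Nat.pow_le_pow_left (sc_le α) 2
  have b2 := Nat.pow_le_pow_left (sc_le β) 2
  have b3 := Nat.pow_le_pow_left (sc_le τ) 2
  have b4 := Nat.pow_le_pow_left (sc_le φ) 2
  unfold omegaS
  omega

/-- The weight of the Hibi degeneration. -/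
def omegaH (θ : Idx d n) : ℕ := ∑ x ∈ Finset.range (n + 1), (d ^ 2 - cnt θ.1 x ^ 2)

theorem omegaH_term_le {a b p q D : ℕ} (ha : a ≤ D) (hb : b ≤ D) (hp : p ≤ D) (hq : q ≤ D)
    (hab : a + b = p + q) (hap : a ≤ p) (haq : a ≤ q) :
    (D ^ 2 - a ^ 2) + (D ^ 2 - b ^ 2) ≤ (D ^ 2 - p ^ 2) + (D ^ 2 - q ^ 2) := by
  have b1 := Nat.pow_le_pow_left ha 2
  have b2 := Nat.pow_le_pow_left hb 2
  have b3 := Nat.pow_le_pow_left hp 2
  have b4 := Nat.pow_le_pow_left hq 2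
  have hsq : p ^ 2 + q ^ 2 ≤ a ^ 2 + b ^ 2 := by
    obtain ⟨s, rfl⟩ : ∃ s, p = a + s := ⟨p - a, by omega⟩
    obtain ⟨t, rfl⟩ : ∃ t, q = a + t := ⟨q - a, by omega⟩
    have : b = a + s + t := by omega
    rw [this]
    nlinarith
  omega

theorem omegaH_term_lt {a b p q D : ℕ} (ha : a ≤ D) (hb : b ≤ D) (hp : p ≤ D) (hq : q ≤ D)
    (hab : a + b = p + q) (hap : a < p) (haq : a < q) :
    (D ^ 2 - a ^ 2) + (D ^ 2 - b ^ 2) < (D ^ 2 - p ^ 2) + (D ^ 2 - q ^ 2) := by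
  have b1 := Nat.pow_le_pow_left ha 2
  have b2 := Nat.pow_le_pow_left hb 2
  have b3 := Nat.pow_le_pow_left hp 2
  have b4 := Nat.pow_le_pow_left hq 2
  have hsq : p ^ 2 + q ^ 2 < a ^ 2 + b ^ 2 := by
    obtain ⟨s, rfl⟩ : ∃ s, p = a + s + 1 := ⟨p - a - 1, by omega⟩
    obtain ⟨t, rfl⟩ : ∃ t, q = a + t + 1 := ⟨q - a - 1, by omega⟩
    have : b = a + s + t + 2 := by omega
    rw [this]
    nlinarith
  omega

theorem cnt_le_of_sup_le {τ φ α : Idx d n} (h : W4bk4grassmannian.sup τ φ ≤ α) (x : ℕ) :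
    cnt α.1 x ≤ cnt τ.1 x ∧ cnt α.1 x ≤ cnt φ.1 x := by
  have := (idx_le_iff_cnt _ _).1 h x
  rw [cnt_sup] at this
  exact ⟨this.trans (min_le_left _ _), this.trans (min_le_right _ _)⟩

theorem omegaH_le {τ φ α β : Idx d n} (h : StrRelLe τ φ α β) :
    omegaH α + omegaH β ≤ omegaH τ + omegaH φ := by
  unfold omegaH
  rw [← Finset.sum_add_distrib, ← Finset.sum_add_distrib]
  refine Finset.sum_le_sum fun x _ => ?_
  obtain ⟨h1, h2⟩ := cnt_le_of_sup_le h.2.1 x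
  exact omegaH_term_le (cnt_le _ _) (cnt_le _ _) (cnt_le _ _) (cnt_le _ _) (h.2.2.2 x) h1 h2

theorem omegaH_sup_inf (τ φ : Idx d n) :
    omegaH (W4bk4grassmannian.sup τ φ) + omegaH (W4bk4grassmannian.inf τ φ) =
      omegaH τ + omegaH φ := by
  unfold omegaH
  rw [← Finset.sum_add_distrib, ← Finset.sum_add_distrib]
  refine Finset.sum_congr rfl fun x _ => ?_
  rw [cnt_sup, cnt_inf]
  rcases le_total (cnt τ.1 x) (cnt φ.1 x) with h | h
  · rw [min_eq_left h, max_eq_right h]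
  · rw [min_eq_right h, max_eq_left h, add_comm]

theorem omegaH_lt {τ φ α β : Idx d n} (h : StrRel τ φ α β) :
    omegaH α + omegaH β < omegaH τ + omegaH φ := by
  have hle := h.le
  -- a point where the counting functions differ
  obtain ⟨x, hx, hlt⟩ : ∃ x ∈ Finset.range (n + 1),
      cnt α.1 x < cnt (W4bk4grassmannian.sup τ φ).1 x := by
    by_contra hcon
    push_neg at hcon
    apply h.2.1.ne
    apply idx_eq_of_cnt
    intro x
    by_cases hx : x ∈ Finset.range (n + 1)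
    · exact le_antisymm (hcon x hx) ((idx_le_iff_cnt _ _).1 h.2.1.le x)
    · rw [Finset.mem_range, not_lt] at hx
      rw [cnt_top α (by omega), cnt_top _ (by omega)]
  unfold omegaH
  rw [← Finset.sum_add_distrib, ← Finset.sum_add_distrib]
  refine Finset.sum_lt_sum (fun y _ => ?_) ⟨x, hx, ?_⟩
  · obtain ⟨h1, h2⟩ := cnt_le_of_sup_le hle.2.1 y
    exact omegaH_term_le (cnt_le _ _) (cnt_le _ _) (cnt_le _ _) (cnt_le _ _) (h.2.2.2 y) h1 h2
  · rw [cnt_sup] at hlt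
    exact omegaH_term_lt (cnt_le _ _) (cnt_le _ _) (cnt_le _ _) (cnt_le _ _) (h.2.2.2 x)
      (lt_of_lt_of_le hlt (min_le_left _ _)) (lt_of_lt_of_le hlt (min_le_right _ _))

end Groth.Agent.Lib.Helper18.Plucker
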