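import Groth.Agent.Lib.Helper18.Plucker.Degen1

/-!
# Weighted straightening
-/

set_option autoImplicit false

namespace Groth.Agent.Lib.Helper18.Plucker

open W4bk4grassmannian MvPolynomial

universe u

variable {K : Type u} [Field K] {d n : ℕ}

/-- A totally ordered multiset of indices is the multiset of a chain. -/
theorem exists_chain_of_multiset (M : Multiset (Idx d n))
    (hM : ∀ τ ∈ M, ∀ φ ∈ M, τ ≤ φ ∨ φ ≤ τ) :
    ∃ c : Chain d n, chainMon K c.2.1 = mon K M ∧
      (∀ f : Idx d n → ℕ, ∑ k, f (c.2.1 k) = (M.map f).sum) ∧ ∀ k, c.2.1 k ∈ M := by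
  obtain ⟨l, hl, hp⟩ := exists_list_of_chain M hM
  refine ⟨⟨l.length, ⟨fun k => l.get k, ?_⟩⟩, ?_, ?_, ?_⟩
  · intro a b hab
    rcases hab.lt_or_eq with h | h
    · exact (List.pairwise_iff_get.1 hp) a b h
    · rw [h]
  · unfold chainMon mon
    have hmap : (l.map (X : Idx d n → PlRing K d n)) =
        List.ofFn (fun k : Fin l.length => (X (l.get k) : PlRing K d n)) := by
      conv_lhs => rw [← List.ofFn_get l]
      rw [List.map_ofFn]
      rfl
    rw [← hl, Multiset.map_coe, Multiset.prod_coe, hmap, List.prod_ofFn]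
  · intro f
    have hmap : (l.map f) = List.ofFn (fun k : Fin l.length => f (l.get k)) := by
      conv_lhs => rw [← List.ofFn_get l]
      rw [List.map_ofFn]
      rfl
    rw [← hl, Multiset.map_coe, Multiset.sum_coe, hmap, List.sum_ofFn]
  · intro k
    rw [← hl]
    exact Multiset.mem_coe.2 (List.get_mem l k)

/-- The measure: sum of squares of the counting statistics. -/
def nu (M : Multiset (Idx d n)) : ℕ := (M.map fun τ => (sc τ) ^ 2).sum

theorem nu_le (M : Multiset (Idx d n)) : nu M ≤ Multiset.card M * ((n + 1) * d) ^ 2 := by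
  unfold nu
  have := Multiset.sum_le_card_nsmul (M.map fun τ : Idx d n => (sc τ) ^ 2) (((n + 1) * d) ^ 2) ?_
  · simpa using this
  · intro x hx
    obtain ⟨τ, _, rfl⟩ := Multiset.mem_map.1 hx
    exact Nat.pow_le_pow_left (sc_le τ) 2

variable [Infinite K]

/-- Weighted straightening: modulo an ideal containing the Plücker ideal, every monomial is a
combination of standard monomials of at most the same weight. -/
theorem ws (hd : 0 < d) (hdn : d ≤ n) (J' : Ideal (PlRing K d n))
    (hJ' : vanishing K d n ≤ J') (ω : Idx d n → ℕ)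
    (Hω : ∀ τ φ α β : Idx d n, ¬ τ ≤ φ → ¬ φ ≤ τ → StrRelLe τ φ α β →
      ω α + ω β ≤ ω τ + ω φ)
    (M : Multiset (Idx d n)) :
    Ideal.Quotient.mk J' (mon K M) ∈ Submodule.span K {x | ∃ c : Chain d n,
      (∑ k, ω (c.2.1 k)) ≤ (M.map ω).sum ∧ x = Ideal.Quotient.mk J' (chainMon K c.2.1)} := by
  induction' hk : Multiset.card M * ((n + 1) * d) ^ 2 - nu M using Nat.strong_induction_on
    with k ih generalizing M
  by_cases hM : ∀ τ ∈ M, ∀ φ ∈ M, τ ≤ φ ∨ φ ≤ τ
  · obtain ⟨c, hc1, hc2, -⟩ := exists_chain_of_multiset (K := K) M hM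
    exact Submodule.subset_span ⟨c, (hc2 ω).le, by rw [hc1]⟩
  push_neg at hM
  obtain ⟨τ, hτ, φ, hφ, h1, h2⟩ := hM
  have hne : τ ≠ φ := fun h => h1 (h ▸ le_refl _)
  obtain ⟨N, hN⟩ : ∃ N, M = τ ::ₘ φ ::ₘ N := by
    refine ⟨(M.erase τ).erase φ, ?_⟩
    have hφ' : φ ∈ M.erase τ := (Multiset.mem_erase_of_ne (Ne.symm hne)).2 hφ
    rw [Multiset.cons_erase hφ', Multiset.cons_erase hτ]
  obtain ⟨g, hg, hrel⟩ := straightening_shape (K := K) hd hdn τ φ h1 h2
  -- the target span
  set T := Submodule.span K {x | ∃ c : Chain d n,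
      (∑ k, ω (c.2.1 k)) ≤ (M.map ω).sum ∧ x = Ideal.Quotient.mk J' (chainMon K c.2.1)} with hT
  -- each term
  have hterm : ∀ α β : Idx d n, StrRelLe τ φ α β →
      Ideal.Quotient.mk J' (X α * X β * mon K N) ∈ T := by
    intro α β hαβ
    have hmon : X α * X β * mon K N = mon K (α ::ₘ β ::ₘ N) := by
      rw [mon_cons, mon_cons, mul_assoc]
    rw [hmon]
    have hnu : nu (τ ::ₘ φ ::ₘ N) < nu (α ::ₘ β ::ₘ N) := by
      unfold nu
      simp only [Multiset.map_cons, Multiset.sum_cons]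
      have := sc_sq_lt h1 h2 hαβ
      omega
    have hcard : Multiset.card (α ::ₘ β ::ₘ N) = Multiset.card M := by
      rw [hN]; simp
    have hle := nu_le (α ::ₘ β ::ₘ N)
    have hω : ((α ::ₘ β ::ₘ N).map ω).sum ≤ (M.map ω).sum := by
      rw [hN]
      simp only [Multiset.map_cons, Multiset.sum_cons]
      have := Hω τ φ α β h1 h2 hαβ
      omega
    have := ih (Multiset.card (α ::ₘ β ::ₘ N) * ((n + 1) * d) ^ 2 - nu (α ::ₘ β ::ₘ N)) ?_ _ rfl
    · refine Submodule.span_mono ?_ this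
      rintro x ⟨c, hc, rfl⟩
      exact ⟨c, hc.trans hω, rfl⟩
    · rw [← hk, hcard, hN] at *
      omega
  -- the linear map `f ↦ mk (f * mon N)`
  let L : PlRing K d n →ₗ[K] (PlRing K d n ⧸ J') :=
    (Ideal.Quotient.mkₐ K J').toLinearMap ∘ₗ LinearMap.mulRight K (mon K N)
  have hL : ∀ f, L f = Ideal.Quotient.mk J' (f * mon K N) := fun f => rfl
  have hgT : L g ∈ T := by
    have hle : Submodule.span K {f : PlRing K d n | ∃ α β : Idx d n,
        StrRel τ φ α β ∧ f = X α * X β} ≤ T.comap L := by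
      rw [Submodule.span_le]
      rintro _ ⟨α, β, hαβ, rfl⟩
      rw [SetLike.mem_coe, Submodule.mem_comap, hL]
      exact hterm α β hαβ.le
    exact hle hg
  have hsplit : Ideal.Quotient.mk J' (mon K M) =
      L (X (W4bk4grassmannian.sup τ φ) * X (W4bk4grassmannian.inf τ φ)) + L g := by
    rw [← map_add, hL, hN, mon_cons, mon_cons, ← mul_assoc, eq_comm, ← sub_eq_zero, ← map_sub,
      Ideal.Quotient.eq_zero_iff_mem]
    have : (X (W4bk4grassmannian.sup τ φ) * X (W4bk4grassmannian.inf τ φ) + g) * mon K N -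
        X τ * X φ * mon K N =
        -((X τ * X φ - X (W4bk4grassmannian.sup τ φ) * X (W4bk4grassmannian.inf τ φ) - g) *
          mon K N) := by ring
    rw [this]
    exact neg_mem (Ideal.mul_mem_right _ _ (hJ' hrel))
  rw [hsplit]
  exact Submodule.add_mem _ (by rw [hL]; exact hterm _ _ (strRelLe_sup_inf τ φ)) hgT

end Groth.Agent.Lib.Helper18.Plucker
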