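import Groth.Agent.Lib.Helper18.Plucker.Degen2
import Groth.Agent.Lib.Helper18.Rees.Fibre

/-!
# The Rees data of a Schubert variety
-/

set_option autoImplicit false

namespace Groth.Agent.Lib.Helper18.Plucker

open W4bk4grassmannian MvPolynomial Rees

universe u

variable {K : Type u} [Field K] {d n : ℕ}

/-- The class of a Plücker coordinate in the Schubert ring. -/
noncomputable def xgB (K : Type u) [Field K] (w : Idx d n) (θ : Below w) :
    PlRing K d n ⧸ schubertVanishing K d n w :=
  Ideal.Quotient.mk _ (X θ.1)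

/-- Standard monomials on `X(w)`. -/
abbrev ChainB (w : Idx d n) : Type := {c : Chain d n // ∀ k, c.2.1 k ≤ w}

open Classical in
/-- The exponent vector of an index. -/
noncomputable def emb (w : Idx d n) (θ : Idx d n) : Below w →₀ ℕ :=
  if h : θ ≤ w then Finsupp.single ⟨θ, h⟩ 1 else 0

theorem emb_of_le {w θ : Idx d n} (h : θ ≤ w) : emb w θ = Finsupp.single ⟨θ, h⟩ 1 := by
  unfold emb
  rw [dif_pos h]

theorem emb_val {w : Idx d n} (θ : Below w) : emb w θ.1 = Finsupp.single θ 1 :=
  emb_of_le θ.2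

/-- The exponent vector of a standard monomial. -/
noncomputable def monoB (w : Idx d n) (c : ChainB w) : Below w →₀ ℕ :=
  ∑ k, emb w (c.1.2.1 k)

theorem val_sum {G : Type*} {A : Type*} [CommRing A] (xg : G → A) {ι : Type*} (s : Finset ι)
    (f : ι → (G →₀ ℕ)) : val xg (∑ k ∈ s, f k) = ∏ k ∈ s, val xg (f k) := by
  classical
  induction s using Finset.induction_on with
  | empty => simp [val_zero]
  | insert a s ha ih => rw [Finset.sum_insert ha, Finset.prod_insert ha, val_add, ih]

theorem wt_sum {G : Type*} (ωg : G → ℕ) {ι : Type*} (s : Finset ι)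
    (f : ι → (G →₀ ℕ)) : Rees.wt ωg (∑ k ∈ s, f k) = ∑ k ∈ s, Rees.wt ωg (f k) := by
  unfold Rees.wt
  rw [map_sum]

theorem val_monoB (w : Idx d n) (c : ChainB w) :
    val (xgB K w) (monoB w c) = Ideal.Quotient.mk _ (chainMon K c.1.2.1) := by
  unfold monoB chainMon
  rw [val_sum, map_prod]
  refine Finset.prod_congr rfl fun k _ => ?_
  rw [emb_of_le (c.2 k), val_single, pow_one]
  rfl

theorem wt_monoB (w : Idx d n) (ω : Idx d n → ℕ) (c : ChainB w) :
    Rees.wt (fun θ : Below w => ω θ.1) (monoB w c) = ∑ k, ω (c.1.2.1 k) := by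
  unfold monoB
  rw [wt_sum]
  refine Finset.sum_congr rfl fun k _ => ?_
  rw [emb_of_le (c.2 k), wt_single, one_mul]

/-- The multiset of indices of an exponent vector. -/
noncomputable def Mu {w : Idx d n} (u : Below w →₀ ℕ) : Multiset (Idx d n) :=
  (Finsupp.toMultiset u).map Subtype.val

theorem Mu_add {w : Idx d n} (u v : Below w →₀ ℕ) : Mu (u + v) = Mu u + Mu v := by
  unfold Mu
  rw [map_add, Multiset.map_add]

theorem Mu_single {w : Idx d n} (θ : Below w) (k : ℕ) :
    Mu (Finsupp.single θ k) = k • {θ.1} := by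
  unfold Mu
  rw [Finsupp.toMultiset_single, Multiset.map_nsmul, Multiset.map_singleton]

theorem mem_Mu {w : Idx d n} (u : Below w →₀ ℕ) (θ : Idx d n) (h : θ ∈ Mu u) : θ ≤ w := by
  unfold Mu at h
  obtain ⟨θ', -, rfl⟩ := Multiset.mem_map.1 h
  exact θ'.2

theorem val_eq_mon (w : Idx d n) (u : Below w →₀ ℕ) :
    val (xgB K w) u = Ideal.Quotient.mk _ (mon K (Mu u)) := by
  induction u using Finsupp.induction_linear with
  | zero =>
    rw [val_zero]
    unfold Mu
    rw [map_zero, Multiset.map_zero, mon_zero, map_one]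
  | add u v hu hv => rw [val_add, Mu_add, mon_add, map_mul, hu, hv]
  | single θ k =>
    rw [val_single, Mu_single]
    unfold mon xgB
    rw [Multiset.map_nsmul, Multiset.prod_nsmul, Multiset.map_singleton, Multiset.prod_singleton,
      map_pow]

theorem wt_eq_sum (w : Idx d n) (ω : Idx d n → ℕ) (u : Below w →₀ ℕ) :
    Rees.wt (fun θ : Below w => ω θ.1) u = ((Mu u).map ω).sum := by
  induction u using Finsupp.induction_linear with
  | zero =>
    rw [wt_zero]
    unfold Mu
    rw [map_zero, Multiset.map_zero, Multiset.map_zero, Multiset.sum_zero]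
  | add u v hu hv => rw [wt_add, Mu_add, Multiset.map_add, Multiset.sum_add, hu, hv]
  | single θ k =>
    rw [wt_single, Mu_single, Multiset.map_nsmul, Multiset.sum_nsmul, Multiset.map_singleton,
      Multiset.sum_singleton, smul_eq_mul]

variable [Infinite K]

/-- The standard monomials are linearly independent. -/
theorem hind_schubert (hd : 0 < d) (w : Idx d n) :
    LinearIndependent K (fun c : ChainB w => val (xgB K w) (monoB w c)) := by
  have h := std_indep' (K := K) hd (fun _ : Unit => w) (fun c : ChainB w => c.1)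
    Subtype.val_injective (fun c => ⟨(), c.2⟩)
  rw [iInf_const] at h
  convert h using 2 with c
  exact val_monoB w c

/-- The standard monomials span. -/
theorem hgen_schubert (w : Idx d n) :
    Submodule.span K (Set.range fun c : ChainB w => val (xgB K w) (monoB w c)) = ⊤ := by
  have h := span_std_eq_top (K := K) (schubertVanishing K d n w)
    (plIdealTop_le_schubertVanishing w) (fun c => ∀ k, c.2.1 k ≤ w) (by
      intro c hc
      obtain ⟨k, hk⟩ := not_forall.1 hc
      exact chainMon_mem_of_X_mem _ _ k (X_mem_schubertVanishing _ _ hk))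
  rw [eq_top_iff, ← h, Submodule.span_le]
  rintro _ ⟨c, hc, rfl⟩
  exact Submodule.subset_span ⟨⟨c, hc⟩, val_monoB w ⟨c, hc⟩⟩

/-- Weighted straightening on the Schubert variety. -/
theorem hstr_schubert (hd : 0 < d) (hdn : d ≤ n) (w : Idx d n) (ω : Idx d n → ℕ)
    (Hω : ∀ τ φ α β : Idx d n, ¬ τ ≤ φ → ¬ φ ≤ τ → StrRelLe τ φ α β →
      ω α + ω β ≤ ω τ + ω φ) (u : Below w →₀ ℕ) :
    val (xgB K w) u ∈ Submodule.span K ((fun c : ChainB w => val (xgB K w) (monoB w c)) ''
      {e | Rees.wt (fun θ : Below w => ω θ.1) (monoB w e) ≤ Rees.wt (fun θ : Below w => ω θ.1) u}) := by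
  rw [val_eq_mon, wt_eq_sum]
  have h := ws (K := K) hd hdn (schubertVanishing K d n w) (vanishing_le_schubertVanishing w) ω Hω
    (Mu u)
  refine (Submodule.span_le.2 ?_) h
  rintro _ ⟨c, hc, rfl⟩
  by_cases hcw : ∀ k, c.2.1 k ≤ w
  · refine Submodule.subset_span ⟨⟨c, hcw⟩, ?_, val_monoB w ⟨c, hcw⟩⟩
    change Rees.wt _ (monoB w ⟨c, hcw⟩) ≤ _
    rw [wt_monoB]
    exact hc
  · obtain ⟨k, hk⟩ := not_forall.1 hcw
    rw [SetLike.mem_coe, Ideal.Quotient.eq_zero_iff_mem.2
      (chainMon_mem_of_X_mem _ _ k (X_mem_schubertVanishing _ _ hk))]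
    exact Submodule.zero_mem _

end Groth.Agent.Lib.Helper18.Plucker
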