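import Groth.Agent.Lib.Helper18.Plucker.Degen3

/-!
# The degeneration of a Schubert variety to the Stanley–Reisner ring of its poset
-/

set_option autoImplicit false

namespace Groth.Agent.Lib.Helper18.Plucker

open W4bk4grassmannian MvPolynomial Rees

universe u

variable {K : Type u} [Field K] {d n : ℕ}

/-- A totally ordered multiset of indices is the multiset of a chain. -/
theorem exists_chain_of_multiset' (M : Multiset (Idx d n))
    (hM : ∀ τ ∈ M, ∀ φ ∈ M, τ ≤ φ ∨ φ ≤ τ) :
    ∃ c : Chain d n, Finset.univ.val.map c.2.1 = M := by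
  obtain ⟨l, hl, hp⟩ := exists_list_of_chain M hM
  refine ⟨⟨l.length, ⟨fun k => l.get k, ?_⟩⟩, ?_⟩
  · intro a b hab
    rcases hab.lt_or_eq with h | h
    · exact (List.pairwise_iff_get.1 hp) a b h
    · rw [h]
  · rw [Fin.univ_val_map, ← hl]
    congr 1
    exact List.ofFn_get l

theorem sum_map_emb (w : Idx d n) (u : Below w →₀ ℕ) : ((Mu u).map (emb w)).sum = u := by
  induction u using Finsupp.induction_linear with
  | zero =>
    unfold Mu
    rw [map_zero, Multiset.map_zero, Multiset.map_zero, Multiset.sum_zero]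
  | add u v hu hv => rw [Mu_add, Multiset.map_add, Multiset.sum_add, hu, hv]
  | single θ k =>
    rw [Mu_single, Multiset.map_nsmul, Multiset.sum_nsmul, Multiset.map_singleton,
      Multiset.sum_singleton, emb_val, Finsupp.smul_single, smul_eq_mul, mul_one]

/-- A chain-supported exponent vector is the exponent vector of a standard monomial. -/
theorem exists_chainB (w : Idx d n) (u : Below w →₀ ℕ)
    (hu : ∀ α ∈ u.support, ∀ β ∈ u.support, α ≤ β ∨ β ≤ α) :
    ∃ c : ChainB w, monoB w c = u := by
  have hM : ∀ τ ∈ Mu u, ∀ φ ∈ Mu u, τ ≤ φ ∨ φ ≤ τ := by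
    intro τ hτ φ hφ
    unfold Mu at hτ hφ
    obtain ⟨a, ha, rfl⟩ := Multiset.mem_map.1 hτ
    obtain ⟨b, hb, rfl⟩ := Multiset.mem_map.1 hφ
    rw [Finsupp.mem_toMultiset] at ha hb
    exact hu a ha b hb
  obtain ⟨c, hc⟩ := exists_chain_of_multiset' (Mu u) hM
  have hcw : ∀ k, c.2.1 k ≤ w := by
    intro k
    apply mem_Mu u
    rw [← hc]
    exact Multiset.mem_map.2 ⟨k, Finset.mem_univ_val k, rfl⟩
  refine ⟨⟨c, hcw⟩, ?_⟩
  unfold monoB
  change (Finset.univ.val.map fun k => emb w (c.2.1 k)).sum = u
  rw [← sum_map_emb w u, ← hc, Multiset.map_map]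
  rfl

theorem sum_pairChain (f : Idx d n → ℕ) (α β : Idx d n) (h : β ≤ α) :
    ∑ k, f ((pairChain α β h).2.1 k) = f α + f β := by
  unfold pairChain
  simp [Fin.sum_univ_two]

/-- A standard quadratic monomial of small weight. -/
theorem pair_mem (w : Idx d n) (ω : Idx d n → ℕ) (α β : Idx d n) (h : β ≤ α) (N : ℕ)
    (hlt : ω α + ω β < N) :
    Ideal.Quotient.mk (schubertVanishing K d n w) (X α * X β) ∈
      Submodule.span K ((fun c : ChainB w => val (xgB K w) (monoB w c)) ''
        {e | Rees.wt (fun θ : Below w => ω θ.1) (monoB w e) < N}) := by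
  by_cases hα : α ≤ w
  · have hcw : ∀ k, (pairChain α β h).2.1 k ≤ w := by
      intro k
      unfold pairChain
      fin_cases k
      · exact hα
      · exact h.trans hα
    refine Submodule.subset_span ⟨⟨pairChain α β h, hcw⟩, ?_, ?_⟩
    · change Rees.wt _ (monoB w ⟨pairChain α β h, hcw⟩) < N
      rw [wt_monoB, sum_pairChain]
      exact hlt
    · change val (xgB K w) (monoB w ⟨pairChain α β h, hcw⟩) = _
      rw [val_monoB, chainMon_pairChain]
  · rw [Ideal.Quotient.eq_zero_iff_mem.2
      (Ideal.mul_mem_right _ _ (X_mem_schubertVanishing _ _ hα))]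
    exact Submodule.zero_mem _

variable [Infinite K]

/-- The value of a product of two incomparable coordinates has smaller weight. -/
theorem prod_mem_lt (hd : 0 < d) (hdn : d ≤ n) (w : Idx d n) (ω : Idx d n → ℕ)
    (τ φ : Idx d n) (h₁ : ¬ τ ≤ φ) (h₂ : ¬ φ ≤ τ) (N : ℕ)
    (Hω : ∀ α β : Idx d n, StrRelLe τ φ α β → ω α + ω β < N) :
    Ideal.Quotient.mk (schubertVanishing K d n w) (X τ * X φ) ∈
      Submodule.span K ((fun c : ChainB w => val (xgB K w) (monoB w c)) ''
        {e | Rees.wt (fun θ : Below w => ω θ.1) (monoB w e) < N}) := by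
  obtain ⟨g, hg, hrel⟩ := straightening_shape (K := K) hd hdn τ φ h₁ h₂
  have hsplit : Ideal.Quotient.mk (schubertVanishing K d n w) (X τ * X φ) =
      Ideal.Quotient.mk (schubertVanishing K d n w)
        (X (W4bk4grassmannian.sup τ φ) * X (W4bk4grassmannian.inf τ φ)) +
      Ideal.Quotient.mk (schubertVanishing K d n w) g := by
    rw [← map_add, ← sub_eq_zero, ← map_sub, Ideal.Quotient.eq_zero_iff_mem, ← sub_sub]
    exact vanishing_le_schubertVanishing w hrel
  rw [hsplit]
  refine Submodule.add_mem _ (pair_mem w ω _ _ (inf_le_sup τ φ) N (Hω _ _ (strRelLe_sup_inf τ φ))) ?_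
  have hle : Submodule.span K {f : PlRing K d n | ∃ α β : Idx d n,
      StrRel τ φ α β ∧ f = X α * X β} ≤
      (Submodule.span K ((fun c : ChainB w => val (xgB K w) (monoB w c)) ''
        {e | Rees.wt (fun θ : Below w => ω θ.1) (monoB w e) < N})).comap
        (Ideal.Quotient.mkₐ K (schubertVanishing K d n w)).toLinearMap := by
    rw [Submodule.span_le]
    rintro _ ⟨α, β, hαβ, rfl⟩
    rw [SetLike.mem_coe, Submodule.mem_comap]
    exact pair_mem w ω α β hαβ.1 N (Hω α β hαβ.le)
  exact hle hg

/-- The degeneration of the cone over a Schubert variety to the Stanley–Reisner ring. -/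
theorem degeneration_SR (hd : 0 < d) (hdn : d ≤ n) (w : Idx d n) :
    ∃ (R : Type u) (_ : CommRing R) (_ : Algebra K R) (_ : Algebra (Polynomial K) R)
      (_ : IsScalarTower K (Polynomial K) R),
      Module.Free (Polynomial K) R ∧
      Nonempty ((R ⧸ Ideal.span {algebraMap (Polynomial K) R Polynomial.X}) ≃ₐ[K]
        (MvPolynomial (Below w) K ⧸ srIdeal K w)) ∧
      ∀ c : K, c ≠ 0 →
        Nonempty ((R ⧸ Ideal.span {algebraMap (Polynomial K) R (Polynomial.X - Polynomial.C c)})
          ≃ₐ[K] (PlRing K d n ⧸ schubertVanishing K d n w)) := by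
  classical
  refine exists_degeneration (xgB K w) (fun θ : Below w => omegaS θ.1) (monoB w)
    (hstr_schubert hd hdn w omegaS (fun τ φ α β h₁ h₂ h => (omegaS_lt h₁ h₂ h).le))
    (hind_schubert hd w) (hgen_schubert w)
    {f | ∃ a b : Below w, ¬ a ≤ b ∧ ¬ b ≤ a ∧ f = X a * X b} ?_ ?_
  · rintro f ⟨a, b, h1, h2, rfl⟩
    refine ⟨omegaS a.1 + omegaS b.1, ?_, ?_⟩
    · exact (isWeightedHomogeneous_X K _ a).mul (isWeightedHomogeneous_X K _ b)
    · rw [map_mul, aeval_X, aeval_X]
      change Ideal.Quotient.mk (schubertVanishing K d n w) (X a.1 * X b.1) ∈ _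
      exact prod_mem_lt hd hdn w omegaS a.1 b.1 h1 h2 _
        (fun α β h => omegaS_lt h1 h2 h)
  · intro u
    by_cases hu : ∀ α ∈ u.support, ∀ β ∈ u.support, α ≤ β ∨ β ≤ α
    · obtain ⟨c, hc⟩ := exists_chainB w u hu
      exact Submodule.mem_sup_right (Submodule.subset_span ⟨c, by simp only [hc]⟩)
    · push_neg at hu
      obtain ⟨a, ha, b, hb, h1, h2⟩ := hu
      apply Submodule.mem_sup_left
      have hne : a ≠ b := fun h => h1 (h ▸ le_refl _)
      have hle : Finsupp.single a 1 + Finsupp.single b 1 ≤ u := by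
        intro θ
        rw [Finsupp.add_apply, Finsupp.single_apply, Finsupp.single_apply]
        have ha' := Nat.pos_of_ne_zero (Finsupp.mem_support_iff.1 ha)
        have hb' := Nat.pos_of_ne_zero (Finsupp.mem_support_iff.1 hb)
        by_cases e1 : a = θ
        · subst e1
          rw [if_pos rfl, if_neg (Ne.symm hne)]
          omega
        · rw [if_neg e1]
          by_cases e2 : b = θ
          · subst e2
            rw [if_pos rfl]
            omega
          · rw [if_neg e2]
            omega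
      have hu' : u = Finsupp.single a 1 + Finsupp.single b 1 +
          (u - (Finsupp.single a 1 + Finsupp.single b 1)) := (add_tsub_cancel_of_le hle).symm
      have hmon : (monomial u (1 : K) : MvPolynomial (Below w) K) =
          X a * X b * monomial (u - (Finsupp.single a 1 + Finsupp.single b 1)) 1 := by
        conv_lhs => rw [hu']
        rw [X, X, monomial_mul, monomial_mul, one_mul, one_mul]
      rw [hmon]
      exact Ideal.mul_mem_right _ _ (Ideal.subset_span ⟨a, b, h1, h2, rfl⟩)

end Groth.Agent.Lib.Helper18.Plucker
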