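import Groth.Agent.Lib.Helper18.Plucker.Degen4

/-!
# The toric degeneration of a Schubert variety to the Hibi ring of its lattice
-/

set_option autoImplicit false

namespace Groth.Agent.Lib.Helper18.Plucker

open W4bk4grassmannian MvPolynomial Rees

universe u

variable {K : Type u} [Field K] {d n : ℕ}

theorem sup_eq_right {τ φ : Idx d n} (h : τ ≤ φ) : W4bk4grassmannian.sup τ φ = φ :=
  Subtype.ext (funext fun t => max_eq_right (h t))

theorem sup_eq_left {τ φ : Idx d n} (h : φ ≤ τ) : W4bk4grassmannian.sup τ φ = τ :=
  Subtype.ext (funext fun t => max_eq_left (h t))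

theorem inf_eq_left {τ φ : Idx d n} (h : τ ≤ φ) : W4bk4grassmannian.inf τ φ = τ :=
  Subtype.ext (funext fun t => min_eq_left (h t))

theorem inf_eq_right {τ φ : Idx d n} (h : φ ≤ τ) : W4bk4grassmannian.inf τ φ = φ :=
  Subtype.ext (funext fun t => min_eq_right (h t))

/-- The degree of an exponent vector. -/
noncomputable def degF {w : Idx d n} (u : Below w →₀ ℕ) : ℕ := Rees.wt (fun _ : Below w => 1) u

/-- The measure of an exponent vector. -/
noncomputable def nuF {w : Idx d n} (u : Below w →₀ ℕ) : ℕ :=
  Rees.wt (fun θ : Below w => (sc θ.1) ^ 2) u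

theorem nuF_le {w : Idx d n} (u : Below w →₀ ℕ) : nuF u ≤ degF u * ((n + 1) * d) ^ 2 := by
  unfold nuF degF
  induction u using Finsupp.induction_linear with
  | zero => rw [wt_zero, wt_zero, zero_mul]
  | add u v hu hv =>
    rw [wt_add, wt_add, add_mul]
    exact add_le_add hu hv
  | single θ k =>
    rw [wt_single, wt_single, mul_one]
    exact Nat.mul_le_mul_left _ (Nat.pow_le_pow_left (sc_le θ.1) 2)

variable [Infinite K]

/-- Standard monomials span modulo the Hibi relations. -/
theorem hspan_hibi (w : Idx d n) (u : Below w →₀ ℕ) :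
    monomial u (1 : K) ∈ ((hibiIdeal K w).restrictScalars K) ⊔
      Submodule.span K (Set.range fun c : ChainB w => monomial (monoB w c) (1 : K)) := by
  classical
  induction' hk : degF u * ((n + 1) * d) ^ 2 - nuF u using Nat.strong_induction_on
    with k ih generalizing u
  by_cases hu : ∀ α ∈ u.support, ∀ β ∈ u.support, α ≤ β ∨ β ≤ α
  · obtain ⟨c, hc⟩ := exists_chainB w u hu
    exact Submodule.mem_sup_right (Submodule.subset_span ⟨c, by simp only [hc]⟩)
  · push_neg at hu
    obtain ⟨a, ha, b, hb, h1, h2⟩ := hu
    have hne : a ≠ b := fun h => h1 (h ▸ le_refl _)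
    have hle : Finsupp.single a 1 + Finsupp.single b 1 ≤ u := by
      intro θ
      rw [Finsupp.add_apply, Finsupp.single_apply, Finsupp.single_apply]
      have ha' := Nat.pos_of_ne_zero (Finsupp.mem_support_iff.1 ha)
      have hb' := Nat.pos_of_ne_zero (Finsupp.mem_support_iff.1 hb)
      by_cases e1 : a = θ
      · subst e1
        rw [if_pos rfl, if_neg (Ne.symm hne)]
        omega
      · rw [if_neg e1]
        by_cases e2 : b = θ
        · subst e2
          rw [if_pos rfl]
          omega
        · rw [if_neg e2]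
          omega
    set u' := u - (Finsupp.single a 1 + Finsupp.single b 1) with hu'def
    have hu' : u = Finsupp.single a 1 + Finsupp.single b 1 + u' :=
      (add_tsub_cancel_of_le hle).symm
    set u'' := Finsupp.single (Below.sup a b) 1 + Finsupp.single (Below.inf a b) 1 + u'
      with hu''def
    have hmon : (monomial u (1 : K) : MvPolynomial (Below w) K) =
        (X a * X b - X (Below.sup a b) * X (Below.inf a b)) * monomial u' 1 +
          monomial u'' 1 := by
      conv_lhs => rw [hu']
      rw [hu''def, X, X, X, X, sub_mul, monomial_mul, monomial_mul, monomial_mul, monomial_mul,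
        one_mul, one_mul]
      ring
    rw [hmon]
    refine Submodule.add_mem _ (Submodule.mem_sup_left ?_) ?_
    · exact Ideal.mul_mem_right _ _ (Ideal.subset_span ⟨a, b, rfl⟩)
    · have hdeg : degF u'' = degF u := by
        rw [hu', hu''def]
        unfold degF
        simp only [wt_add, wt_single]
      have hnu : nuF u < nuF u'' := by
        rw [hu', hu''def]
        unfold nuF
        simp only [wt_add, wt_single, one_mul]
        have := sc_sq_lt (τ := a.1) (φ := b.1) h1 h2 (strRelLe_sup_inf a.1 b.1)
        change (sc a.1) ^ 2 + (sc b.1) ^ 2 + _ <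
          (sc (W4bk4grassmannian.sup a.1 b.1)) ^ 2 + (sc (W4bk4grassmannian.inf a.1 b.1)) ^ 2 + _
        omega
      have hb1 := nuF_le u''
      refine ih (degF u'' * ((n + 1) * d) ^ 2 - nuF u'') ?_ u'' rfl
      rw [← hk, hdeg] at *
      omega

/-- The toric degeneration of the cone over a Schubert variety to the Hibi ring. -/
theorem degeneration_hibi (hd : 0 < d) (hdn : d ≤ n) (w : Idx d n) :
    ∃ (R : Type u) (_ : CommRing R) (_ : Algebra K R) (_ : Algebra (Polynomial K) R)
      (_ : IsScalarTower K (Polynomial K) R),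
      Module.Free (Polynomial K) R ∧
      Nonempty ((R ⧸ Ideal.span {algebraMap (Polynomial K) R Polynomial.X}) ≃ₐ[K]
        (MvPolynomial (Below w) K ⧸ hibiIdeal K w)) ∧
      ∀ c : K, c ≠ 0 →
        Nonempty ((R ⧸ Ideal.span {algebraMap (Polynomial K) R (Polynomial.X - Polynomial.C c)})
          ≃ₐ[K] (PlRing K d n ⧸ schubertVanishing K d n w)) := by
  classical
  refine exists_degeneration (xgB K w) (fun θ : Below w => omegaH θ.1) (monoB w)
    (hstr_schubert hd hdn w omegaH (fun τ φ α β _ _ h => omegaH_le h))
    (hind_schubert hd w) (hgen_schubert w)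
    {f | ∃ a b : Below w, f = X a * X b - X (Below.sup a b) * X (Below.inf a b)} ?_
    (hspan_hibi w)
  rintro f ⟨a, b, rfl⟩
  refine ⟨omegaH a.1 + omegaH b.1, ?_, ?_⟩
  · refine ((isWeightedHomogeneous_X K _ a).mul (isWeightedHomogeneous_X K _ b)).sub ?_
    have h := (isWeightedHomogeneous_X K (fun θ : Below w => omegaH θ.1) (Below.sup a b)).mul
      (isWeightedHomogeneous_X K (fun θ : Below w => omegaH θ.1) (Below.inf a b))
    have e : omegaH (Below.sup a b).1 + omegaH (Below.inf a b).1 = omegaH a.1 + omegaH b.1 :=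
      omegaH_sup_inf a.1 b.1
    change IsWeightedHomogeneous _ _ (omegaH (Below.sup a b).1 + omegaH (Below.inf a b).1) at h
    rw [e] at h
    exact h
  · rw [map_sub, map_mul, map_mul, aeval_X, aeval_X, aeval_X, aeval_X]
    change Ideal.Quotient.mk (schubertVanishing K d n w) (X a.1 * X b.1) -
      Ideal.Quotient.mk (schubertVanishing K d n w)
        (X (W4bk4grassmannian.sup a.1 b.1) * X (W4bk4grassmannian.inf a.1 b.1)) ∈ _
    by_cases h1 : a.1 ≤ b.1
    · rw [sup_eq_right h1, inf_eq_left h1, mul_comm (X b.1), sub_self]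
      exact Submodule.zero_mem _
    by_cases h2 : b.1 ≤ a.1
    · rw [sup_eq_left h2, inf_eq_right h2, sub_self]
      exact Submodule.zero_mem _
    obtain ⟨g, hg, hrel⟩ := straightening_shape (K := K) hd hdn a.1 b.1 h1 h2
    have hsplit : Ideal.Quotient.mk (schubertVanishing K d n w) (X a.1 * X b.1) -
        Ideal.Quotient.mk (schubertVanishing K d n w)
          (X (W4bk4grassmannian.sup a.1 b.1) * X (W4bk4grassmannian.inf a.1 b.1)) =
        Ideal.Quotient.mk (schubertVanishing K d n w) g := by
      rw [← map_sub, ← sub_eq_zero, ← map_sub, Ideal.Quotient.eq_zero_iff_mem]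
      exact vanishing_le_schubertVanishing w hrel
    rw [hsplit]
    have hle : Submodule.span K {f : PlRing K d n | ∃ α β : Idx d n,
        StrRel a.1 b.1 α β ∧ f = X α * X β} ≤
        (Submodule.span K ((fun c : ChainB w => val (xgB K w) (monoB w c)) ''
          {e | Rees.wt (fun θ : Below w => omegaH θ.1) (monoB w e) <
            omegaH a.1 + omegaH b.1})).comap
          (Ideal.Quotient.mkₐ K (schubertVanishing K d n w)).toLinearMap := by
      rw [Submodule.span_le]
      rintro _ ⟨α, β, hαβ, rfl⟩
      rw [SetLike.mem_coe, Submodule.mem_comap]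
      exact pair_mem w omegaH α β hαβ.1 _ (omegaH_lt hαβ)
    exact hle hg

end Groth.Agent.Lib.Helper18.Plucker
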