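import Groth.Agent.Lib.Helper18.Plucker.FFT3
import Groth.Agent.Lib.Helper18.Dehom.Basic
import Groth.Agent.S11275

/-!
# Determinantal ideals as ideals of opposite cells of Schubert varieties

`cellRho : PlRing K d (d+r) → K[Z]`, `X_θ ↦ p_θ([I; Z])`, is surjective and the preimage of the ideal
of `t`-minors of `Z` is `J(w) + (X_ι - 1)` for the Schubert index `w = wdet d r t`.
-/

set_option autoImplicit false

namespace Groth.Agent.Lib.Helper18.Plucker

open W4bk4grassmannian MvPolynomial

universe u

variable {K : Type u} [Field K] {d r : ℕ}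

/-- The bottom index of `I(d, d+r)`. -/
abbrev iota (d r : ℕ) : Idx d (d + r) := botIdx d (d + r) (Nat.le_add_right d r)

theorem cellMatrix_submatrix_iota :
    (cellMatrix K d r).submatrix (iota d r).1 id = 1 := by
  ext s t
  simp only [Matrix.submatrix_apply, id, cellMatrix, Matrix.of_apply, botIdx, Matrix.one_apply]
  rw [dif_pos s.isLt]
  by_cases h : s = t
  · rw [if_pos h, if_pos (by rw [h])]
  · rw [if_neg h, if_neg (fun h' => h (Fin.ext h'))]

/-- The restriction of the Plücker coordinates to the opposite big cell. -/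
noncomputable def cellRho (K : Type u) [Field K] (d r : ℕ) :
    PlRing K d (d + r) →ₐ[K] CellRing K d r :=
  aeval fun θ => cellMinor K d r θ

theorem cellRho_X (θ : Idx d (d + r)) : cellRho K d r (X θ) = cellMinor K d r θ := by
  unfold cellRho
  rw [aeval_X]

theorem cellRho_coord (a : Fin d → Fin (d + r)) :
    cellRho K d r (coord K d (d + r) a) = ((cellMatrix K d r).submatrix a id).det :=
  aeval_minors_coord (cellMatrix K d r) a

theorem cellRho_X_iota : cellRho K d r (X (iota d r)) = 1 := by
  rw [cellRho_X]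
  unfold cellMinor
  rw [cellMatrix_submatrix_iota, Matrix.det_one]

theorem cellRho_surjective : Function.Surjective (cellRho K d r) := by
  rw [← AlgHom.range_eq_top, eq_top_iff, ← MvPolynomial.adjoin_range_X, Algebra.adjoin_le_iff]
  rintro _ ⟨⟨i, j⟩, rfl⟩
  refine ⟨coord K d (d + r) (Function.update (iota d r).1 j ⟨d + i.val, by omega⟩), ?_⟩
  change cellRho K d r (coord K d (d + r) _) = _
  rw [cellRho_coord, det_submatrix_update _ (iota d r) cellMatrix_submatrix_iota]
  simp only [cellMatrix, Matrix.of_apply]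
  rw [dif_neg (by simp)]
  congr 2
  exact Fin.ext (by simp)

theorem cellRho_eq_evalMat (f : PlRing K d (d + r)) :
    cellRho K d r f = evalMat (cellMatrix K d r) (pluckerMap K d (d + r) f) := by
  have : (evalMat (K := K) (cellMatrix K d r)).comp (pluckerMap K d (d + r)) = cellRho K d r := by
    apply MvPolynomial.algHom_ext
    intro θ
    change evalMat (K := K) (cellMatrix K d r) (pluckerMap K d (d + r) (X θ)) = cellRho K d r (X θ)
    rw [pluckerMap_X (K := K) θ, AlgHom.map_det (evalMat (K := K) (cellMatrix K d r)), cellRho_X]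
    unfold cellMinor
    congr 1
    refine Matrix.ext fun s t => ?_
    simp only [AlgHom.mapMatrix_apply, Matrix.map_apply, Matrix.submatrix_apply, id, genX,
      Matrix.of_apply]
    exact evalMat_X (K := K) (cellMatrix K d r) (θ.1 s, t)
  exact (congrFun (congrArg DFunLike.coe this) f).symm

theorem cellRho_vanishing [Infinite K] {f : PlRing K d (d + r)}
    (hf : f ∈ vanishing K d (d + r)) : cellRho K d r f = 0 := by
  rw [← ker_pluckerMap] at hf
  have : pluckerMap K d (d + r) f = 0 := hf
  rw [cellRho_eq_evalMat, this, map_zero]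

/-- Scaling the point of evaluation of a homogeneous polynomial. -/
theorem aeval_mul_of_isHomogeneous {σ : Type*} {T : Type*} [CommRing T] [Algebra K T]
    {f : MvPolynomial σ K} {D : ℕ} (hf : f.IsHomogeneous D) (c : T) (g : σ → T) :
    aeval (fun i => c * g i) f = c ^ D * aeval g f := by
  rw [aeval_def, aeval_def, eval₂_eq, eval₂_eq, Finset.mul_sum]
  refine Finset.sum_congr rfl fun m hm => ?_
  have hdeg : ∑ i ∈ m.support, m i = D := by
    have := hf (mem_support_iff.1 hm)
    rw [← this]
    simp [Finsupp.weight_apply, Finsupp.sum]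
  simp_rw [mul_pow]
  rw [Finset.prod_mul_distrib, Finset.prod_pow_eq_pow_sum, hdeg]
  ring

/-- The point `[I; Z₀]` of the opposite big cell. -/
noncomputable def cellPt (Z₀ : Matrix (Fin r) (Fin d) K) : Matrix (Fin (d + r)) (Fin d) K :=
  (cellMatrix K d r).map (MvPolynomial.eval fun p : Fin r × Fin d => Z₀ p.1 p.2)

theorem evalMinors_cellPt (Z₀ : Matrix (Fin r) (Fin d) K) (f : PlRing K d (d + r)) :
    evalMinors K d (d + r) (cellPt Z₀) f =
      MvPolynomial.eval (fun p : Fin r × Fin d => Z₀ p.1 p.2) (cellRho K d r f) := by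
  have : (evalMinors K d (d + r) (cellPt Z₀)).toRingHom =
      (MvPolynomial.eval (fun p : Fin r × Fin d => Z₀ p.1 p.2) : CellRing K d r →+* K).comp
        (cellRho K d r).toRingHom := by
    apply MvPolynomial.ringHom_ext
    · intro c
      simp [cellRho, evalMinors]
    · intro θ
      simp only [RingHom.comp_apply, AlgHom.toRingHom_eq_coe, RingHom.coe_coe, cellRho,
        evalMinors, aeval_X, cellMinor]
      rw [RingHom.map_det]
      rfl
  exact congrFun (congrArg DFunLike.coe this) f

theorem eq_cellPt (E : Matrix (Fin (d + r)) (Fin d) K)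
    (hE : E.submatrix (iota d r).1 id = 1) :
    E = cellPt (Matrix.of fun (i : Fin r) (j : Fin d) => E ⟨d + i.val, by omega⟩ j) := by
  ext i j
  unfold cellPt cellMatrix
  simp only [Matrix.map_apply, Matrix.of_apply]
  by_cases h : i.val < d
  · rw [dif_pos h]
    have h1 := congrFun (congrFun hE ⟨i.val, h⟩) j
    simp only [Matrix.submatrix_apply, id, botIdx, Matrix.one_apply] at h1
    have h2 : (⟨i.val, lt_of_lt_of_le h (Nat.le_add_right d r)⟩ : Fin (d + r)) = i := Fin.ext rfl
    rw [h2] at h1
    rw [h1]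
    by_cases hij : i.val = j.val
    · rw [if_pos hij, if_pos (Fin.ext hij), map_one]
    · rw [if_neg hij, if_neg (fun h' => hij (by rw [← h'])), map_zero]
  · rw [dif_neg h, eval_X]
    simp only [Matrix.of_apply]
    congr 1
    exact Fin.ext (by simp; omega)

theorem eval_pluckerMap (x : Fin (d + r) × Fin d → K) (f : PlRing K d (d + r)) :
    MvPolynomial.eval x (pluckerMap K d (d + r) f) =
      evalMinors K d (d + r) (Matrix.of fun i t => x (i, t)) f := by
  rw [← evalMat_pluckerMap]
  unfold evalMat
  rw [aeval_def, MvPolynomial.eval, MvPolynomial.eval₂Hom]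
  rfl

/-- A homogeneous polynomial vanishing on the opposite big cell vanishes on the Grassmannian cone. -/
theorem mem_vanishing_of_cellRho_eq_zero [Infinite K] {f : PlRing K d (d + r)} {D : ℕ}
    (hf : f.IsHomogeneous D) (h0 : cellRho K d r f = 0) : f ∈ vanishing K d (d + r) := by
  classical
  have key : ∀ A : Matrix (Fin (d + r)) (Fin d) K, (A.submatrix (iota d r).1 id).det ≠ 0 →
      evalMinors K d (d + r) A f = 0 := by
    intro A hdet
    set B := A.submatrix (iota d r).1 id with hB
    have hBu : IsUnit B.det := isUnit_iff_ne_zero.2 hdet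
    set E := A * B⁻¹ with hE
    have hsub : ∀ (M : Matrix (Fin (d + r)) (Fin d) K) (N : Matrix (Fin d) (Fin d) K)
        (a : Fin d → Fin (d + r)), (M * N).submatrix a id = M.submatrix a id * N := by
      intro M N a
      rw [Matrix.submatrix_mul _ _ a id id Function.bijective_id, Matrix.submatrix_id_id]
    have hEw : E.submatrix (iota d r).1 id = 1 := by
      rw [hE, hsub, ← hB, Matrix.mul_nonsing_inv _ hBu]
    have hAE : A = E * B := by
      rw [hE, Matrix.mul_assoc, Matrix.nonsing_inv_mul _ hBu, Matrix.mul_one]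
    have hminor : ∀ a : Fin d → Fin (d + r),
        (A.submatrix a id).det = B.det * (E.submatrix a id).det := by
      intro a
      conv_lhs => rw [hAE]
      rw [hsub, Matrix.det_mul, mul_comm]
    have h1 : evalMinors K d (d + r) A f = B.det ^ D * evalMinors K d (d + r) E f := by
      unfold evalMinors
      rw [← aeval_mul_of_isHomogeneous hf]
      have : (fun θ : Idx d (d + r) => (A.submatrix θ.1 id).det) =
          fun θ => B.det * (E.submatrix θ.1 id).det := funext fun θ => hminor θ.1
      rw [this]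
    rw [h1, eq_cellPt E hEw, evalMinors_cellPt, h0, map_zero, mul_zero]
  rw [← ker_pluckerMap]
  change pluckerMap K d (d + r) f = 0
  have hprod : pluckerMap K d (d + r) f * pluckerMap K d (d + r) (X (iota d r)) = 0 := by
    apply MvPolynomial.funext
    intro x
    rw [map_mul, map_zero, eval_pluckerMap, eval_pluckerMap]
    by_cases hdet : ((Matrix.of fun i t => x (i, t) : Matrix (Fin (d + r)) (Fin d) K).submatrix
        (iota d r).1 id).det = 0
    · have : evalMinors K d (d + r) (Matrix.of fun i t => x (i, t)) (X (iota d r)) = 0 := by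
        unfold evalMinors
        rw [aeval_X]
        exact hdet
      rw [this, mul_zero]
    · rw [key _ hdet, zero_mul]
  rcases mul_eq_zero.1 hprod with h | h
  · exact h
  · exfalso
    have h2 := evalMinors_cellPt (K := K) (d := d) (r := r) 0 (X (iota d r))
    rw [cellRho_X_iota, map_one] at h2
    have h3 : evalMinors K d (d + r) (cellPt (0 : Matrix (Fin r) (Fin d) K)) (X (iota d r)) = 0 := by
      rw [← evalMat_pluckerMap, h, map_zero]
    rw [h3] at h2
    exact zero_ne_one h2

theorem X_iota_sub_one_mem_ker :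
    (X (iota d r) - 1 : PlRing K d (d + r)) ∈ RingHom.ker (cellRho K d r).toRingHom := by
  rw [RingHom.mem_ker]
  change cellRho K d r (X (iota d r) - 1) = 0
  rw [map_sub, cellRho_X_iota, map_one, sub_self]

theorem ker_cellRho_le [Infinite K] :
    RingHom.ker (cellRho K d r).toRingHom ≤
      vanishing K d (d + r) ⊔ Ideal.span {(X (iota d r) - 1 : PlRing K d (d + r))} := by
  intro f hf
  have hF := Dehom.hom_sub_mem (K := K) (iota d r) (le_refl f.totalDegree)
  have h1 : cellRho K d r (Dehom.hom (iota d r) f.totalDegree f) = 0 := by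
    have h2 : Dehom.hom (iota d r) f.totalDegree f - f ∈ RingHom.ker (cellRho K d r).toRingHom :=
      (Ideal.span_le.2 (Set.singleton_subset_iff.2 X_iota_sub_one_mem_ker)) hF
    have h3 := Ideal.add_mem _ h2 hf
    rw [sub_add_cancel] at h3
    exact h3
  have h4 := mem_vanishing_of_cellRho_eq_zero (Dehom.hom_isHomogeneous (iota d r) _ f) h1
  exact Dehom.mem_sup_of_hom_mem (iota d r) le_rfl (Ideal.mem_sup_left h4)

/-! ## The Schubert index of the determinantal variety -/

/-- `w = (t-1, …, d-1, d+r-t+1, …, d+r-1)`. -/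
def wdet (d r t : ℕ) (ht : 0 < t) (htr : t ≤ r) : Idx d (d + r) :=
  ⟨fun k => ⟨if k.val + t ≤ d then t - 1 + k.val else r + k.val, by
      have := k.isLt
      split_ifs <;> omega⟩, by
    intro a b hab
    rw [Fin.lt_def] at hab ⊢
    simp only
    have := a.isLt
    have := b.isLt
    split_ifs <;> omega⟩

theorem le_wdet_iff (hd : 0 < d) {t : ℕ} (ht : 0 < t) (htd : t ≤ d) (htr : t ≤ r)
    (θ : Idx d (d + r)) :
    θ ≤ wdet d r t ht htr ↔ (θ.1 ⟨d - t, Nat.sub_lt hd ht⟩).val < d := by
  constructor
  · intro h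
    have h1 := h ⟨d - t, Nat.sub_lt hd ht⟩
    rw [Fin.le_def] at h1
    simp only [wdet] at h1
    rw [if_pos (by omega)] at h1
    omega
  · intro h k
    rw [Fin.le_def]
    simp only [wdet]
    have hk := k.isLt
    split_ifs with hkt
    · have h1 := strictMono_add_le θ.1 θ.2 (d - t - k.val) k ⟨d - t, Nat.sub_lt hd ht⟩
        (by simp only; omega)
      omega
    · have hd1 : d - 1 < d := by omega
      have h1 := strictMono_add_le θ.1 θ.2 (d - 1 - k.val) k ⟨d - 1, hd1⟩ (by simp only; omega)
      have h2 := (θ.1 ⟨d - 1, hd1⟩).isLt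
      omega

theorem codeg_wdet {t : ℕ} (ht : 0 < t) (htd : t ≤ d) (htr : t ≤ r) :
    codeg (wdet d r t ht htr) = (t - 1) * (d + r - t + 1) := by
  unfold codeg
  have h0 : ∀ k : Fin d, ((wdet d r t ht htr).1 k).val - k.val =
      if k.val + t ≤ d then t - 1 else r := by
    intro k
    simp only [wdet]
    split_ifs <;> omega
  simp_rw [h0]
  rw [Fin.sum_univ_eq_sum_range (fun k => if k + t ≤ d then t - 1 else r) d, Finset.sum_ite]
  have h1 : (Finset.range d).filter (fun k => k + t ≤ d) = Finset.range (d - t + 1) := by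
    ext k; simp only [Finset.mem_filter, Finset.mem_range]; omega
  have h2 : (Finset.range d).filter (fun k => ¬ k + t ≤ d) = Finset.Ico (d - t + 1) d := by
    ext k; simp only [Finset.mem_filter, Finset.mem_range, Finset.mem_Ico]; omega
  rw [h1, h2, Finset.sum_const, Finset.sum_const, Finset.card_range, Nat.card_Ico, smul_eq_mul,
    smul_eq_mul]
  obtain ⟨a, rfl⟩ : ∃ a, d = a + t := ⟨d - t, by omega⟩
  obtain ⟨s, rfl⟩ : ∃ s, t = s + 1 := ⟨t - 1, by omega⟩
  have e1 : a + (s + 1) - (s + 1) = a := by omega
  have e2 : a + (s + 1) - (a + 1) = s := by omega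
  have e3 : s + 1 - 1 = s := by omega
  have e4 : a + (s + 1) + r - (s + 1) = a + r := by omega
  rw [e1, e2, e3, e4]
  ring

/-! ## The preimage of the determinantal ideal -/

theorem comap_minorIdeal [Infinite K] (hd : 0 < d) {t : ℕ} (ht : 0 < t) (htd : t ≤ d)
    (htr : t ≤ r) :
    (CAlgX.minorIdeal (genMatrix K r d) t).comap (cellRho K d r).toRingHom =
      schubertVanishing K d (d + r) (wdet d r t ht htr) ⊔
        Ideal.span {(X (iota d r) - 1 : PlRing K d (d + r))} := by
  have hS := Groth.Agent.S11275.result K d r t hd ht htd htr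
  have hnle : ∀ θ : Idx d (d + r), ¬ θ ≤ wdet d r t ht htr ↔
      d ≤ (θ.1 ⟨d - t, Nat.sub_lt hd ht⟩).val := by
    intro θ
    rw [le_wdet_iff hd ht htd htr, not_lt]
  apply le_antisymm
  · intro f hf
    rw [Ideal.mem_comap, ← hS] at hf
    have hmap : Ideal.span {g : CellRing K d r | ∃ θ : Idx d (d + r),
        d ≤ (θ.1 ⟨d - t, Nat.sub_lt hd ht⟩).val ∧ g = cellMinor K d r θ} =
        (Ideal.span {g : PlRing K d (d + r) | ∃ θ : Idx d (d + r),
          d ≤ (θ.1 ⟨d - t, Nat.sub_lt hd ht⟩).val ∧ g = X θ}).map (cellRho K d r).toRingHom := by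
      rw [Ideal.map_span]
      congr 1
      ext g
      constructor
      · rintro ⟨θ, hθ, rfl⟩
        exact ⟨X θ, ⟨θ, hθ, rfl⟩, cellRho_X θ⟩
      · rintro ⟨_, ⟨θ, hθ, rfl⟩, rfl⟩
        exact ⟨θ, hθ, (cellRho_X (K := K) θ)⟩
    rw [hmap] at hf
    obtain ⟨f', hf', hff'⟩ := (Ideal.mem_map_iff_of_surjective _
      (cellRho_surjective (K := K) (d := d) (r := r))).1 hf
    have hf'J : f' ∈ schubertVanishing K d (d + r) (wdet d r t ht htr) := by
      refine (Ideal.span_le.2 ?_) hf'
      rintro _ ⟨θ, hθ, rfl⟩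
      exact X_mem_schubertVanishing _ θ ((hnle θ).2 hθ)
    have hker : f - f' ∈ RingHom.ker (cellRho K d r).toRingHom := by
      rw [RingHom.mem_ker, map_sub, sub_eq_zero]
      exact hff'.symm
    have h1 := ker_cellRho_le hker
    have h2 : f - f' ∈ schubertVanishing K d (d + r) (wdet d r t ht htr) ⊔
        Ideal.span {(X (iota d r) - 1 : PlRing K d (d + r))} :=
      (sup_le_sup_right (vanishing_le_schubertVanishing _) _) h1
    have := Ideal.add_mem _ h2 (Ideal.mem_sup_left hf'J : f' ∈ _ ⊔ _)
    rwa [sub_add_cancel] at this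
  · refine sup_le ?_ ?_
    · rw [← plIdeal_eq_schubertVanishing hd]
      unfold plIdeal
      rw [Ideal.span_le]
      rintro f (⟨i, j, s, hp, rfl⟩ | ⟨φ, hφ, rfl⟩)
      · have h1 : shuffleRel K i j s ∈ vanishing K d (d + r) :=
          plIdealTop_le_vanishing (Ideal.subset_span ⟨i, j, s, hp, rfl⟩)
        rw [SetLike.mem_coe, Ideal.mem_comap]
        change cellRho K d r (shuffleRel K i j s) ∈ _
        rw [cellRho_vanishing h1]
        exact Ideal.zero_mem _
      · rw [SetLike.mem_coe, Ideal.mem_comap]
        change cellRho K d r (X φ) ∈ _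
        rw [cellRho_X, ← hS]
        exact Ideal.subset_span ⟨φ, (hnle φ).1 hφ, rfl⟩
    · rw [Ideal.span_le, Set.singleton_subset_iff]
      exact (Ideal.comap_mono bot_le : RingHom.ker (cellRho K d r).toRingHom ≤ _)
        X_iota_sub_one_mem_ker

end Groth.Agent.Lib.Helper18.Plucker
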