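import Groth.Agent.Lib.Helper18.Plucker.Det
import Groth.Agent.Lib.Helper18.Dehom.Normal
import Groth.Agent.Lib.Helper18.Dehom.CM
import Groth.Agent.Lib.Helper21.CMKit

/-!
# Determinantal rings: domain, normal, Cohen–Macaulay, dimension
-/

set_option autoImplicit false

namespace Groth.Agent.Lib.Helper18.Plucker

open W4bk4grassmannian MvPolynomial

universe u

variable {K : Type u} [Field K] {d r : ℕ}

attribute [local instance] MvPolynomial.gradedAlgebra

/-- The isomorphism between the dehomogenised Schubert ring and the determinantal ring. -/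
noncomputable def detEquiv [Infinite K] (hd : 0 < d) {t : ℕ} (ht : 0 < t) (htd : t ≤ d)
    (htr : t ≤ r) :
    (PlRing K d (d + r) ⧸ (schubertVanishing K d (d + r) (wdet d r t ht htr) ⊔
        Ideal.span {(X (iota d r) - 1 : PlRing K d (d + r))})) ≃+*
      (CellRing K d r ⧸ CAlgX.minorIdeal (genMatrix K r d) t) := by
  set It := CAlgX.minorIdeal (genMatrix K r d) t
  set ρ' : PlRing K d (d + r) →+* CellRing K d r ⧸ It :=
    (Ideal.Quotient.mk It).comp (cellRho K d r).toRingHom with hρ'
  have hsurj : Function.Surjective ρ' :=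
    Ideal.Quotient.mk_surjective.comp (cellRho_surjective (K := K) (d := d) (r := r))
  have hker : RingHom.ker ρ' = schubertVanishing K d (d + r) (wdet d r t ht htr) ⊔
      Ideal.span {(X (iota d r) - 1 : PlRing K d (d + r))} := by
    rw [← comap_minorIdeal hd ht htd htr, hρ', ← RingHom.comap_ker, Ideal.mk_ker]
  exact (Ideal.quotEquivOfEq hker.symm).trans (RingHom.quotientKerEquivOfSurjective hsurj)

theorem withBot_cancel (c : ℕ) (x : WithBot ℕ∞) (h : ((c + 1 : ℕ) : WithBot ℕ∞) = 1 + x) :
    x = (c : WithBot ℕ∞) := by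
  induction x using WithBot.recBotCoe with
  | bot => simp at h
  | coe y =>
    induction y using ENat.recTopCoe with
    | top =>
      exfalso
      have : ((c + 1 : ℕ) : WithBot ℕ∞) = ((⊤ : ℕ∞) : WithBot ℕ∞) := by
        rw [h]; rfl
      exact (ENat.coe_ne_top (c + 1)) (by exact_mod_cast this)
    | coe k =>
      have : ((c + 1 : ℕ) : WithBot ℕ∞) = ((1 + k : ℕ) : WithBot ℕ∞) := by
        rw [h]; push_cast; rfl
      have h2 : c + 1 = 1 + k := by exact_mod_cast this
      have : k = c := by omega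
      rw [this]; rfl

theorem determinantal [Infinite K] (hd : 0 < d) {t : ℕ} (ht : 0 < t) (htd : t ≤ d)
    (htr : t ≤ r) :
    IsDomain (CellRing K d r ⧸ CAlgX.minorIdeal (genMatrix K r d) t) ∧
      IsIntegrallyClosed (CellRing K d r ⧸ CAlgX.minorIdeal (genMatrix K r d) t) ∧
      LocCoh.IsCohenMacaulayRing (CellRing K d r ⧸ CAlgX.minorIdeal (genMatrix K r d) t) ∧
      ringKrullDim (CellRing K d r ⧸ CAlgX.minorIdeal (genMatrix K r d) t) =
        (((t - 1) * (d + r - t + 1) : ℕ) : WithBot ℕ∞) := by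
  set w := wdet d r t ht htr with hw
  set J := schubertVanishing K d (d + r) w with hJ
  have hJhom : J.IsHomogeneous (homogeneousSubmodule (Idx d (d + r)) K) :=
    CMGraded.isHomogeneous_of_homGen (homGen_schubertVanishing hd w)
  haveI hJp : J.IsPrime := schubertVanishing_isPrime hd w
  have hx0 : (X (iota d r) : PlRing K d (d + r)) ∉ J :=
    X_notMem_schubertVanishing hd w (iota d r) (botIdx_le _ w)
  haveI hI'p : (J ⊔ Ideal.span {(X (iota d r) - 1 : PlRing K d (d + r))}).IsPrime :=
    Dehom.isPrime_sup hJhom (iota d r) hx0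
  haveI hdomA : IsDomain (PlRing K d (d + r) ⧸
      (J ⊔ Ideal.span {(X (iota d r) - 1 : PlRing K d (d + r))})) := Ideal.Quotient.isDomain _
  obtain ⟨hdomB, hnormB⟩ := isIntegrallyClosed_schubert (K := K) hd w
  haveI := hnormB
  haveI hnormA : IsIntegrallyClosed (PlRing K d (d + r) ⧸
      (J ⊔ Ideal.span {(X (iota d r) - 1 : PlRing K d (d + r))})) :=
    Dehom.isIntegrallyClosed_dehom hJhom (iota d r) hx0
  have e := detEquiv (K := K) hd ht htd htr
  -- the double quotient
  set xb : PlRing K d (d + r) ⧸ J := Ideal.Quotient.mk J (X (iota d r) - 1) with hxb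
  have hmapspan : (Ideal.span {(X (iota d r) - 1 : PlRing K d (d + r))}).map
      (Ideal.Quotient.mk J) = Ideal.span {xb} := by
    rw [Ideal.map_span, Set.image_singleton]
  have e2 : ((PlRing K d (d + r) ⧸ J) ⧸ Ideal.span {xb}) ≃+*
      (PlRing K d (d + r) ⧸ (J ⊔ Ideal.span {(X (iota d r) - 1 : PlRing K d (d + r))})) :=
    (Ideal.quotEquivOfEq hmapspan.symm).trans (DoubleQuot.quotQuotEquivQuotSup J _)
  have hxb0 : xb ≠ 0 := by
    rw [hxb, Ne, Ideal.Quotient.eq_zero_iff_mem]
    intro hmem
    have h1 := homogeneousComponent_mem_of_mem hJhom hmem 0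
    rw [map_sub, homogeneousComponent_of_mem (isHomogeneous_X K (iota d r)),
      homogeneousComponent_of_mem (isHomogeneous_one _ K), if_neg (by norm_num), if_pos rfl,
      zero_sub] at h1
    exact hJp.ne_top ((Ideal.eq_top_iff_one _).2 (by simpa using J.neg_mem h1))
  -- Cohen–Macaulay
  haveI hCMB : LocCoh.IsCohenMacaulayRing (PlRing K d (d + r) ⧸ J) := isCM_schubert hd w
  have hreg : IsSMulRegular (PlRing K d (d + r) ⧸ J) xb := by
    intro a b hab
    simp only [smul_eq_mul] at hab
    exact mul_left_cancel₀ hxb0 hab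
  have hCM1 : LocCoh.IsCohenMacaulayRing ((PlRing K d (d + r) ⧸ J) ⧸ Ideal.span {xb}) :=
    Dehom.isCM_quotient_regular xb hreg
  -- dimension
  haveI : Algebra.FiniteType K (PlRing K d (d + r) ⧸ J) :=
    Algebra.FiniteType.of_surjective (Ideal.Quotient.mkₐ K J) (Ideal.Quotient.mkₐ_surjective K _)
  haveI hQp : (Ideal.span {xb}).IsPrime := by
    rw [← Ideal.Quotient.isDomain_iff_prime]
    exact e2.toMulEquiv.isDomain _
  have hmin : Ideal.span {xb} ∈ (Ideal.span {xb}).minimalPrimes := by
    rw [Ideal.minimalPrimes_eq_subsingleton_self]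
    exact Set.mem_singleton _
  have hdim := dim_eq_of_mem_minimalPrimes_span (k := K) xb hxb0 _ hmin
  rw [ringKrullDim_schubert hd w] at hdim
  have hdim2 := withBot_cancel _ _ hdim
  refine ⟨e.symm.toMulEquiv.isDomain _, IsIntegrallyClosed.of_equiv e, ?_, ?_⟩
  · exact Groth.Agent.Lib.Helper21.CMKit.isCM_of_ringEquiv (e2.trans e) hCM1
  · have h3 : ringKrullDim ((PlRing K d (d + r) ⧸ J) ⧸ Ideal.span {xb}) =
        ringKrullDim (CellRing K d r ⧸ CAlgX.minorIdeal (genMatrix K r d) t) :=
      ringKrullDim_eq_of_ringEquiv (e2.trans e)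
    rw [← h3, hdim2, codeg_wdet ht htd htr]

end Groth.Agent.Lib.Helper18.Plucker
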