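import Groth.Agent.Lib.Helper18.Plucker.Det

/-!
# The standard monomial basis of the dehomogenised Schubert ring

The standard monomials on `X(w)` not involving the bottom coordinate `X_ι` form a `K`-basis of
`S/(J(w) + (X_ι - 1))`.
-/

set_option autoImplicit false

namespace Groth.Agent.Lib.Helper18.Plucker

open W4bk4grassmannian MvPolynomial

universe u

variable {K : Type u} [Field K] {d N : ℕ}

attribute [local instance] MvPolynomial.gradedAlgebra

theorem chainMon_isHomogeneous {k : ℕ} (c : Fin k → Idx d N) :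
    (chainMon K c).IsHomogeneous k := by
  unfold chainMon
  have := IsHomogeneous.prod (R := K) Finset.univ (fun i : Fin k => (X (c i) : PlRing K d N))
    (fun _ => 1) (fun i _ => isHomogeneous_X K (c i))
  simpa using this

theorem chainMon_snoc {k : ℕ} (c : Fin k → Idx d N) (θ : Idx d N) :
    chainMon K (Fin.snoc (α := fun _ => Idx d N) c θ) = chainMon K c * X θ := by
  unfold chainMon
  rw [Fin.prod_univ_castSucc]
  simp only [Fin.snoc_castSucc, Fin.snoc_last]

/-- Extension of a tuple by copies of `θ`. -/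
def extBy {k : ℕ} (c : Fin k → Idx d N) (θ : Idx d N) : (j : ℕ) → Fin (k + j) → Idx d N
  | 0 => c
  | j + 1 => Fin.snoc (α := fun _ => Idx d N) (extBy c θ j) θ

theorem chainMon_extBy {k : ℕ} (c : Fin k → Idx d N) (θ : Idx d N) (j : ℕ) :
    chainMon K (extBy c θ j) = chainMon K c * X θ ^ j := by
  induction j with
  | zero => simp [extBy]
  | succ j ih =>
    change chainMon K (Fin.snoc (α := fun _ => Idx d N) (extBy c θ j) θ) = _
    rw [chainMon_snoc, ih, pow_succ, mul_assoc]

theorem extBy_apply {k : ℕ} (c : Fin k → Idx d N) (θ : Idx d N) (j : ℕ) (i : Fin (k + j)) :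
    extBy c θ j i = if h : i.val < k then c ⟨i.val, h⟩ else θ := by
  induction j with
  | zero =>
    have : i.val < k := i.isLt
    rw [dif_pos this]
    rfl
  | succ j ih =>
    change Fin.snoc (α := fun _ => Idx d N) (extBy c θ j) θ i = _
    induction i using Fin.lastCases with
    | last =>
      rw [show Fin.last (k.add j) = Fin.last (k + j) from rfl, Fin.snoc_last, dif_neg]
      simp
    | cast i =>
      rw [Fin.snoc_castSucc, ih]
      rfl

theorem antitone_extBy {k : ℕ} (c : Fin k → Idx d N) (hc : Antitone c) (θ : Idx d N)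
    (hθ : ∀ φ : Idx d N, θ ≤ φ) (j : ℕ) : Antitone (extBy c θ j) := by
  intro x y hxy
  rw [extBy_apply, extBy_apply]
  by_cases hy : y.val < k
  · have hx : x.val < k := lt_of_le_of_lt hxy hy
    rw [dif_pos hy, dif_pos hx]
    exact hc hxy
  · rw [dif_neg hy]
    exact hθ _

/-- Total extension by `θ` of a chain, as a function on `ℕ`. -/
def truncOf (θ : Idx d N) (C : Chain d N) (i : ℕ) : Idx d N :=
  if h : i < C.1 then C.2.1 ⟨i, h⟩ else θ

/-- Standard monomials on `X(w)` avoiding `ι`. -/
abbrev ChainNB (w ι₀ : Idx d N) : Type :=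
  {c : Chain d N // (∀ k, c.2.1 k ≤ w) ∧ ∀ k, c.2.1 k ≠ ι₀}

theorem chainNB_ext {w ι₀ : Idx d N} (c c' : ChainNB w ι₀)
    (h : ∀ i, truncOf ι₀ c.1 i = truncOf ι₀ c'.1 i) : c = c' := by
  obtain ⟨⟨k, c, hc⟩, h1, h2⟩ := c
  obtain ⟨⟨k', c', hc'⟩, h1', h2'⟩ := c'
  have hk : k = k' := by
    rcases lt_trichotomy k k' with hlt | heq | hgt
    · exfalso
      have := h k
      simp only [truncOf] at this
      rw [dif_neg (lt_irrefl k), dif_pos hlt] at this
      exact h2' ⟨k, hlt⟩ this.symm
    · exact heq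
    · exfalso
      have := h k'
      simp only [truncOf] at this
      rw [dif_pos hgt, dif_neg (lt_irrefl k')] at this
      exact h2 ⟨k', hgt⟩ this
  subst hk
  have hcc : c = c' := by
    funext i
    have := h i.val
    simp only [truncOf] at this
    rw [dif_pos i.isLt, dif_pos i.isLt] at this
    exact this
  subst hcc
  rfl

variable [Infinite K]

/-- The standard monomials avoiding `ι` are independent modulo `J(w) + (X_ι - 1)`. -/
theorem dehom_std_indep (hd : 0 < d) (hdN : d ≤ N) (w : Idx d N) :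
    LinearIndependent K (fun c : ChainNB w (botIdx d N hdN) =>
      Ideal.Quotient.mk (schubertVanishing K d N w ⊔
        Ideal.span {(X (botIdx d N hdN) - 1 : PlRing K d N)}) (chainMon K c.1.2.1)) := by
  classical
  set ι₀ := botIdx d N hdN with hι₀
  set J := schubertVanishing K d N w with hJ
  have hJhom : J.IsHomogeneous (homogeneousSubmodule (Idx d N) K) :=
    CMGraded.isHomogeneous_of_homGen (homGen_schubertVanishing hd w)
  haveI hJp : J.IsPrime := schubertVanishing_isPrime hd w
  have hx0 : (X ι₀ : PlRing K d N) ∉ J := X_notMem_schubertVanishing hd w ι₀ (botIdx_le _ w)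
  have hx : ∀ g, X ι₀ * g ∈ J → g ∈ J := fun g hg => (hJp.mem_or_mem hg).resolve_left hx0
  rw [linearIndependent_iff']
  intro s g hsum i₀ hi₀
  -- the common degree
  set D := s.sup (fun c : ChainNB w ι₀ => c.1.1) with hD
  have hlen : ∀ c ∈ s, c.1.1 ≤ D := fun c hc => Finset.le_sup (f := fun c : ChainNB w ι₀ => c.1.1) hc
  -- extended chains
  let ch : ChainNB w ι₀ → Chain d N := fun c =>
    ⟨c.1.1 + (D - c.1.1), extBy c.1.2.1 ι₀ (D - c.1.1),
      antitone_extBy c.1.2.1 c.1.2.2 ι₀ (botIdx_le hdN) _⟩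
  have hch_trunc : ∀ c i, truncOf ι₀ (ch c) i = truncOf ι₀ c.1 i := by
    intro c i
    simp only [truncOf, ch]
    by_cases h1 : i < c.1.1
    · rw [dif_pos (by omega), dif_pos h1, extBy_apply, dif_pos h1]
    · rw [dif_neg h1]
      by_cases h2 : i < c.1.1 + (D - c.1.1)
      · rw [dif_pos h2, extBy_apply, dif_neg h1]
      · rw [dif_neg h2]
  have hinj : Function.Injective ch := by
    intro c c' hcc
    apply chainNB_ext
    intro i
    rw [← hch_trunc, ← hch_trunc, hcc]
  have hle : ∀ c : ChainNB w ι₀, ∃ _ : Unit, ∀ k, (ch c).2.1 k ≤ w := by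
    intro c
    refine ⟨(), fun k => ?_⟩
    simp only [ch]
    rw [extBy_apply]
    split_ifs with h
    · exact c.2.1 _
    · exact botIdx_le hdN w
  have hind := std_indep' (K := K) hd (fun _ : Unit => w) ch hinj hle
  rw [iInf_const] at hind
  rw [linearIndependent_iff'] at hind
  -- the homogenised relation
  have hmem : ∑ c ∈ s, g c • chainMon K c.1.2.1 ∈
      J ⊔ Ideal.span {(X ι₀ - 1 : PlRing K d N)} := by
    rw [← Ideal.Quotient.eq_zero_iff_mem, map_sum, ← hsum]
    refine Finset.sum_congr rfl fun c _ => ?_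
    rw [← Ideal.Quotient.mkₐ_eq_mk K, map_smul]
  have hstar : ∑ c ∈ s, g c • chainMon K (ch c).2.1 ∈ J := by
    apply Dehom.mem_of_isHomogeneous_of_mem_sup hJhom ι₀ hx (D := D)
    · apply IsHomogeneous.sum
      intro c hc
      have h1 := chainMon_isHomogeneous (K := K) (ch c).2.1
      have h2 : (ch c).1 = D := by
        simp only [ch]
        have := hlen c hc
        omega
      have h1' : (chainMon K (ch c).2.1).IsHomogeneous D := by
        convert h1 using 1
        exact h2.symm
      rw [MvPolynomial.smul_eq_C_mul]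
      have := (isHomogeneous_C (Idx d N) (g c)).mul h1'
      rwa [zero_add] at this
    · have hdiff : ∑ c ∈ s, g c • chainMon K (ch c).2.1 - ∑ c ∈ s, g c • chainMon K c.1.2.1 ∈
          Ideal.span {(X ι₀ - 1 : PlRing K d N)} := by
        rw [← Finset.sum_sub_distrib]
        apply Ideal.sum_mem
        intro c _
        simp only [ch]
        rw [chainMon_extBy, ← smul_sub, MvPolynomial.smul_eq_C_mul]
        apply Ideal.mul_mem_left
        have : chainMon K c.1.2.1 * X ι₀ ^ (D - c.1.1) - chainMon K c.1.2.1 =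
            chainMon K c.1.2.1 * (X ι₀ ^ (D - c.1.1) - 1) := by ring
        rw [this]
        apply Ideal.mul_mem_left
        rw [Ideal.mem_span_singleton]
        have := sub_dvd_pow_sub_pow (X ι₀ : PlRing K d N) 1 (D - c.1.1)
        rwa [one_pow] at this
      have := Ideal.add_mem _ (Ideal.mem_sup_right hdiff : _ ∈ J ⊔ _) hmem
      rwa [sub_add_cancel] at this
  have hzero : ∑ c ∈ s, g c • Ideal.Quotient.mk J (chainMon K (ch c).2.1) = 0 := by
    rw [← Ideal.Quotient.eq_zero_iff_mem, map_sum] at hstar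
    rw [← hstar]
    refine Finset.sum_congr rfl fun c _ => ?_
    rw [← Ideal.Quotient.mkₐ_eq_mk K, map_smul]
  exact hind s g hzero i₀ hi₀

/-- Stripping the trailing `ι`'s of a standard monomial. -/
theorem exists_strip (hdN : d ≤ N) (w : Idx d N) :
    ∀ (k : ℕ) (c : Fin k → Idx d N), Antitone c → (∀ i, c i ≤ w) →
      ∃ c' : ChainNB w (botIdx d N hdN),
        chainMon K c - chainMon K c'.1.2.1 ∈
          Ideal.span {(X (botIdx d N hdN) - 1 : PlRing K d N)} := by
  intro k
  induction k with
  | zero =>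
    intro c hc hw
    exact ⟨⟨⟨0, c, hc⟩, hw, fun i => i.elim0⟩, by simp⟩
  | succ k ih =>
    intro c hc hw
    by_cases hlast : c (Fin.last k) = botIdx d N hdN
    · obtain ⟨c', hc'⟩ := ih (Fin.init c) (fun x y hxy => hc (Fin.castSucc_le_castSucc_iff.2 hxy))
        (fun i => hw _)
      refine ⟨c', ?_⟩
      have h1 : chainMon K c = chainMon K (Fin.init c) * X (botIdx d N hdN) := by
        conv_lhs => rw [← Fin.snoc_init_self c]
        rw [chainMon_snoc, hlast]
      have h2 : chainMon K c - chainMon K c'.1.2.1 =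
          (chainMon K (Fin.init c) - chainMon K c'.1.2.1) +
            chainMon K (Fin.init c) * (X (botIdx d N hdN) - 1) := by
        rw [h1]; ring
      rw [h2]
      exact Ideal.add_mem _ hc' (Ideal.mul_mem_left _ _ (Ideal.subset_span rfl))
    · refine ⟨⟨⟨k + 1, c, hc⟩, hw, fun i hi => hlast ?_⟩, by simp⟩
      have h1 : c (Fin.last k) ≤ c i := hc (Fin.le_last i)
      have hi' : c i = botIdx d N hdN := hi
      rw [hi'] at h1
      exact le_antisymm h1 (botIdx_le hdN _)

/-- The standard monomials avoiding `ι` span modulo `J(w) + (X_ι - 1)`. -/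
theorem dehom_std_span (hd : 0 < d) (hdN : d ≤ N) (w : Idx d N) :
    Submodule.span K (Set.range fun c : ChainNB w (botIdx d N hdN) =>
      Ideal.Quotient.mk (schubertVanishing K d N w ⊔
        Ideal.span {(X (botIdx d N hdN) - 1 : PlRing K d N)}) (chainMon K c.1.2.1)) = ⊤ := by
  classical
  set ι₀ := botIdx d N hdN with hι₀
  set J := schubertVanishing K d N w with hJ
  set J' := J ⊔ Ideal.span {(X ι₀ - 1 : PlRing K d N)} with hJ'
  have hspan := span_std_eq_top (K := K) J (plIdealTop_le_schubertVanishing w)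
    (fun c => ∀ k, c.2.1 k ≤ w) (by
      intro c hc
      push_neg at hc
      obtain ⟨k, hk⟩ := hc
      exact chainMon_mem_of_X_mem J c.2.1 k (X_mem_schubertVanishing w _ hk))
  rw [eq_top_iff]
  rintro x -
  obtain ⟨f, rfl⟩ := Ideal.Quotient.mk_surjective x
  have hf : Ideal.Quotient.mk J f ∈ Submodule.span K {x | ∃ c : Chain d N,
      (∀ k, c.2.1 k ≤ w) ∧ x = Ideal.Quotient.mk J (chainMon K c.2.1)} := by
    rw [hspan]; trivial
  -- push forward along `S/J → S/J'`
  set π : (PlRing K d N ⧸ J) →ₐ[K] (PlRing K d N ⧸ J') :=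
    Ideal.Quotient.factorₐ K (le_sup_left : J ≤ J') with hπ
  have hπmk : ∀ g, π (Ideal.Quotient.mk J g) = Ideal.Quotient.mk J' g := fun g => rfl
  have h1 := Submodule.mem_map_of_mem (f := π.toLinearMap) hf
  rw [Submodule.map_span] at h1
  have h2 : π.toLinearMap (Ideal.Quotient.mk J f) = Ideal.Quotient.mk J' f := hπmk f
  rw [h2] at h1
  refine (Submodule.span_le.2 ?_) h1
  rintro _ ⟨_, ⟨c, hc, rfl⟩, rfl⟩
  obtain ⟨c', hc'⟩ := exists_strip (K := K) hdN w c.1 c.2.1 c.2.2 hc
  apply Submodule.subset_span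
  refine ⟨c', ?_⟩
  change Ideal.Quotient.mk J' (chainMon K c'.1.2.1) = Ideal.Quotient.mk J' (chainMon K c.2.1)
  rw [eq_comm, Ideal.Quotient.eq]
  exact Ideal.mem_sup_right hc'

end Groth.Agent.Lib.Helper18.Plucker
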