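import Groth.Agent.Lib.Helper18.Plucker.Det

/-!
# Minors of the generic matrix and Plücker indices: the order-reversing bijection

A minor `[a | b]` of size `s` of the generic `m × n` matrix corresponds to the index of `I(n, n+m)`
whose entries are the columns not in `b` followed by the rows `n + (m - 1 - a)`.
-/

set_option autoImplicit false

namespace Groth.Agent.Lib.Helper18.Plucker

open W4bk4grassmannian MvPolynomial

universe u

/-! ## Counting functions of increasing sequences -/

/-- The number of terms of a sequence below a threshold. -/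
def cnt {p N : ℕ} (a : Fin p → Fin N) (x : ℕ) : ℕ :=
  (Finset.univ.filter fun j : Fin p => (a j).val < x).card

theorem lt_cnt_iff {p N : ℕ} {a : Fin p → Fin N} (ha : StrictMono a) (j : Fin p) (x : ℕ) :
    j.val < cnt a x ↔ (a j).val < x := by
  constructor
  · intro h
    by_contra hn
    have hsub : (Finset.univ.filter fun j₀ : Fin p => (a j₀).val < x) ⊆ Finset.Iio j := by
      intro j₀ hj₀
      rw [Finset.mem_filter] at hj₀
      rw [Finset.mem_Iio]
      by_contra hle
      have := ha.monotone (not_lt.1 hle)
      rw [Fin.le_def] at this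
      omega
    have := Finset.card_le_card hsub
    rw [Fin.card_Iio] at this
    unfold cnt at h
    omega
  · intro h
    have hsub : Finset.Iic j ⊆ (Finset.univ.filter fun j₀ : Fin p => (a j₀).val < x) := by
      intro j₀ hj₀
      rw [Finset.mem_Iic] at hj₀
      rw [Finset.mem_filter]
      refine ⟨Finset.mem_univ _, ?_⟩
      have := ha.monotone hj₀
      rw [Fin.le_def] at this
      omega
    have := Finset.card_le_card hsub
    rw [Fin.card_Iic] at this
    unfold cnt
    omega

theorem cnt_le {p N : ℕ} (a : Fin p → Fin N) (x : ℕ) : cnt a x ≤ p := by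
  unfold cnt
  exact (Finset.card_filter_le _ _).trans (by simp)

theorem cnt_of_le {p N : ℕ} (a : Fin p → Fin N) {x : ℕ} (hx : N ≤ x) : cnt a x = p := by
  unfold cnt
  rw [Finset.filter_true_of_mem]
  · simp
  · intro j _
    have := (a j).isLt
    omega

/-- Entrywise comparison of increasing sequences (aligned at the start) in terms of counting
functions. -/
theorem cnt_le_iff {p p' N : ℕ} {a : Fin p → Fin N} {a' : Fin p' → Fin N} (ha : StrictMono a)
    (ha' : StrictMono a') :
    (p ≤ p' ∧ ∀ (j : Fin p) (j' : Fin p'), j.val = j'.val → a' j' ≤ a j) ↔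
      ∀ x : ℕ, cnt a x ≤ cnt a' x := by
  constructor
  · rintro ⟨hpp, h⟩ x
    by_contra hlt
    push_neg at hlt
    have hi : cnt a' x < p := lt_of_lt_of_le hlt (cnt_le a x)
    have h1 := (lt_cnt_iff ha ⟨cnt a' x, hi⟩ x).1 hlt
    have h2 := h ⟨cnt a' x, hi⟩ ⟨cnt a' x, lt_of_lt_of_le hi hpp⟩ rfl
    rw [Fin.le_def] at h2
    have h3 := (lt_cnt_iff ha' ⟨cnt a' x, lt_of_lt_of_le hi hpp⟩ x).2 (by omega)
    simp at h3
  · intro h
    have hpp : p ≤ p' := by
      have := h N
      rwa [cnt_of_le a le_rfl, cnt_of_le a' le_rfl] at this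
    refine ⟨hpp, fun j j' hjj => ?_⟩
    by_contra hn
    rw [Fin.le_def, not_le] at hn
    have h1 := (lt_cnt_iff ha j ((a j).val + 1)).2 (by omega)
    have h2 := lt_of_lt_of_le h1 (h _)
    rw [hjj] at h2
    have h3 := (lt_cnt_iff ha' j' _).1 h2
    omega

/-- The counting function of a finset of `Fin N`. -/
def cntF {N : ℕ} (T : Finset (Fin N)) (x : ℕ) : ℕ := (T.filter fun y => y.val < x).card

theorem cnt_eq_cntF {p N : ℕ} (a : Fin p → Fin N) (ha : Function.Injective a) (x : ℕ) :
    cnt a x = cntF (Finset.univ.image a) x := by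
  classical
  unfold cnt cntF
  rw [Finset.filter_image, Finset.card_image_of_injective _ ha]

theorem cntF_union {N : ℕ} (T₁ T₂ : Finset (Fin N)) (h : Disjoint T₁ T₂) (x : ℕ) :
    cntF (T₁ ∪ T₂) x = cntF T₁ x + cntF T₂ x := by
  classical
  unfold cntF
  rw [Finset.filter_union, Finset.card_union_of_disjoint]
  exact Finset.disjoint_filter_filter h

theorem cntF_of_le {N : ℕ} (T : Finset (Fin N)) {x : ℕ} (hx : N ≤ x) : cntF T x = T.card := by
  unfold cntF
  rw [Finset.filter_true_of_mem]
  intro j _
  have := j.isLt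
  omega

theorem cntF_univ {N : ℕ} {x : ℕ} (hx : x ≤ N) : cntF (Finset.univ : Finset (Fin N)) x = x := by
  unfold cntF
  rcases Nat.lt_or_ge x N with h | h
  · have : (Finset.univ.filter fun y : Fin N => y.val < x) = Finset.Iio (⟨x, h⟩ : Fin N) := by
      ext y
      simp [Fin.lt_def]
    rw [this, Fin.card_Iio]
  · have hxN : x = N := le_antisymm hx h
    subst hxN
    rw [Finset.filter_true_of_mem]
    · simp
    · intro j _; exact j.isLt

theorem cntF_add_compl {N : ℕ} (T : Finset (Fin N)) {x : ℕ} (hx : x ≤ N) :
    cntF T x + cntF Tᶜ x = x := by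
  classical
  rw [← cntF_union T Tᶜ disjoint_compl_right, Finset.union_compl, cntF_univ hx]

/-! ## The Plücker index of a minor -/

variable {m n : ℕ}

/-- The rows of a minor. -/
def rowsF (M : MinorIdx m n) : Finset (Fin m) := Finset.univ.image M.2.1.1

/-- The columns of a minor. -/
def colsF (M : MinorIdx m n) : Finset (Fin n) := Finset.univ.image M.2.2.1

theorem card_rowsF (M : MinorIdx m n) : (rowsF M).card = M.1 + 1 := by
  unfold rowsF
  rw [Finset.card_image_of_injective _ M.2.1.2.injective]
  simp

theorem card_colsF (M : MinorIdx m n) : (colsF M).card = M.1 + 1 := by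
  unfold colsF
  rw [Finset.card_image_of_injective _ M.2.2.2.injective]
  simp

theorem size_le_cols (M : MinorIdx m n) : M.1 + 1 ≤ n := by
  rw [← card_colsF M]
  exact (Finset.card_le_univ _).trans (by simp)

theorem size_le_rows (M : MinorIdx m n) : M.1 + 1 ≤ m := by
  rw [← card_rowsF M]
  exact (Finset.card_le_univ _).trans (by simp)

/-- The low part: columns not in the minor. -/
def lowF (M : MinorIdx m n) : Finset (Fin (n + m)) := (colsF M)ᶜ.map (Fin.castAddEmb m)

/-- The high part: reversed rows of the minor, shifted by `n`. -/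
def highF (M : MinorIdx m n) : Finset (Fin (n + m)) :=
  (rowsF M).map (Fin.revPerm.toEmbedding.trans (Fin.natAddEmb n))

/-- The support of the Plücker index of a minor. -/
def TF (M : MinorIdx m n) : Finset (Fin (n + m)) := lowF M ∪ highF M

theorem mem_lowF (M : MinorIdx m n) (y : Fin (n + m)) :
    y ∈ lowF M ↔ ∃ c : Fin n, c ∉ colsF M ∧ Fin.castAdd m c = y := by
  unfold lowF
  rw [Finset.mem_map]
  constructor
  · rintro ⟨c, hc, rfl⟩
    exact ⟨c, Finset.mem_compl.1 hc, rfl⟩
  · rintro ⟨c, hc, rfl⟩
    exact ⟨c, Finset.mem_compl.2 hc, rfl⟩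

theorem mem_highF (M : MinorIdx m n) (y : Fin (n + m)) :
    y ∈ highF M ↔ ∃ a : Fin m, a ∈ rowsF M ∧ Fin.natAdd n (Fin.rev a) = y := by
  unfold highF
  rw [Finset.mem_map]
  simp [Fin.natAddEmb]

theorem disjoint_low_high (M : MinorIdx m n) : Disjoint (lowF M) (highF M) := by
  rw [Finset.disjoint_left]
  intro y h1 h2
  obtain ⟨c, -, rfl⟩ := (mem_lowF M y).1 h1
  obtain ⟨a, -, ha⟩ := (mem_highF M _).1 h2
  have := congrArg Fin.val ha
  simp at this
  have := c.isLt
  omega

theorem card_lowF (M : MinorIdx m n) : (lowF M).card + (M.1 + 1) = n := by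
  unfold lowF
  rw [Finset.card_map, Finset.card_compl, card_colsF, Fintype.card_fin]
  have := size_le_cols M
  omega

theorem card_highF (M : MinorIdx m n) : (highF M).card = M.1 + 1 := by
  unfold highF
  rw [Finset.card_map, card_rowsF]

theorem card_TF (M : MinorIdx m n) : (TF M).card = n := by
  unfold TF
  rw [Finset.card_union_of_disjoint (disjoint_low_high M), card_highF]
  exact card_lowF M

/-- The Plücker index of a minor. -/
def phiM (M : MinorIdx m n) : Idx n (n + m) :=
  ⟨(TF M).orderEmbOfFin (card_TF M), ((TF M).orderEmbOfFin (card_TF M)).strictMono⟩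

theorem image_phiM (M : MinorIdx m n) : Finset.univ.image (phiM M).1 = TF M := by
  unfold phiM
  exact Finset.image_orderEmbOfFin_univ _ _

theorem exists_phiM_eq_iff (M : MinorIdx m n) (y : Fin (n + m)) :
    (∃ k, (phiM M).1 k = y) ↔ y ∈ TF M := by
  rw [← image_phiM M, Finset.mem_image]
  simp

theorem cnt_phiM (M : MinorIdx m n) (x : ℕ) : cnt (phiM M).1 x = cntF (TF M) x := by
  rw [cnt_eq_cntF _ (phiM M).2.injective, image_phiM]

theorem cntF_lowF (M : MinorIdx m n) (x : ℕ) : cntF (lowF M) x = cntF (colsF M)ᶜ x := by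
  unfold cntF lowF
  rw [Finset.filter_map, Finset.card_map]
  rfl

theorem cntF_highF_low (M : MinorIdx m n) {x : ℕ} (hx : x ≤ n) : cntF (highF M) x = 0 := by
  unfold cntF
  rw [Finset.card_eq_zero, Finset.filter_eq_empty_iff]
  intro y hy
  obtain ⟨a, -, rfl⟩ := (mem_highF M y).1 hy
  simp
  omega

theorem cntF_highF_high (M : MinorIdx m n) {u : ℕ} (hu : u ≤ m) :
    cntF (highF M) (n + u) + cntF (rowsF M) (m - u) = M.1 + 1 := by
  classical
  unfold cntF highF
  rw [Finset.filter_map, Finset.card_map, ← card_rowsF M,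
    ← Finset.card_filter_add_card_filter_not (s := rowsF M)
      (fun a : Fin m => a.val < m - u), add_comm]
  congr 2
  ext a
  simp only [Finset.mem_filter, Function.comp_apply, Function.Embedding.trans_apply,
    Equiv.coe_toEmbedding, Fin.revPerm_apply, Fin.natAddEmb_apply, Fin.coe_natAdd, Fin.val_rev,
    not_lt]
  have := a.isLt
  constructor
  · rintro ⟨h1, h2⟩; exact ⟨h1, by omega⟩
  · rintro ⟨h1, h2⟩; exact ⟨h1, by omega⟩

theorem cntF_lowF_big (M : MinorIdx m n) {x : ℕ} (hx : n ≤ x) :
    cntF (lowF M) x = (lowF M).card := by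
  unfold cntF
  rw [Finset.filter_true_of_mem]
  intro y hy
  obtain ⟨c, -, rfl⟩ := (mem_lowF M y).1 hy
  have := c.isLt
  simp
  omega

theorem key1 (M : MinorIdx m n) {x : ℕ} (hx : x ≤ n) :
    cntF (TF M) x + cntF (colsF M) x = x := by
  unfold TF
  rw [cntF_union _ _ (disjoint_low_high M), cntF_highF_low M hx, add_zero, cntF_lowF, add_comm]
  exact cntF_add_compl _ hx

theorem key2 (M : MinorIdx m n) {u : ℕ} (hu : u ≤ m) :
    cntF (TF M) (n + u) + cntF (rowsF M) (m - u) = n := by
  unfold TF
  rw [cntF_union _ _ (disjoint_low_high M), add_assoc, cntF_highF_high M hu,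
    cntF_lowF_big M (by omega)]
  exact card_lowF M

theorem cntF_cols_big (M : MinorIdx m n) {x : ℕ} (hx : n ≤ x) : cntF (colsF M) x = M.1 + 1 := by
  rw [cntF_of_le _ hx, card_colsF]

theorem cntF_rows_big (M : MinorIdx m n) {x : ℕ} (hx : m ≤ x) : cntF (rowsF M) x = M.1 + 1 := by
  rw [cntF_of_le _ hx, card_rowsF]

/-- The order on minors corresponds to the reversed entrywise order on Plücker indices. -/
theorem phiM_le_iff (M M' : MinorIdx m n) : phiM M ≤ phiM M' ↔ MinorGE M M' := by
  have hL : phiM M ≤ phiM M' ↔ ∀ x : ℕ, cntF (TF M') x ≤ cntF (TF M) x := by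
    have := cnt_le_iff (phiM M').2 (phiM M).2
    simp only [cnt_phiM] at this
    rw [← this]
    constructor
    · intro h
      refine ⟨le_rfl, fun j j' hjj => ?_⟩
      have : j = j' := Fin.ext hjj
      subst this
      exact h j
    · rintro ⟨-, h⟩ k
      exact h k k rfl
  have hR : MinorGE M M' ↔ (∀ x : ℕ, cntF (colsF M) x ≤ cntF (colsF M') x) ∧
      (∀ x : ℕ, cntF (rowsF M) x ≤ cntF (rowsF M') x) := by
    have h1 := cnt_le_iff M.2.2.2 M'.2.2.2
    have h2 := cnt_le_iff M.2.1.2 M'.2.1.2
    simp only [cnt_eq_cntF _ M.2.2.2.injective, cnt_eq_cntF _ M'.2.2.2.injective] at h1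
    simp only [cnt_eq_cntF _ M.2.1.2.injective, cnt_eq_cntF _ M'.2.1.2.injective] at h2
    change _ ↔ (∀ x : ℕ, cntF (colsF M) x ≤ cntF (colsF M') x) ∧
      (∀ x : ℕ, cntF (rowsF M) x ≤ cntF (rowsF M') x)
    unfold colsF rowsF
    rw [← h1, ← h2]
    unfold MinorGE
    constructor
    · rintro ⟨hs, h⟩
      exact ⟨⟨by omega, fun j j' hjj => (h j j' hjj).2⟩, ⟨by omega, fun j j' hjj => (h j j' hjj).1⟩⟩
    · rintro ⟨⟨hs, h1⟩, ⟨-, h2⟩⟩
      exact ⟨by omega, fun j j' hjj => ⟨h2 j j' hjj, h1 j j' hjj⟩⟩
  rw [hL, hR]
  constructor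
  · intro h
    have hsize : M.1 + 1 ≤ M'.1 + 1 := by
      have h1 := h n
      have k1 := key1 M (le_refl n)
      have k1' := key1 M' (le_refl n)
      rw [cntF_cols_big M le_rfl] at k1
      rw [cntF_cols_big M' le_rfl] at k1'
      omega
    constructor
    · intro x
      rcases Nat.lt_or_ge x n with hx | hx
      · have h1 := h x
        have k1 := key1 M hx.le
        have k1' := key1 M' hx.le
        omega
      · rw [cntF_cols_big M hx, cntF_cols_big M' hx]; exact hsize
    · intro y
      rcases Nat.lt_or_ge y m with hy | hy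
      · have h1 := h (n + (m - y))
        have k2 := key2 M (show m - y ≤ m by omega)
        have k2' := key2 M' (show m - y ≤ m by omega)
        have : m - (m - y) = y := by omega
        rw [this] at k2 k2'
        omega
      · rw [cntF_rows_big M hy, cntF_rows_big M' hy]; exact hsize
  · rintro ⟨hc, hr⟩ x
    rcases Nat.lt_or_ge x n with hx | hx
    · have k1 := key1 M hx.le
      have k1' := key1 M' hx.le
      have := hc x
      omega
    · rcases Nat.lt_or_ge x (n + m) with hx2 | hx2
      · obtain ⟨u, rfl⟩ : ∃ u, x = n + u := ⟨x - n, by omega⟩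
        have k2 := key2 M (show u ≤ m by omega)
        have k2' := key2 M' (show u ≤ m by omega)
        have := hr (m - u)
        omega
      · rw [cntF_of_le _ hx2, cntF_of_le _ hx2, card_TF, card_TF]

theorem phiM_injective : Function.Injective (phiM (m := m) (n := n)) := by
  intro M M' h
  have h1 : MinorGE M M' := (phiM_le_iff M M').1 (le_of_eq h)
  have h2 : MinorGE M' M := (phiM_le_iff M' M).1 (le_of_eq h.symm)
  obtain ⟨s, a, b⟩ := M
  obtain ⟨s', a', b'⟩ := M'
  obtain ⟨hs, h1⟩ := h1
  obtain ⟨hs', h2⟩ := h2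
  have : s = s' := le_antisymm hs hs'
  subst this
  have ha : a = a' := by
    apply Subtype.ext
    funext j
    exact le_antisymm (h2 j j rfl).1 (h1 j j rfl).1
  have hb : b = b' := by
    apply Subtype.ext
    funext j
    exact le_antisymm (h2 j j rfl).2 (h1 j j rfl).2
  rw [ha, hb]

/-- The number of entries `≥ n` of the Plücker index of a minor is its size. -/
theorem cnt_phiM_n (M : MinorIdx m n) : cnt (phiM M).1 n + (M.1 + 1) = n := by
  rw [cnt_phiM]
  have := key1 M (le_refl n)
  rw [cntF_cols_big M le_rfl] at this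
  exact this

theorem phiM_ne_bot (M : MinorIdx m n) : phiM M ≠ botIdx n (n + m) (Nat.le_add_right n m) := by
  intro h
  have h1 := cnt_phiM_n M
  rw [h] at h1
  have h2 : cnt (botIdx n (n + m) (Nat.le_add_right n m)).1 n = n := by
    unfold cnt
    rw [Finset.filter_true_of_mem]
    · simp
    · intro j _
      simp [botIdx]
  omega

/-- The Schubert condition of the determinantal variety in terms of the size of the minor. -/
theorem phiM_le_wdet_iff (hn : 0 < n) {t : ℕ} (ht : 0 < t) (htn : t ≤ n) (htm : t ≤ m)
    (M : MinorIdx m n) : phiM M ≤ wdet n m t ht htm ↔ M.1 + 1 ≤ t - 1 := by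
  rw [le_wdet_iff hn ht htn htm, ← lt_cnt_iff (phiM M).2]
  have := cnt_phiM_n M
  simp only
  constructor <;> intro h <;> omega

/-! ## Surjectivity -/

theorem exists_phiM_eq (θ : Idx n (n + m)) (hθ : θ ≠ botIdx n (n + m) (Nat.le_add_right n m)) :
    ∃ M : MinorIdx m n, phiM M = θ := by
  classical
  set T : Finset (Fin (n + m)) := Finset.univ.image θ.1 with hT
  have hTcard : T.card = n := by
    rw [hT, Finset.card_image_of_injective _ θ.2.injective]; simp
  set rows : Finset (Fin m) := Finset.univ.filter fun a => Fin.natAdd n (Fin.rev a) ∈ T with hrows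
  set cols : Finset (Fin n) := Finset.univ.filter fun c => Fin.castAdd m c ∉ T with hcols
  -- the two parts of `T`
  have hTsplit : T = colsᶜ.map (Fin.castAddEmb m) ∪
      rows.map (Fin.revPerm.toEmbedding.trans (Fin.natAddEmb n)) := by
    ext y
    rw [Finset.mem_union, Finset.mem_map, Finset.mem_map]
    induction y using Fin.addCases with
    | left c =>
      constructor
      · intro h
        left
        exact ⟨c, by simp [hcols, h], rfl⟩
      · rintro (⟨c', hc', hcc⟩ | ⟨a, -, ha⟩)
        · have : c' = c := by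
            have := congrArg Fin.val hcc
            simp [Fin.castAddEmb] at this
            exact Fin.ext this
          subst this
          simpa [hcols] using hc'
        · exfalso
          have := congrArg Fin.val ha
          simp [Fin.natAddEmb] at this
          have := c.isLt
          omega
    | right u =>
      constructor
      · intro h
        right
        refine ⟨Fin.rev u, by simp [hrows, h], ?_⟩
        simp [Fin.natAddEmb]
      · rintro (⟨c', -, hcc⟩ | ⟨a, ha, hau⟩)
        · exfalso
          have := congrArg Fin.val hcc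
          simp [Fin.castAddEmb] at this
          have := c'.isLt
          omega
        · have : Fin.rev a = u := by
            have := congrArg Fin.val hau
            simp [Fin.natAddEmb] at this
            exact Fin.ext (by simpa using this)
          rw [← this]
          simpa [hrows] using ha
  have hdisj : Disjoint (colsᶜ.map (Fin.castAddEmb m))
      (rows.map (Fin.revPerm.toEmbedding.trans (Fin.natAddEmb n))) := by
    rw [Finset.disjoint_left]
    intro y h1 h2
    obtain ⟨c, -, rfl⟩ := Finset.mem_map.1 h1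
    obtain ⟨a, -, ha⟩ := Finset.mem_map.1 h2
    have := congrArg Fin.val ha
    simp [Fin.natAddEmb, Fin.castAddEmb] at this
    have := c.isLt
    omega
  have hcards : n - cols.card + rows.card = n := by
    have := congrArg Finset.card hTsplit
    rw [Finset.card_union_of_disjoint hdisj, Finset.card_map, Finset.card_map, Finset.card_compl,
      Fintype.card_fin, hTcard] at this
    exact this.symm
  have hcle : cols.card ≤ n := (Finset.card_le_univ _).trans (by simp)
  have hrc : rows.card = cols.card := by omega
  have hpos : 0 < cols.card := by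
    rw [Finset.card_pos]
    by_contra hemp
    rw [Finset.not_nonempty_iff_eq_empty] at hemp
    apply hθ
    apply Subtype.ext
    have hall : ∀ c : Fin n, Fin.castAdd m c ∈ T := by
      intro c
      by_contra hc
      have : c ∈ cols := by simp [hcols, hc]
      rw [hemp] at this
      exact absurd this (Finset.notMem_empty _)
    -- both are strictly monotone with the same range
    have hrange : Set.range θ.1 = Set.range (botIdx n (n + m) (Nat.le_add_right n m)).1 := by
      have h1 : Set.range (botIdx n (n + m) (Nat.le_add_right n m)).1 ⊆ Set.range θ.1 := by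
        rintro _ ⟨c, rfl⟩
        have := hall c
        rw [hT, Finset.mem_image] at this
        obtain ⟨k, -, hk⟩ := this
        exact ⟨k, hk⟩
      have hfin : (Set.range θ.1).Finite := Set.finite_range _
      refine (Set.eq_of_subset_of_ncard_le h1 ?_ hfin).symm
      rw [Set.ncard_range_of_injective θ.2.injective,
        Set.ncard_range_of_injective (botIdx n (n + m) (Nat.le_add_right n m)).2.injective]
    exact (StrictMono.range_inj θ.2 (botIdx n (n + m) (Nat.le_add_right n m)).2).1 hrange
  obtain ⟨s, hs⟩ : ∃ s, cols.card = s + 1 := ⟨cols.card - 1, by omega⟩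
  set M : MinorIdx m n := ⟨s, ⟨rows.orderEmbOfFin (hrc.trans hs), (rows.orderEmbOfFin _).strictMono⟩,
    ⟨cols.orderEmbOfFin hs, (cols.orderEmbOfFin _).strictMono⟩⟩ with hM
  have hrowsM : rowsF M = rows := by
    unfold rowsF
    exact Finset.image_orderEmbOfFin_univ _ _
  have hcolsM : colsF M = cols := by
    unfold colsF
    exact Finset.image_orderEmbOfFin_univ _ _
  have hTM : TF M = T := by
    unfold TF lowF highF
    rw [hrowsM, hcolsM, ← hTsplit]
  refine ⟨M, ?_⟩
  apply Subtype.ext
  unfold phiM
  simp only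
  symm
  apply Finset.orderEmbOfFin_unique
  · intro k
    rw [hTM, hT]
    exact Finset.mem_image_of_mem _ (Finset.mem_univ k)
  · exact θ.2

end Groth.Agent.Lib.Helper18.Plucker
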