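import Groth.Agent.Lib.Helper18.Plucker.DetBasis1
import Groth.Agent.Lib.Helper18.Plucker.DetBasis2
import Groth.Agent.Lib.Helper18.Plucker.SFT

/-!
# Minors of the generic matrix as Plücker coordinates on the opposite big cell

The Plücker coordinate `p_θ` restricted to the opposite cell is, up to sign, the minor of the generic
block on the rows `θ ∩ [d, d + r)` and the columns not in `θ ∩ [0, d)`.
-/

set_option autoImplicit false

namespace Groth.Agent.Lib.Helper18.Plucker

open W4bk4grassmannian MvPolynomial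

universe u

variable {K : Type u} [Field K]

/-- The cell minor as a signed minor of the generic block. -/
theorem cellMinor_eq_sign_det {d r s : ℕ} (θ : Idx d (d + r)) (f : Fin s → Fin r)
    (g : Fin s → Fin d) (hf : Function.Injective f) (hg : Function.Injective g)
    (hrow : ∀ x : Fin r, (∃ k, θ.1 k = Fin.natAdd d x) ↔ ∃ j, f j = x)
    (hcol : ∀ c : Fin d, (∃ k, θ.1 k = Fin.castAdd r c) ↔ ∀ j, g j ≠ c) :
    ∃ ε : K, ε * ε = 1 ∧
      cellMinor K d r θ = C ε * ((genMatrix K r d).submatrix f g).det := by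
  classical
  let J₁ := {c : Fin d // ∀ j, g j ≠ c}
  have hk₁ : ∀ c : J₁, ∃ k, θ.1 k = Fin.castAdd r c.1 := fun c => (hcol c.1).2 c.2
  have hk₂ : ∀ j : Fin s, ∃ k, θ.1 k = Fin.natAdd d (f j) := fun j => (hrow (f j)).2 ⟨j, rfl⟩
  let row : J₁ ⊕ Fin s → Fin d := Sum.elim (fun c => (hk₁ c).choose) (fun j => (hk₂ j).choose)
  have hrow_l : ∀ c : J₁, θ.1 (row (Sum.inl c)) = Fin.castAdd r c.1 :=
    fun c => (hk₁ c).choose_spec
  have hrow_r : ∀ j, θ.1 (row (Sum.inr j)) = Fin.natAdd d (f j) := fun j => (hk₂ j).choose_spec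
  have hrow_bij : Function.Bijective row := by
    constructor
    · intro x y hxy
      have h := congrArg θ.1 hxy
      rcases x with c | j <;> rcases y with c' | j'
      · rw [hrow_l, hrow_l] at h
        have h2 := congrArg Fin.val h
        simp only [Fin.coe_castAdd] at h2
        exact congrArg Sum.inl (Subtype.ext (Fin.ext h2))
      · rw [hrow_l, hrow_r] at h
        exfalso
        have h2 := congrArg Fin.val h
        simp only [Fin.coe_castAdd, Fin.coe_natAdd] at h2
        have := c.1.isLt
        omega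
      · rw [hrow_r, hrow_l] at h
        exfalso
        have h2 := congrArg Fin.val h
        simp only [Fin.coe_castAdd, Fin.coe_natAdd] at h2
        have := c'.1.isLt
        omega
      · rw [hrow_r, hrow_r] at h
        have h2 := congrArg Fin.val h
        simp only [Fin.coe_natAdd] at h2
        have h3 : f j = f j' := Fin.ext (by omega)
        rw [hf h3]
    · intro k
      by_cases hlt : (θ.1 k).val < d
      · have hc : θ.1 k = Fin.castAdd r (⟨(θ.1 k).val, hlt⟩ : Fin d) := Fin.ext rfl
        have hcJ : ∀ j, g j ≠ (⟨(θ.1 k).val, hlt⟩ : Fin d) := (hcol _).1 ⟨k, hc⟩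
        refine ⟨Sum.inl ⟨_, hcJ⟩, θ.2.injective ?_⟩
        rw [hrow_l]
        exact hc.symm
      · have hlt2 := (θ.1 k).isLt
        have hx : θ.1 k = Fin.natAdd d (⟨(θ.1 k).val - d, by omega⟩ : Fin r) :=
          Fin.ext (by simp only [Fin.coe_natAdd]; omega)
        obtain ⟨j, hj⟩ := (hrow _).1 ⟨k, hx⟩
        refine ⟨Sum.inr j, θ.2.injective ?_⟩
        rw [hrow_r, hj]
        exact hx.symm
  let col : J₁ ⊕ Fin s → Fin d := Sum.elim (fun c => c.1) g
  have hcol_bij : Function.Bijective col := by
    constructor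
    · intro x y hxy
      rcases x with c | j <;> rcases y with c' | j'
      · exact congrArg Sum.inl (Subtype.ext hxy)
      · exact absurd hxy.symm (c.2 j')
      · exact absurd hxy (c'.2 j)
      · rw [hg hxy]
    · intro c
      by_cases hc : ∀ j, g j ≠ c
      · exact ⟨Sum.inl ⟨c, hc⟩, rfl⟩
      · push_neg at hc
        obtain ⟨j, hj⟩ := hc
        exact ⟨Sum.inr j, hj⟩
  let e₁ : J₁ ⊕ Fin s ≃ Fin d := Equiv.ofBijective row hrow_bij
  let e₂ : J₁ ⊕ Fin s ≃ Fin d := Equiv.ofBijective col hcol_bij
  set M : Matrix (Fin d) (Fin d) (CellRing K d r) := (cellMatrix K d r).submatrix θ.1 id with hM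
  set Z' : Matrix (Fin s) (Fin s) (CellRing K d r) := (genMatrix K r d).submatrix f g with hZ'
  set Z'' : Matrix (Fin s) J₁ (CellRing K d r) := Matrix.of fun j c => X (f j, c.1) with hZ''
  have hcA : ∀ (c c' : Fin d),
      cellMatrix K d r (Fin.castAdd r c) c' = if c.val = c'.val then 1 else 0 := by
    intro c c'
    simp only [cellMatrix, Matrix.of_apply]
    rw [dif_pos (by simp)]
    simp
  have hcB : ∀ (x : Fin r) (c' : Fin d), cellMatrix K d r (Fin.natAdd d x) c' = X (x, c') := by
    intro x c'
    simp only [cellMatrix, Matrix.of_apply]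
    rw [dif_neg (by simp)]
    congr 2
    exact Fin.ext (by simp)
  have hblock : M.submatrix e₁ e₂ = Matrix.fromBlocks 1 0 Z'' Z' := by
    refine Matrix.ext fun x y => ?_
    rcases x with c | j <;> rcases y with c' | j'
    · rw [Matrix.fromBlocks_apply₁₁, Matrix.submatrix_apply, hM, Matrix.submatrix_apply, id]
      change cellMatrix K d r (θ.1 (row (Sum.inl c))) c'.1 = _
      rw [hrow_l, hcA, Matrix.one_apply]
      by_cases hcc : c = c'
      · rw [if_pos hcc, if_pos (by rw [hcc])]
      · rw [if_neg hcc, if_neg (fun h' => hcc (Subtype.ext (Fin.ext h')))]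
    · rw [Matrix.fromBlocks_apply₁₂, Matrix.submatrix_apply, hM, Matrix.submatrix_apply, id]
      change cellMatrix K d r (θ.1 (row (Sum.inl c))) (g j') = _
      rw [hrow_l, hcA, Matrix.zero_apply, if_neg (fun h' => c.2 j' (Fin.ext h').symm)]
    · rw [Matrix.fromBlocks_apply₂₁, Matrix.submatrix_apply, hM, Matrix.submatrix_apply, id]
      change cellMatrix K d r (θ.1 (row (Sum.inr j))) c'.1 = _
      rw [hrow_r, hcB, hZ'', Matrix.of_apply]
    · rw [Matrix.fromBlocks_apply₂₂, Matrix.submatrix_apply, hM, Matrix.submatrix_apply, id]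
      change cellMatrix K d r (θ.1 (row (Sum.inr j))) (g j') = _
      rw [hrow_r, hcB, hZ', Matrix.submatrix_apply, genMatrix, Matrix.of_apply]
  set σ : Equiv.Perm (J₁ ⊕ Fin s) := e₂.trans e₁.symm with hσ
  have h1 : M.submatrix e₁ e₂ = (M.submatrix e₁ e₁).submatrix id σ := by
    ext x y
    simp [hσ]
  have h2 : (M.submatrix e₁ e₂).det = (Equiv.Perm.sign σ : ℤˣ) * M.det := by
    rw [h1, Matrix.det_permute', Matrix.det_submatrix_equiv_self]
  have h3 : (M.submatrix e₁ e₂).det = Z'.det := by
    rw [hblock, Matrix.det_fromBlocks_zero₁₂, Matrix.det_one, one_mul]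
  have hM' : cellMinor K d r θ = M.det := rfl
  rcases Int.units_eq_one_or (Equiv.Perm.sign σ) with hs | hs
  · refine ⟨1, one_mul 1, ?_⟩
    rw [hM', C_1, one_mul, ← h3, h2, hs]
    simp
  · refine ⟨-1, by ring, ?_⟩
    rw [hM', ← h3, h2, hs]
    simp

/-! ## Reversal of the rows -/

/-- Reversal of the rows of the generic matrix. -/
noncomputable def rowRev (K : Type u) [Field K] (m n : ℕ) :
    MvPolynomial (Fin m × Fin n) K →ₐ[K] MvPolynomial (Fin m × Fin n) K :=
  rename (Prod.map Fin.rev id)

theorem rowRev_rowRev {m n : ℕ} (p : MvPolynomial (Fin m × Fin n) K) :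
    rowRev K m n (rowRev K m n p) = p := by
  unfold rowRev
  rw [rename_rename]
  have : (Prod.map Fin.rev id ∘ Prod.map Fin.rev id : Fin m × Fin n → Fin m × Fin n) = id := by
    funext x
    obtain ⟨a, b⟩ := x
    simp [Prod.map]
  rw [this, rename_id_apply]

theorem rowRev_surjective {m n : ℕ} : Function.Surjective (rowRev K m n) :=
  fun p => ⟨rowRev K m n p, rowRev_rowRev p⟩

theorem rowRev_det_submatrix {m n s : ℕ} (f : Fin s → Fin m) (g : Fin s → Fin n) :
    rowRev K m n ((genMatrix K m n).submatrix f g).det =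
      ((genMatrix K m n).submatrix (Fin.rev ∘ f) g).det := by
  rw [AlgHom.map_det]
  congr 1
  refine Matrix.ext fun i j => ?_
  simp [rowRev, genMatrix]

theorem rowRev_mem_minorIdeal {m n t : ℕ} {p : MvPolynomial (Fin m × Fin n) K}
    (hp : p ∈ CAlgX.minorIdeal (genMatrix K m n) t) :
    rowRev K m n p ∈ CAlgX.minorIdeal (genMatrix K m n) t := by
  have h : CAlgX.minorIdeal (genMatrix K m n) t ≤
      (CAlgX.minorIdeal (genMatrix K m n) t).comap (rowRev K m n).toRingHom := by
    unfold CAlgX.minorIdeal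
    rw [Ideal.span_le]
    rintro _ ⟨⟨f, g⟩, rfl⟩
    rw [SetLike.mem_coe, Ideal.mem_comap]
    change rowRev K m n _ ∈ _
    rw [rowRev_det_submatrix]
    exact Ideal.subset_span ⟨(Fin.rev ∘ f, g), rfl⟩
  exact h hp

theorem rowRev_mem_minorIdeal_iff {m n t : ℕ} {p : MvPolynomial (Fin m × Fin n) K} :
    rowRev K m n p ∈ CAlgX.minorIdeal (genMatrix K m n) t ↔
      p ∈ CAlgX.minorIdeal (genMatrix K m n) t := by
  refine ⟨fun h => ?_, rowRev_mem_minorIdeal⟩
  have := rowRev_mem_minorIdeal h
  rwa [rowRev_rowRev] at this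

/-- The comorphism of the opposite cell followed by the reversal of the rows. -/
noncomputable def cellRhoRev (K : Type u) [Field K] (m n : ℕ) :
    PlRing K n (n + m) →ₐ[K] MvPolynomial (Fin m × Fin n) K :=
  (rowRev K m n).comp (cellRho K n m)

theorem cellRhoRev_surjective {m n : ℕ} : Function.Surjective (cellRhoRev K m n) := by
  unfold cellRhoRev
  rw [AlgHom.coe_comp]
  exact rowRev_surjective.comp cellRho_surjective

theorem comap_cellRhoRev {m n t : ℕ} :
    (CAlgX.minorIdeal (genMatrix K m n) t).comap (cellRhoRev K m n).toRingHom =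
      (CAlgX.minorIdeal (genMatrix K m n) t).comap (cellRho K n m).toRingHom := by
  ext p
  rw [Ideal.mem_comap, Ideal.mem_comap]
  change rowRev K m n (cellRho K n m p) ∈ _ ↔ cellRho K n m p ∈ _
  exact rowRev_mem_minorIdeal_iff

/-- The Plücker coordinate of a minor is the minor up to sign. -/
theorem cellRhoRev_X_phiM {m n : ℕ} (M : MinorIdx m n) :
    ∃ ε : K, ε * ε = 1 ∧ cellRhoRev K m n (X (phiM M)) = C ε * minorOf K M := by
  obtain ⟨ε, hε, h⟩ := cellMinor_eq_sign_det (K := K) (phiM M) (Fin.rev ∘ M.2.1.1) M.2.2.1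
    (Fin.rev_injective.comp M.2.1.2.injective) M.2.2.2.injective
    (by
      intro x
      rw [exists_phiM_eq_iff]
      unfold TF
      rw [Finset.mem_union]
      constructor
      · rintro (h | h)
        · exfalso
          obtain ⟨c, -, hc⟩ := (mem_lowF M _).1 h
          have h2 := congrArg Fin.val hc
          simp only [Fin.coe_castAdd, Fin.coe_natAdd] at h2
          have := c.isLt
          omega
        · obtain ⟨a, ha, hax⟩ := (mem_highF M _).1 h
          unfold rowsF at ha
          rw [Finset.mem_image] at ha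
          obtain ⟨j, -, rfl⟩ := ha
          refine ⟨j, ?_⟩
          have h2 := congrArg Fin.val hax
          simp only [Fin.coe_natAdd] at h2
          exact Fin.ext (by simp only [Function.comp_apply]; omega)
      · rintro ⟨j, rfl⟩
        right
        rw [mem_highF]
        exact ⟨M.2.1.1 j, Finset.mem_image.2 ⟨j, Finset.mem_univ _, rfl⟩, rfl⟩)
    (by
      intro c
      rw [exists_phiM_eq_iff]
      unfold TF
      rw [Finset.mem_union]
      constructor
      · rintro (h | h)
        · obtain ⟨c', hc', hcc⟩ := (mem_lowF M _).1 h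
          have h2 := congrArg Fin.val hcc
          simp only [Fin.coe_castAdd] at h2
          have : c' = c := Fin.ext h2
          subst this
          intro j hj
          exact hc' (Finset.mem_image.2 ⟨j, Finset.mem_univ _, hj⟩)
        · exfalso
          obtain ⟨a, -, hax⟩ := (mem_highF M _).1 h
          have h2 := congrArg Fin.val hax
          simp only [Fin.coe_castAdd, Fin.coe_natAdd] at h2
          have := c.isLt
          omega
      · intro h
        left
        rw [mem_lowF]
        refine ⟨c, ?_, rfl⟩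
        intro hc
        unfold colsF at hc
        rw [Finset.mem_image] at hc
        obtain ⟨j, -, hj⟩ := hc
        exact h j hj)
  refine ⟨ε, hε, ?_⟩
  unfold cellRhoRev
  rw [AlgHom.comp_apply, cellRho_X, h, map_mul, rowRev_det_submatrix]
  congr 1
  · unfold rowRev
    rw [rename_C]
  · unfold minorOf
    congr 2
    funext j
    simp

/-! ## The Schubert variety of a determinantal ideal -/

theorem exists_w [Infinite K] {m n t : ℕ} (hm : 0 < m) (hn : 0 < n) (ht : 1 ≤ t)
    (htmn : t ≤ min m n + 1) :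
    ∃ w : Idx n (n + m),
      (CAlgX.minorIdeal (genMatrix K m n) t).comap (cellRhoRev K m n).toRingHom =
        schubertVanishing K n (n + m) w ⊔
          Ideal.span {(X (iota n m) - 1 : PlRing K n (n + m))} ∧
      ∀ M : MinorIdx m n, phiM M ≤ w ↔ M.1 + 1 ≤ t - 1 := by
  rw [comap_cellRhoRev]
  by_cases h : t ≤ min m n
  · have htm : t ≤ m := h.trans (min_le_left _ _)
    have htn : t ≤ n := h.trans (min_le_right _ _)
    exact ⟨wdet n m t ht htm, comap_minorIdeal hn ht htn htm,
      fun M => phiM_le_wdet_iff hn ht htn htm M⟩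
  · have ht' : t = min m n + 1 := by omega
    refine ⟨topIdx n (n + m) (Nat.le_add_right n m), ?_, fun M => ?_⟩
    · have hbot : CAlgX.minorIdeal (genMatrix K m n) t = ⊥ := by
        rcases le_total m n with hmn | hmn
        · exact minorIdeal_eq_bot_of_lt_left K m n t (by rw [ht', min_eq_left hmn]; omega)
        · exact minorIdeal_eq_bot_of_lt_right K m n t (by rw [ht', min_eq_right hmn]; omega)
      rw [hbot, schubertVanishing_top]
      apply le_antisymm
      · exact ker_cellRho_le
      · rw [sup_le_iff]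
        constructor
        · intro f hf
          rw [Ideal.mem_comap, Ideal.mem_bot]
          exact cellRho_vanishing hf
        · rw [Ideal.span_le, Set.singleton_subset_iff]
          exact X_iota_sub_one_mem_ker
    · constructor
      · intro _
        have h1 := size_le_cols M
        have h2 := size_le_rows M
        rw [ht']
        omega
      · intro _
        exact le_topIdx _ _

/-! ## The standard bitableaux basis -/

/-- Transport of the standard monomial basis of the dehomogenised Schubert ring. -/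
theorem transport_basis [Infinite K] {m n t : ℕ} (hn : 0 < n) (w : Idx n (n + m))
    (hcomap : (CAlgX.minorIdeal (genMatrix K m n) t).comap (cellRhoRev K m n).toRingHom =
        schubertVanishing K n (n + m) w ⊔
          Ideal.span {(X (iota n m) - 1 : PlRing K n (n + m))}) :
    LinearIndependent K (fun c : ChainNB w (iota n m) =>
        Ideal.Quotient.mk (CAlgX.minorIdeal (genMatrix K m n) t)
          (cellRhoRev K m n (chainMon K c.1.2.1))) ∧
      Submodule.span K (Set.range fun c : ChainNB w (iota n m) =>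
        Ideal.Quotient.mk (CAlgX.minorIdeal (genMatrix K m n) t)
          (cellRhoRev K m n (chainMon K c.1.2.1))) = ⊤ := by
  classical
  have hle : schubertVanishing K n (n + m) w ⊔
      Ideal.span {(X (iota n m) - 1 : PlRing K n (n + m))} ≤
      (CAlgX.minorIdeal (genMatrix K m n) t).comap (cellRhoRev K m n) := by
    intro x hx
    rw [← hcomap] at hx
    exact hx
  have hge : (CAlgX.minorIdeal (genMatrix K m n) t).comap (cellRhoRev K m n) ≤
      schubertVanishing K n (n + m) w ⊔
      Ideal.span {(X (iota n m) - 1 : PlRing K n (n + m))} := by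
    intro x hx
    rw [← hcomap]
    exact hx
  have hΦmk : ∀ x, Ideal.quotientMapₐ (CAlgX.minorIdeal (genMatrix K m n) t) (cellRhoRev K m n) hle
      (Ideal.Quotient.mk _ x) =
      Ideal.Quotient.mk (CAlgX.minorIdeal (genMatrix K m n) t) (cellRhoRev K m n x) := fun x => rfl
  have hΦinj : Function.Injective
      (Ideal.quotientMapₐ (CAlgX.minorIdeal (genMatrix K m n) t) (cellRhoRev K m n) hle) := by
    rw [injective_iff_map_eq_zero]
    intro a ha
    obtain ⟨x, rfl⟩ := Ideal.Quotient.mk_surjective a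
    rw [hΦmk, Ideal.Quotient.eq_zero_iff_mem] at ha
    rw [Ideal.Quotient.eq_zero_iff_mem]
    exact hge ha
  have hΦsurj : Function.Surjective
      (Ideal.quotientMapₐ (CAlgX.minorIdeal (genMatrix K m n) t) (cellRhoRev K m n) hle) := by
    intro y
    obtain ⟨y, rfl⟩ := Ideal.Quotient.mk_surjective y
    obtain ⟨x, rfl⟩ := cellRhoRev_surjective (K := K) y
    exact ⟨Ideal.Quotient.mk _ x, hΦmk x⟩
  have hb_indep := dehom_std_indep (K := K) hn (Nat.le_add_right n m) w
  have hb_span := dehom_std_span (K := K) hn (Nat.le_add_right n m) w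
  constructor
  · exact hb_indep.map'
      (Ideal.quotientMapₐ (CAlgX.minorIdeal (genMatrix K m n) t) (cellRhoRev K m n)
        hle).toLinearMap (LinearMap.ker_eq_bot.2 hΦinj)
  · have := congrArg (Submodule.map (Ideal.quotientMapₐ (CAlgX.minorIdeal (genMatrix K m n) t)
      (cellRhoRev K m n) hle).toLinearMap) hb_span
    rw [Submodule.map_span, Submodule.map_top, LinearMap.range_eq_top.2 hΦsurj,
      ← Set.range_comp] at this
    exact this

/-- The type of standard bitableaux. -/
abbrev SBT (m n t : ℕ) : Type := Σ k : ℕ, {c : Fin k → MinorIdx m n //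
  (∀ i, (c i).1 + 1 ≤ t - 1) ∧ ∀ i j, i < j → MinorGE (c i) (c j)}

theorem antitone_phiM_rev {m n t : ℕ} (c : SBT m n t) :
    Antitone (fun i : Fin c.1 => phiM (c.2.1 (Fin.rev i))) := by
  intro i j hij
  rcases eq_or_lt_of_le hij with h | h
  · rw [h]
  · exact (phiM_le_iff _ _).2 (c.2.2.2 _ _ (Fin.rev_lt_rev.2 h))

/-- The standard monomial of a standard bitableau. -/
def toChainNB {m n t : ℕ} (w : Idx n (n + m))
    (hw : ∀ M : MinorIdx m n, phiM M ≤ w ↔ M.1 + 1 ≤ t - 1) (c : SBT m n t) :
    ChainNB w (iota n m) :=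
  ⟨⟨c.1, fun i => phiM (c.2.1 (Fin.rev i)), antitone_phiM_rev c⟩,
    fun _ => (hw _).2 (c.2.2.1 _), fun _ => phiM_ne_bot _⟩

theorem toChainNB_injective {m n t : ℕ} (w : Idx n (n + m))
    (hw : ∀ M : MinorIdx m n, phiM M ≤ w ↔ M.1 + 1 ≤ t - 1) :
    Function.Injective (toChainNB w hw) := by
  rintro ⟨k, c, hc⟩ ⟨k', c', hc'⟩ h
  have h1 := congrArg Subtype.val h
  have hk : k = k' := congrArg Sigma.fst h1
  subst hk
  have h2 := eq_of_heq (Sigma.mk.inj_iff.1 h1).2
  have h3 := congrArg Subtype.val h2
  have : c = c' := by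
    funext i
    have := congrFun h3 (Fin.rev i)
    simp only [Fin.rev_rev] at this
    exact phiM_injective this
  subst this
  rfl

theorem toChainNB_surjective {m n t : ℕ} (w : Idx n (n + m))
    (hw : ∀ M : MinorIdx m n, phiM M ≤ w ↔ M.1 + 1 ≤ t - 1) :
    Function.Surjective (toChainNB w hw) := by
  rintro ⟨⟨k, c, hc⟩, h1, h2⟩
  choose Mi hMi using fun i : Fin k => exists_phiM_eq (c i) (h2 i)
  refine ⟨⟨k, fun i => Mi (Fin.rev i), ?_, ?_⟩, ?_⟩
  · intro i
    rw [← hw, hMi]
    exact h1 _
  · intro i j hij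
    rw [← phiM_le_iff, hMi, hMi]
    exact hc (Fin.rev_le_rev.2 hij.le)
  · apply Subtype.ext
    change (⟨k, ⟨fun i => phiM (Mi (Fin.rev (Fin.rev i))), _⟩⟩ : Chain n (n + m)) = ⟨k, ⟨c, hc⟩⟩
    refine Sigma.ext rfl (heq_of_eq (Subtype.ext ?_))
    funext i
    simp [hMi]

theorem std_bitableaux [Infinite K] (m n t : ℕ) (hm : 0 < m) (hn : 0 < n) (ht : 1 ≤ t)
    (htmn : t ≤ min m n + 1) :
    LinearIndependent K (fun c : SBT m n t =>
        Ideal.Quotient.mk (CAlgX.minorIdeal (genMatrix K m n) t)
          (Finset.univ.prod fun i => minorOf K (c.2.1 i))) ∧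
      Submodule.span K (Set.range fun c : SBT m n t =>
        Ideal.Quotient.mk (CAlgX.minorIdeal (genMatrix K m n) t)
          (Finset.univ.prod fun i => minorOf K (c.2.1 i))) = ⊤ := by
  classical
  obtain ⟨w, hcomap, hw⟩ := exists_w (K := K) hm hn ht htmn
  obtain ⟨h1, h2⟩ := transport_basis (K := K) hn w hcomap
  choose ε hε1 hε2 using fun M : MinorIdx m n => cellRhoRev_X_phiM (K := K) M
  have hkey : ∀ c : SBT m n t,
      Ideal.Quotient.mk (CAlgX.minorIdeal (genMatrix K m n) t)
        (cellRhoRev K m n (chainMon K (toChainNB w hw c).1.2.1)) = (∏ i, ε (c.2.1 i)) •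
        Ideal.Quotient.mk (CAlgX.minorIdeal (genMatrix K m n) t)
          (∏ i, minorOf K (c.2.1 i)) := by
    intro c
    have e1 : chainMon K (toChainNB w hw c).1.2.1 =
        ∏ i : Fin c.1, X (phiM (c.2.1 (Fin.rev i))) := rfl
    rw [e1, map_prod]
    have e2 : ∏ i : Fin c.1, cellRhoRev K m n (X (phiM (c.2.1 (Fin.rev i)))) =
        ∏ i : Fin c.1, cellRhoRev K m n (X (phiM (c.2.1 i))) :=
      Equiv.prod_comp Fin.revPerm (fun i => cellRhoRev K m n (X (phiM (c.2.1 i))))
    rw [e2]
    simp only [hε2, Finset.prod_mul_distrib]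
    rw [← map_prod, ← MvPolynomial.smul_eq_C_mul]
    rfl
  have hu : ∀ c : SBT m n t, (∏ i, ε (c.2.1 i)) * (∏ i, ε (c.2.1 i)) = 1 := by
    intro c
    rw [← Finset.prod_mul_distrib]
    exact Finset.prod_eq_one fun i _ => hε1 _
  let u : SBT m n t → Kˣ := fun c => Units.mkOfMulEqOne _ _ (hu c)
  have hg : ∀ c : SBT m n t,
      Ideal.Quotient.mk (CAlgX.minorIdeal (genMatrix K m n) t) (∏ i, minorOf K (c.2.1 i)) =
        u c • Ideal.Quotient.mk (CAlgX.minorIdeal (genMatrix K m n) t)
        (cellRhoRev K m n (chainMon K (toChainNB w hw c).1.2.1)) := by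
    intro c
    rw [hkey, Units.smul_def, smul_smul]
    change _ = ((∏ i, ε (c.2.1 i)) * (∏ i, ε (c.2.1 i))) • _
    rw [hu, one_smul]
  constructor
  · have h3 := ((h1.comp (toChainNB w hw) (toChainNB_injective w hw)).units_smul u)
    have : (fun c : SBT m n t =>
        Ideal.Quotient.mk (CAlgX.minorIdeal (genMatrix K m n) t)
          (∏ i, minorOf K (c.2.1 i))) =
        u • ((fun c : ChainNB w (iota n m) =>
          Ideal.Quotient.mk (CAlgX.minorIdeal (genMatrix K m n) t)
          (cellRhoRev K m n (chainMon K c.1.2.1))) ∘ toChainNB w hw) := funext hg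
    rw [this]
    exact h3
  · rw [eq_top_iff, ← h2, Submodule.span_le]
    rintro _ ⟨c', rfl⟩
    obtain ⟨c, rfl⟩ := toChainNB_surjective w hw c'
    change Ideal.Quotient.mk (CAlgX.minorIdeal (genMatrix K m n) t)
        (cellRhoRev K m n (chainMon K (toChainNB w hw c).1.2.1)) ∈ _
    rw [hkey]
    exact Submodule.smul_mem _ _ (Submodule.subset_span ⟨c, rfl⟩)

end Groth.Agent.Lib.Helper18.Plucker
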