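import Groth.Agent.Lib.Helper18.Plucker.Det2
import Groth.Agent.Lib.Helper18.Plucker.SFT
import Groth.Agent.Lib.Helper7.NoetherNormInt

set_option autoImplicit false
universe u
open MvPolynomial W4bk4grassmannian

namespace Groth.Agent.Lib.Helper18.Plucker

section BaseChange
variable {k K : Type u} [Field k] [Field K] [Algebra k K] {σ : Type*}

/-- Coefficientwise application of a `k`-linear map `K → k`. -/
noncomputable def coeffMap (ρ : K →ₗ[k] k) : MvPolynomial σ K →ₗ[k] MvPolynomial σ k :=
  (AddMonoidAlgebra.coeffLinearEquiv k).symm.toLinearMap ∘ₗ Finsupp.mapRange.linearMap ρ ∘ₗ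
    (AddMonoidAlgebra.coeffLinearEquiv k).toLinearMap

theorem coeff_coeffMap (ρ : K →ₗ[k] k) (g : MvPolynomial σ K) (d : σ →₀ ℕ) :
    coeff d (coeffMap ρ g) = ρ (coeff d g) := rfl

theorem coeffMap_map_mul (ρ : K →ₗ[k] k) (h : MvPolynomial σ k) (g : MvPolynomial σ K) :
    coeffMap ρ (MvPolynomial.map (algebraMap k K) h * g) = h * coeffMap ρ g := by
  classical
  induction h using MvPolynomial.induction_on' with
  | monomial s a =>
    ext d
    rw [coeff_coeffMap, map_monomial, coeff_monomial_mul', coeff_monomial_mul']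
    split_ifs with hs
    · rw [coeff_coeffMap, Algebra.algebraMap_eq_smul_one, smul_mul_assoc, one_mul, map_smul,
        smul_eq_mul]
    · simp
  | add p q hp hq =>
    rw [map_add, add_mul, map_add, hp, hq, add_mul]

theorem coeffMap_map (ρ : K →ₗ[k] k) (hρ : ρ 1 = 1) (h : MvPolynomial σ k) :
    coeffMap ρ (MvPolynomial.map (algebraMap k K) h) = h := by
  ext d
  rw [coeff_coeffMap, coeff_map, Algebra.algebraMap_eq_smul_one, map_smul, hρ, smul_eq_mul,
    mul_one]

theorem comap_map_eq (I : Ideal (MvPolynomial σ k)) :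
    (I.map (MvPolynomial.map (algebraMap k K))).comap (MvPolynomial.map (algebraMap k K)) = I := by
  classical
  apply le_antisymm _ Ideal.le_comap_map
  obtain ⟨ρ, hρ⟩ := LinearMap.exists_leftInverse_of_injective (Algebra.linearMap k K)
    (by rw [LinearMap.ker_eq_bot]; exact (algebraMap k K).injective)
  have hρ1 : ρ 1 = 1 := by
    have := LinearMap.congr_fun hρ 1
    simpa using this
  intro f hf
  rw [Ideal.mem_comap] at hf
  have key : ∀ g ∈ I.map (MvPolynomial.map (algebraMap k K)),
      ∀ a : MvPolynomial σ K, coeffMap ρ (a * g) ∈ I := by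
    intro g hg
    refine Submodule.span_induction ?_ ?_ ?_ ?_ hg
    · rintro _ ⟨h, hh, rfl⟩ a
      rw [mul_comm, coeffMap_map_mul]
      exact I.mul_mem_right _ hh
    · intro a; simp
    · intro x y _ _ hx hy a; rw [mul_add, map_add]; exact I.add_mem (hx a) (hy a)
    · intro b x _ hx a
      rw [smul_eq_mul, ← mul_assoc]
      exact hx (a * b)
  have := key _ hf 1
  rw [one_mul] at this
  rwa [coeffMap_map ρ hρ1] at this

/-- The base change map `k[X]/I → K[X]/IK[X]`. -/
noncomputable def bcMap (K : Type u) [Field K] [Algebra k K] (I : Ideal (MvPolynomial σ k)) :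
    (MvPolynomial σ k ⧸ I) →+*
      (MvPolynomial σ K ⧸ I.map (MvPolynomial.map (algebraMap k K))) :=
  Ideal.quotientMap (I.map (MvPolynomial.map (algebraMap k K)))
    (MvPolynomial.map (algebraMap k K)) Ideal.le_comap_map

theorem bcMap_mk (I : Ideal (MvPolynomial σ k)) (p : MvPolynomial σ k) :
    bcMap K I (Ideal.Quotient.mk I p) =
      Ideal.Quotient.mk _ (MvPolynomial.map (algebraMap k K) p) := rfl

theorem bcMap_injective (I : Ideal (MvPolynomial σ k)) : Function.Injective (bcMap K I) := by
  rw [injective_iff_map_eq_zero]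
  intro x hx
  obtain ⟨p, rfl⟩ := Ideal.Quotient.mk_surjective x
  rw [bcMap_mk, Ideal.Quotient.eq_zero_iff_mem] at hx
  rw [Ideal.Quotient.eq_zero_iff_mem, ← comap_map_eq (K := K) I]
  exact hx

theorem bcMap_isIntegral [Algebra.IsIntegral k K] (I : Ideal (MvPolynomial σ k)) :
    (bcMap K I).IsIntegral := by
  intro x
  obtain ⟨p, rfl⟩ := Ideal.Quotient.mk_surjective x
  induction p using MvPolynomial.induction_on with
  | C c =>
    obtain ⟨q, hq, hq0⟩ := Algebra.IsIntegral.isIntegral (R := k) c
    refine ⟨q.map ((Ideal.Quotient.mk I).comp MvPolynomial.C), hq.map _, ?_⟩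
    rw [Polynomial.eval₂_map]
    have hcomp : (bcMap K I).comp ((Ideal.Quotient.mk I).comp MvPolynomial.C) =
        ((Ideal.Quotient.mk (I.map (MvPolynomial.map (algebraMap k K)))).comp
          MvPolynomial.C).comp (algebraMap k K) := by
      ext a
      simp only [RingHom.comp_apply, bcMap_mk, map_C]
    rw [hcomp]
    have := Polynomial.hom_eval₂ q (algebraMap k K)
      ((Ideal.Quotient.mk (I.map (MvPolynomial.map (algebraMap k K)))).comp MvPolynomial.C) c
    rw [RingHom.comp_apply, RingHom.comp_apply] at this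
    rw [← this, hq0, map_zero, map_zero]
  | add p q hp hq =>
    rw [map_add]; exact RingHom.IsIntegralElem.add _ hp hq
  | mul_X p i hp =>
    rw [map_mul]
    refine RingHom.IsIntegralElem.mul _ hp ?_
    have : Ideal.Quotient.mk (I.map (MvPolynomial.map (algebraMap k K))) (X i) =
        bcMap K I (Ideal.Quotient.mk I (X i)) := by
      rw [bcMap_mk, map_X]
    rw [this]
    exact RingHom.isIntegralElem_map _

theorem ringKrullDim_bc [Algebra.IsIntegral k K] (I : Ideal (MvPolynomial σ k)) :
    ringKrullDim (MvPolynomial σ K ⧸ I.map (MvPolynomial.map (algebraMap k K))) =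
      ringKrullDim (MvPolynomial σ k ⧸ I) :=
  Groth.Agent.Lib.Helper7.NNInt.ringKrullDim_eq_of_injective_isIntegral (bcMap K I)
    (bcMap_injective I) (bcMap_isIntegral I)

end BaseChange

section Generic
variable {k K : Type u} [Field k] [Field K] [Algebra k K]

theorem minorIdeal_genMatrix_map (n m t : ℕ) :
    (CAlgX.minorIdeal (genMatrix k n m) t).map (MvPolynomial.map (algebraMap k K)) =
      CAlgX.minorIdeal (genMatrix K n m) t := by
  unfold CAlgX.minorIdeal
  rw [Ideal.map_span, ← Set.range_comp]
  congr 2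
  funext fg
  rw [Function.comp_apply, RingHom.map_det]
  congr 1
  ext i j
  simp [genMatrix]

theorem ringKrullDim_generic (k : Type u) [Field k] (n m r : ℕ) (hr : r ≤ min n m) :
    ringKrullDim (MvPolynomial (Fin n × Fin m) k ⧸ CAlgX.minorIdeal (genMatrix k n m) (r + 1)) =
      ((r * (m + n - r) : ℕ) : WithBot ℕ∞) := by
  rcases hr.lt_or_eq with hlt | heq
  · have hn : r + 1 ≤ n := lt_of_lt_of_le hlt (min_le_left _ _)
    have hm : r + 1 ≤ m := lt_of_lt_of_le hlt (min_le_right _ _)
    have : Infinite (AlgebraicClosure k) := IsAlgClosed.instInfinite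
    rw [← ringKrullDim_bc (K := AlgebraicClosure k), minorIdeal_genMatrix_map]
    have h := (determinantal (K := AlgebraicClosure k) (d := m) (r := n) (by omega)
      (Nat.succ_pos r) hm hn).2.2.2
    rw [h]
    congr 2
    omega
  · have hbot : CAlgX.minorIdeal (genMatrix k n m) (r + 1) = ⊥ := by
      rcases le_total n m with hnm | hnm
      · exact minorIdeal_eq_bot_of_lt_left k n m _ (by rw [heq, min_eq_left hnm]; omega)
      · exact minorIdeal_eq_bot_of_lt_right k n m _ (by rw [heq, min_eq_right hnm]; omega)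
    rw [hbot, ringKrullDim_eq_of_ringEquiv (RingEquiv.quotientBot _),
      MvPolynomial.ringKrullDim_of_isNoetherianRing, ringKrullDim_eq_zero_of_field, zero_add]
    have : Nat.card (Fin n × Fin m) = r * (m + n - r) := by
      rw [Nat.card_prod, Nat.card_fin, Nat.card_fin]
      rcases le_total n m with hnm | hnm
      · rw [heq, min_eq_left hnm, Nat.add_sub_cancel]
      · rw [heq, min_eq_right hnm, Nat.add_sub_cancel_left, Nat.mul_comm]
    rw [this]

end Generic

end Groth.Agent.Lib.Helper18.Plucker
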