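import Groth.Agent.Lib.Helper18.Plucker.Bottom
import Groth.Agent.Lib.Helper7.AffineDimFormula
import Groth.Agent.S11268

/-! # The Krull dimension of the cone over a Schubert variety -/

set_option autoImplicit false

namespace Groth.Agent.Lib.Helper18.Plucker

open W4bk4grassmannian MvPolynomial

universe u

variable {K : Type u} [Field K] {d n : ℕ}

/-- In an affine domain, a minimal prime over a nonzero principal ideal cuts the dimension by
exactly one. -/
theorem dim_eq_of_mem_minimalPrimes_span {k : Type u} {A : Type u} [Field k] [CommRing A]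
    [IsDomain A] [Algebra k A] [Algebra.FiniteType k A] (x : A) (hx : x ≠ 0) (Q : Ideal A)
    (hQ : Q ∈ (Ideal.span {x}).minimalPrimes) :
    ringKrullDim A = 1 + ringKrullDim (A ⧸ Q) := by
  haveI : Q.IsPrime := hQ.1.1
  haveI : IsNoetherianRing A := Algebra.FiniteType.isNoetherianRing k A
  have h1 : Q.height ≤ 1 := Ideal.height_le_one_of_isPrincipal_of_mem_minimalPrimes _ Q hQ
  have h2 : Q.height ≠ 0 := by
    rw [Ne, Ideal.height_eq_zero_iff_eq_bot]
    intro h
    have : x ∈ Q := hQ.1.2 (Ideal.subset_span rfl)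
    rw [h, Ideal.mem_bot] at this
    exact hx this
  have h3 : Q.height = 1 := le_antisymm h1 (ENat.one_le_iff_ne_zero.2 h2)
  have := Groth.Agent.Lib.Helper7.AffDim.height_add_dim_quotient (k := k) A Q
  rw [h3] at this
  rw [← this]
  rfl

theorem ringKrullDim_quotient_eq_zero_of_X_mem {σ : Type*} (Q' : Ideal (MvPolynomial σ K))
    [hQ : Q'.IsPrime] (h : ∀ i, (X i : MvPolynomial σ K) ∈ Q') :
    ringKrullDim (MvPolynomial σ K ⧸ Q') = 0 := by
  have hc : ∀ f : MvPolynomial σ K, ∃ c : K, f - C c ∈ Q' := by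
    intro f
    induction f using MvPolynomial.induction_on with
    | C a => exact ⟨a, by simp⟩
    | add p q hp hq =>
      obtain ⟨a, ha⟩ := hp
      obtain ⟨b, hb⟩ := hq
      refine ⟨a + b, ?_⟩
      have := Q'.add_mem ha hb
      rw [C_add]
      convert this using 1
      ring
    | mul_X p i hp =>
      exact ⟨0, by rw [C_0, sub_zero]; exact Q'.mul_mem_left _ (h i)⟩
  have hmax : Q'.IsMaximal := by
    rw [Ideal.isMaximal_iff]
    refine ⟨(Ideal.ne_top_iff_one Q').1 hQ.ne_top, fun J x hJ hxQ hxJ => ?_⟩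
    obtain ⟨c, hc⟩ := hc x
    have hcJ : C c ∈ J := by
      have := J.sub_mem hxJ (hJ hc)
      simpa using this
    have hc0 : c ≠ 0 := by
      rintro rfl
      rw [C_0, sub_zero] at hc
      exact hxQ hc
    have : (1 : MvPolynomial σ K) = C c⁻¹ * C c := by
      rw [← C_mul, inv_mul_cancel₀ hc0, C_1]
    rw [this]
    exact J.mul_mem_left _ hcJ
  exact ringKrullDim_eq_zero_of_isField ((Ideal.Quotient.maximal_ideal_iff_isField_quotient Q').1 hmax)

theorem zero_mem_cond (hd : 0 < d) (w : Idx d n) :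
    ∀ φ : Idx d n, ¬ φ ≤ w → ((0 : Matrix (Fin n) (Fin d) K).submatrix φ.1 id).det = 0 := by
  intro φ _
  haveI : Nonempty (Fin d) := ⟨⟨0, hd⟩⟩
  have : (0 : Matrix (Fin n) (Fin d) K).submatrix φ.1 id = 0 := rfl
  rw [this, Matrix.det_zero]

/-- The kernel of evaluation at the zero matrix: the irrelevant maximal ideal. -/
noncomputable def irr (K : Type u) [Field K] (d n : ℕ) : Ideal (PlRing K d n) :=
  RingHom.ker (evalMinors K d n 0).toRingHom

instance irr_isPrime : (irr K d n).IsPrime := RingHom.ker_isPrime _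

theorem schubertVanishing_le_irr (hd : 0 < d) (w : Idx d n) :
    schubertVanishing K d n w ≤ irr K d n := by
  unfold schubertVanishing irr
  exact iInf₂_le 0 (zero_mem_cond hd w)

theorem X_mem_irr (hd : 0 < d) (w : Idx d n) : (X w : PlRing K d n) ∈ irr K d n := by
  unfold irr
  rw [RingHom.mem_ker]
  haveI : Nonempty (Fin d) := ⟨⟨0, hd⟩⟩
  have : (0 : Matrix (Fin n) (Fin d) K).submatrix w.1 id = 0 := rfl
  simp only [AlgHom.toRingHom_eq_coe, RingHom.coe_coe, evalMinors, aeval_X]
  rw [this, Matrix.det_zero]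

/-- The lib form of S11254. -/
theorem sup_span_eq_iInf_divisors [Infinite K] (hd : 0 < d) (τ : Idx d n)
    (hτ : ∃ φ : Idx d n, φ < τ) :
    schubertVanishing K d n τ ⊔ Ideal.span {(X τ : PlRing K d n)} =
      ⨅ φ : {φ : Idx d n // φ ∈ divisors τ}, schubertVanishing K d n φ.1 := by
  obtain ⟨φ₀, hφ₀⟩ := hτ
  obtain ⟨ψ₀, hψ₀, -⟩ := Groth.Agent.S11268.result d n φ₀ τ hφ₀
  have hI : plIdealTop (d := d) (n := n) K ≤
      schubertVanishing K d n τ ⊔ Ideal.span {(X τ : PlRing K d n)} :=
    (plIdealTop_le_schubertVanishing τ).trans le_sup_left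
  have hIJ : schubertVanishing K d n τ ⊔ Ideal.span {(X τ : PlRing K d n)} ≤
      ⨅ φ : {φ : Idx d n // φ ∈ divisors τ}, schubertVanishing K d n φ.1 := by
    refine le_iInf fun φ => sup_le ?_ ?_
    · exact schubertVanishing_anti (le_of_lt φ.2.1)
    · rw [Ideal.span_le, Set.singleton_subset_iff]
      exact X_mem_schubertVanishing φ.1 τ (not_le_of_gt φ.2.1)
  refine eq_of_std _ _ hI hIJ
    (fun c => ∃ φ : {φ : Idx d n // φ ∈ divisors τ}, ∀ k, c.2.1 k ≤ φ.1) ?_ ?_
  · rintro ⟨m, c, hc⟩ hp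
    simp only at hp ⊢
    by_cases h1 : ∀ k, c k ≤ τ
    · by_cases h2 : ∃ k, c k = τ
      · obtain ⟨k, hk⟩ := h2
        refine chainMon_mem_of_X_mem _ _ k ?_
        rw [hk]
        exact Ideal.mem_sup_right (Ideal.subset_span rfl)
      · exfalso
        apply hp
        rcases Nat.eq_zero_or_pos m with hm | hm
        · subst hm
          exact ⟨⟨ψ₀, hψ₀⟩, fun k => k.elim0⟩
        · have hlt : c ⟨0, hm⟩ < τ := lt_of_le_of_ne (h1 _) (fun h => h2 ⟨_, h⟩)
          obtain ⟨ψ, hψ, hle⟩ := Groth.Agent.S11268.result d n _ τ hlt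
          exact ⟨⟨ψ, hψ⟩, fun k =>
            (hc (show (⟨0, hm⟩ : Fin m) ≤ k from Nat.zero_le _)).trans hle⟩
    · obtain ⟨k, hk⟩ := not_forall.1 h1
      refine chainMon_mem_of_X_mem _ _ k ?_
      exact Ideal.mem_sup_left (X_mem_schubertVanishing τ _ hk)
  · exact std_indep' (K := K) hd
      (fun φ : {φ : Idx d n // φ ∈ divisors τ} => φ.1)
      (fun c : {c : Chain d n //
        ∃ φ : {φ : Idx d n // φ ∈ divisors τ}, ∀ k, c.2.1 k ≤ φ.1} => c.1)
      Subtype.val_injective (fun c => c.2)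

theorem codeg_eq_zero_of_isMin (w : Idx d n) (h : ¬ ∃ φ : Idx d n, φ < w) : codeg w = 0 := by
  let ι : Idx d n := ⟨fun t => ⟨t.val, lt_of_le_of_lt (val_le_apply w.1 w.2 t) (w.1 t).isLt⟩,
    fun a b hab => hab⟩
  have hιw : ι ≤ w := fun t => val_le_apply w.1 w.2 t
  have hw : ι = w := by
    by_contra hne
    exact h ⟨ι, lt_of_le_of_ne hιw hne⟩
  unfold codeg
  refine Finset.sum_eq_zero fun t _ => ?_
  rw [← hw]
  simp [ι]

theorem dim_step [Infinite K] (hd : 0 < d) (w : Idx d n)
    (ih : ∀ φ : Idx d n, codeg φ + 1 = codeg w →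
      ringKrullDim (PlRing K d n ⧸ schubertVanishing K d n φ) =
        ((codeg φ + 1 : ℕ) : WithBot ℕ∞)) :
    ringKrullDim (PlRing K d n ⧸ schubertVanishing K d n w) =
      ((codeg w + 1 : ℕ) : WithBot ℕ∞) := by
  classical
  haveI hJp := schubertVanishing_isPrime (K := K) hd w
  haveI : Algebra.FiniteType K (PlRing K d n ⧸ schubertVanishing K d n w) :=
    Algebra.FiniteType.of_surjective (Ideal.Quotient.mkₐ K (schubertVanishing K d n w))
      (Ideal.Quotient.mkₐ_surjective K _)
  have hx : Ideal.Quotient.mk (schubertVanishing K d n w) (X w : PlRing K d n) ≠ 0 := by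
    intro h
    exact X_notMem_schubertVanishing hd w w le_rfl (Ideal.Quotient.eq_zero_iff_mem.1 h)
  -- a prime containing `x`
  haveI hPprime : ((irr K d n).map (Ideal.Quotient.mk (schubertVanishing K d n w))).IsPrime :=
    Ideal.map_isPrime_of_surjective Ideal.Quotient.mk_surjective
      (by rw [Ideal.mk_ker]; exact schubertVanishing_le_irr hd w)
  have hxP : Ideal.span {Ideal.Quotient.mk (schubertVanishing K d n w) (X w : PlRing K d n)} ≤
      (irr K d n).map (Ideal.Quotient.mk (schubertVanishing K d n w)) := by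
    rw [Ideal.span_le, Set.singleton_subset_iff]
    exact Ideal.mem_map_of_mem _ (X_mem_irr hd w)
  obtain ⟨Q, hQ, -⟩ := Ideal.exists_minimalPrimes_le hxP
  haveI hQprime : Q.IsPrime := hQ.1.1
  have hdim := dim_eq_of_mem_minimalPrimes_span (k := K) _ hx Q hQ
  set Q' : Ideal (PlRing K d n) := Q.comap (Ideal.Quotient.mk (schubertVanishing K d n w))
    with hQ'
  haveI hQ'prime : Q'.IsPrime := Ideal.comap_isPrime _ _
  have hJQ' : schubertVanishing K d n w ≤ Q' := by
    intro f hf
    rw [hQ', Ideal.mem_comap, Ideal.Quotient.eq_zero_iff_mem.2 hf]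
    exact Q.zero_mem
  have hXQ' : (X w : PlRing K d n) ∈ Q' := by
    rw [hQ', Ideal.mem_comap]
    exact hQ.1.2 (Ideal.subset_span rfl)
  have hQQ' : Q'.map (Ideal.Quotient.mk (schubertVanishing K d n w)) = Q :=
    Ideal.map_comap_of_surjective _ Ideal.Quotient.mk_surjective Q
  have hdim2 : ringKrullDim ((PlRing K d n ⧸ schubertVanishing K d n w) ⧸ Q) =
      ringKrullDim (PlRing K d n ⧸ Q') := by
    rw [← hQQ']
    exact ringKrullDim_eq_of_ringEquiv (DoubleQuot.quotQuotEquivQuotOfLE hJQ')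
  rw [hdim, hdim2]
  by_cases hτ : ∃ φ : Idx d n, φ < w
  · have hsup := sup_span_eq_iInf_divisors (K := K) hd w hτ
    have hle : (⨅ φ : {φ : Idx d n // φ ∈ divisors w}, schubertVanishing K d n φ.1) ≤ Q' := by
      rw [← hsup]
      refine sup_le hJQ' ?_
      rw [Ideal.span_le, Set.singleton_subset_iff]
      exact hXQ'
    letI : Fintype {φ : Idx d n // φ ∈ divisors w} := Fintype.ofFinite _
    rw [← Finset.inf_univ_eq_iInf] at hle
    obtain ⟨φ₀, -, hφ₀⟩ := hQ'prime.inf_le'.1 hle
    haveI hφp := schubertVanishing_isPrime (K := K) hd φ₀.1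
    have hJle : schubertVanishing K d n w ≤ schubertVanishing K d n φ₀.1 :=
      schubertVanishing_anti (le_of_lt φ₀.2.1)
    haveI hP₀ : ((schubertVanishing K d n φ₀.1).map
        (Ideal.Quotient.mk (schubertVanishing K d n w))).IsPrime :=
      Ideal.map_isPrime_of_surjective Ideal.Quotient.mk_surjective
        (by rw [Ideal.mk_ker]; exact hJle)
    have hP₀Q : (schubertVanishing K d n φ₀.1).map
        (Ideal.Quotient.mk (schubertVanishing K d n w)) ≤ Q := by
      rw [← hQQ']
      exact Ideal.map_mono hφ₀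
    have hxP₀ : Ideal.span {Ideal.Quotient.mk (schubertVanishing K d n w)
        (X w : PlRing K d n)} ≤ (schubertVanishing K d n φ₀.1).map
        (Ideal.Quotient.mk (schubertVanishing K d n w)) := by
      rw [Ideal.span_le, Set.singleton_subset_iff]
      exact Ideal.mem_map_of_mem _ (X_mem_schubertVanishing φ₀.1 w (not_le_of_gt φ₀.2.1))
    have hQP₀ : Q ≤ (schubertVanishing K d n φ₀.1).map
        (Ideal.Quotient.mk (schubertVanishing K d n w)) := hQ.2 ⟨hP₀, hxP₀⟩ hP₀Q
    have hQeq : Q' = schubertVanishing K d n φ₀.1 := by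
      rw [hQ', le_antisymm hQP₀ hP₀Q,
        Ideal.comap_map_of_surjective _ Ideal.Quotient.mk_surjective,
        ← RingHom.ker_eq_comap_bot, Ideal.mk_ker, sup_eq_left]
      exact hJle
    rw [hQeq, ih φ₀.1 φ₀.2.2, ← φ₀.2.2]
    push_cast
    rw [add_comm]
  · have hall : ∀ φ : Idx d n, (X φ : PlRing K d n) ∈ Q' := by
      intro φ
      by_cases hφw : φ = w
      · rw [hφw]; exact hXQ'
      · refine hJQ' (X_mem_schubertVanishing w φ ?_)
        intro hle
        exact hτ ⟨φ, lt_of_le_of_ne hle hφw⟩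
    rw [ringKrullDim_quotient_eq_zero_of_X_mem Q' hall, codeg_eq_zero_of_isMin w hτ]
    simp

theorem ringKrullDim_schubert [Infinite K] (hd : 0 < d) (w : Idx d n) :
    ringKrullDim (PlRing K d n ⧸ schubertVanishing K d n w) =
      ((codeg w + 1 : ℕ) : WithBot ℕ∞) := by
  induction' h : codeg w using Nat.strong_induction_on with N ih generalizing w
  subst h
  exact dim_step hd w (fun φ hφ => ih (codeg φ) (by omega) φ rfl)

end Groth.Agent.Lib.Helper18.Plucker
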