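import Groth.Agent.Lib.Helper18.Plucker.UFD

/-! # Combinatorics of Schubert divisors: at most one divisor iff a single run -/

set_option autoImplicit false

namespace Groth.Agent.Lib.Helper18.Plucker

open W4bk4grassmannian

variable {d n : ℕ}

/-- Decrease the entry `t` by one. -/
def decr (τ : Idx d n) (t : Fin d) (h1 : 0 < (τ.1 t).val)
    (h2 : ∀ t' : Fin d, t'.val + 1 = t.val → (τ.1 t').val + 1 < (τ.1 t).val) : Idx d n :=
  ⟨fun s => if s = t then ⟨(τ.1 t).val - 1, by have := (τ.1 t).isLt; omega⟩ else τ.1 s, by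
    intro a b hab
    by_cases ha : a = t
    · subst ha
      have hb : b ≠ a := ne_of_gt hab
      beta_reduce
      rw [if_pos rfl, if_neg hb]
      have := τ.2 hab
      rw [Fin.lt_def] at this ⊢
      simp only
      omega
    · by_cases hb : b = t
      · subst hb
        beta_reduce
        rw [if_neg ha, if_pos rfl]
        have hab' : a.val < b.val := hab
        have hb1 : 0 < b.val := lt_of_le_of_lt (Nat.zero_le _) hab'
        have ht' : b.val - 1 < d := by have := b.isLt; omega
        have h3 := h2 ⟨b.val - 1, ht'⟩ (by simp only; omega)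
        have h4 : τ.1 a ≤ τ.1 ⟨b.val - 1, ht'⟩ :=
          τ.2.monotone (by rw [Fin.le_def]; simp only; omega)
        rw [Fin.lt_def]
        rw [Fin.le_def] at h4
        simp only at h3 ⊢
        omega
      · beta_reduce
        rw [if_neg ha, if_neg hb]
        exact τ.2 hab⟩

theorem decr_apply_self (τ : Idx d n) (t : Fin d) (h1 h2) :
    ((decr τ t h1 h2).1 t).val = (τ.1 t).val - 1 := by
  simp [decr]

theorem decr_apply_ne (τ : Idx d n) (t : Fin d) (h1 h2) (s : Fin d) (hs : s ≠ t) :
    (decr τ t h1 h2).1 s = τ.1 s := by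
  simp [decr, hs]

theorem decr_mem_divisors (τ : Idx d n) (t : Fin d) (h1 h2) :
    decr τ t h1 h2 ∈ divisors τ := by
  have hle : decr τ t h1 h2 ≤ τ := by
    intro s
    by_cases hs : s = t
    · subst hs
      rw [Fin.le_def, decr_apply_self]
      omega
    · rw [decr_apply_ne _ _ _ _ _ hs]
  have hne : decr τ t h1 h2 ≠ τ := by
    intro h
    have := congrArg (fun φ : Idx d n => (φ.1 t).val) h
    simp only [decr_apply_self] at this
    omega
  refine ⟨lt_of_le_of_ne hle hne, ?_⟩
  have hs : sumVal (decr τ t h1 h2) + 1 = sumVal τ := by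
    unfold sumVal
    rw [← Finset.add_sum_erase _ _ (Finset.mem_univ t),
      ← Finset.add_sum_erase (f := fun s => ((τ.1 s : Fin n) : ℕ)) _ (Finset.mem_univ t),
      decr_apply_self]
    have : ∑ x ∈ Finset.univ.erase t, (((decr τ t h1 h2).1 x : Fin n) : ℕ) =
        ∑ x ∈ Finset.univ.erase t, ((τ.1 x : Fin n) : ℕ) := by
      refine Finset.sum_congr rfl fun x hx => ?_
      rw [decr_apply_ne _ _ _ _ _ (Finset.ne_of_mem_erase hx)]
    rw [this]
    omega
  have e1 := codeg_add (decr τ t h1 h2)
  have e2 := codeg_add τ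
  omega

theorem exists_pos_of_mem_divisors {τ φ : Idx d n} (h : φ ∈ divisors τ) :
    ∃ a : Fin d, (φ.1 a).val + 1 = (τ.1 a).val ∧ ∀ s, s ≠ a → φ.1 s = τ.1 s := by
  have hle : φ ≤ τ := h.1.le
  have hne : φ ≠ τ := h.1.ne
  have hex : ∃ a, φ.1 a < τ.1 a := by
    by_contra hcon
    push_neg at hcon
    exact hne (Subtype.ext (funext fun t => le_antisymm (hle t) (hcon t)))
  obtain ⟨a, ha⟩ := hex
  have hs := sumVal_of_mem_divisors h
  unfold sumVal at hs
  rw [← Finset.add_sum_erase _ _ (Finset.mem_univ a),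
    ← Finset.add_sum_erase (f := fun s => ((τ.1 s : Fin n) : ℕ)) _ (Finset.mem_univ a)] at hs
  have hle' : ∑ x ∈ Finset.univ.erase a, ((φ.1 x : Fin n) : ℕ) ≤
      ∑ x ∈ Finset.univ.erase a, ((τ.1 x : Fin n) : ℕ) :=
    Finset.sum_le_sum fun x _ => hle x
  have ha' : (φ.1 a).val < (τ.1 a).val := ha
  refine ⟨a, by omega, ?_⟩
  have heq : ∑ x ∈ Finset.univ.erase a, ((φ.1 x : Fin n) : ℕ) =
      ∑ x ∈ Finset.univ.erase a, ((τ.1 x : Fin n) : ℕ) := by omega
  have := (Finset.sum_eq_sum_iff_of_le (f := fun x => ((φ.1 x : Fin n) : ℕ))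
    (g := fun x => ((τ.1 x : Fin n) : ℕ)) (s := Finset.univ.erase a)
    (fun x _ => (hle x : (φ.1 x).val ≤ (τ.1 x).val))).1 heq
  intro s hs'
  exact Fin.ext (this s (Finset.mem_erase.2 ⟨hs', Finset.mem_univ _⟩))

theorem subsingleton_divisors_iff (τ : Idx d n) :
    (divisors τ).Subsingleton ↔
      ∃ s : ℕ, (∀ t : Fin d, t.val < s → (τ.1 t).val = t.val) ∧
        ∀ t t' : Fin d, s ≤ t.val → t.val + 1 = t'.val → (τ.1 t).val + 1 = (τ.1 t').val := by
  classical
  constructor
  · intro hsub
    by_cases hall : ∀ t : Fin d, (τ.1 t).val = t.val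
    · refine ⟨d, fun t _ => hall t, fun t t' ht _ => ?_⟩
      have := t.isLt
      omega
    · push_neg at hall
      have hS : (Finset.univ.filter fun t : Fin d => (τ.1 t).val ≠ t.val).Nonempty := by
        obtain ⟨t, ht⟩ := hall
        exact ⟨t, Finset.mem_filter.2 ⟨Finset.mem_univ _, ht⟩⟩
      set t₀ := (Finset.univ.filter fun t : Fin d => (τ.1 t).val ≠ t.val).min' hS with ht₀
      have ht₀S : (τ.1 t₀).val ≠ t₀.val :=
        (Finset.mem_filter.1 (Finset.min'_mem _ hS)).2
      have hmin : ∀ t : Fin d, (τ.1 t).val ≠ t.val → t₀ ≤ t := fun t ht =>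
        Finset.min'_le _ t (Finset.mem_filter.2 ⟨Finset.mem_univ _, ht⟩)
      have hfirst : ∀ t : Fin d, t.val < t₀.val → (τ.1 t).val = t.val := by
        intro t ht
        by_contra hne
        have := hmin t hne
        rw [Fin.le_def] at this
        omega
      have hge := val_le_apply τ.1 τ.2 t₀
      have h1 : 0 < (τ.1 t₀).val := by omega
      have h2 : ∀ t' : Fin d, t'.val + 1 = t₀.val → (τ.1 t').val + 1 < (τ.1 t₀).val := by
        intro t' ht'
        rw [hfirst t' (by omega)]
        omega
      refine ⟨t₀.val, hfirst, fun t t' ht htt' => ?_⟩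
      by_contra hne
      have hlt : (τ.1 t).val < (τ.1 t').val := τ.2 (by rw [Fin.lt_def]; omega)
      have h1' : 0 < (τ.1 t').val := by omega
      have h2' : ∀ t'' : Fin d, t''.val + 1 = t'.val → (τ.1 t'').val + 1 < (τ.1 t').val := by
        intro t'' ht''
        have : t'' = t := Fin.ext (by omega)
        rw [this]
        omega
      have heq := hsub (decr_mem_divisors τ t₀ h1 h2) (decr_mem_divisors τ t' h1' h2')
      have hne' : t₀ ≠ t' := by
        intro h
        rw [h] at ht
        omega
      have := congrArg (fun φ : Idx d n => (φ.1 t₀).val) heq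
      simp only [decr_apply_self] at this
      rw [decr_apply_ne _ _ _ _ _ hne'] at this
      omega
  · rintro ⟨s, hs1, hs2⟩ φ hφ ψ hψ
    have hpos : ∀ {θ : Idx d n}, θ ∈ divisors τ → ∀ a : Fin d,
        (θ.1 a).val + 1 = (τ.1 a).val → (∀ s', s' ≠ a → θ.1 s' = τ.1 s') → a.val = s := by
      intro θ _ a ha hrest
      by_contra hne
      rcases Nat.lt_or_gt_of_ne hne with hlt | hgt
      · have h3 := hs1 a hlt
        rcases Nat.eq_zero_or_pos a.val with h0 | hpos
        · omega
        · have ha' : a.val - 1 < d := by have := a.isLt; omega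
          have h4 := hs1 ⟨a.val - 1, ha'⟩ (by simp only; omega)
          have h5 : (⟨a.val - 1, ha'⟩ : Fin d) ≠ a := by
            intro h
            have := congrArg Fin.val h
            simp only at this
            omega
          have h6 := hrest _ h5
          have h7 : θ.1 ⟨a.val - 1, ha'⟩ < θ.1 a := θ.2 (by rw [Fin.lt_def]; simp only; omega)
          rw [h6, Fin.lt_def] at h7
          simp only at h4
          omega
      · have ha' : a.val - 1 < d := by have := a.isLt; omega
        have h4 := hs2 ⟨a.val - 1, ha'⟩ a (by simp only; omega) (by simp only; omega)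
        have h5 : (⟨a.val - 1, ha'⟩ : Fin d) ≠ a := by
          intro h
          have := congrArg Fin.val h
          simp only at this
          omega
        have h6 := hrest _ h5
        have h7 : θ.1 ⟨a.val - 1, ha'⟩ < θ.1 a := θ.2 (by rw [Fin.lt_def]; simp only; omega)
        rw [h6, Fin.lt_def] at h7
        omega
    obtain ⟨a, ha, harest⟩ := exists_pos_of_mem_divisors hφ
    obtain ⟨b, hb, hbrest⟩ := exists_pos_of_mem_divisors hψ
    have hab : a = b := Fin.ext (by rw [hpos hφ a ha harest, hpos hψ b hb hbrest])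
    subst hab
    apply Subtype.ext
    funext t
    by_cases ht : t = a
    · subst ht
      exact Fin.ext (by omega)
    · rw [harest t ht, hbrest t ht]

end Groth.Agent.Lib.Helper18.Plucker
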