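import Groth.Agent.Lib.Helper18.Plucker.ShufVanish

/-! # The shuffle relations lie in the vanishing ideals -/

set_option autoImplicit false

namespace Groth.Agent.Lib.Helper18.Plucker

open W4bk4grassmannian Equiv

variable {K : Type*} [Field K] {d n : ℕ}

theorem evalMinors_apply (M : Matrix (Fin n) (Fin d) K) (f : PlRing K d n) :
    evalMinors K d n M f = MvPolynomial.eval (fun θ : Idx d n => (M.submatrix θ.1 id).det) f := by
  unfold evalMinors
  rw [MvPolynomial.aeval_def, MvPolynomial.eval, MvPolynomial.eval₂Hom]
  rfl

theorem evalMinors_coord (M : Matrix (Fin n) (Fin d) K) (a : Fin d → Fin n) :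
    evalMinors K d n M (coord K d n a) = (M.submatrix a id).det := by
  rw [evalMinors_apply, eval_coord]
  have hext : altExt (fun θ : Idx d n => (M.submatrix θ.1 id).det) =
      fun a : Fin d → Fin n => (M.submatrix a id).det := by
    refine IsAlt.ext (isAlt_altExt _) (isAlt_minor M) fun a ha => ?_
    exact altExt_of_strictMono _ ⟨a, ha⟩
  rw [hext]

theorem evalMinors_shuffleRel (M : Matrix (Fin n) (Fin d) K) (i j : Idx d n) (r : Fin d) :
    evalMinors K d n M (shuffleRel K i j r) = 0 := by
  have h0 := Psi_eq_zero r (fun t => M (i.1 t)) (fun t => M (j.1 t))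
    (fun a => M (movingRows i j r a))
  rw [← h0]
  unfold shuffleRel Psi
  rw [map_sum]
  refine Finset.sum_congr rfl fun A _ => ?_
  unfold shuffleTerm sterm
  split_ifs with hA
  · rw [map_mul, map_mul, evalMinors_coord, evalMinors_coord, map_pow, map_neg, map_one]
    have hI : (M.submatrix (shuffleI i j r A hA) id) =
        (RI r (fun t => M (i.1 t)) (fun a => M (movingRows i j r a)) A hA :
          Matrix (Fin d) (Fin d) K) := by
      ext t c
      simp only [Matrix.submatrix_apply, id, shuffleI, RI]
      split_ifs <;> rfl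
    have hJ : (M.submatrix (shuffleJ i j r A hA) id) =
        (RJ r (fun t => M (j.1 t)) (fun a => M (movingRows i j r a)) A
          (card_compl_of_card r hA) : Matrix (Fin d) (Fin d) K) := by
      ext t c
      simp only [Matrix.submatrix_apply, id, shuffleJ, RJ]
      split_ifs <;> rfl
    rw [hI, hJ]
  · rw [map_zero]

theorem plIdealTop_le_vanishing : plIdealTop (d := d) (n := n) K ≤ vanishing K d n := by
  unfold plIdealTop
  rw [Ideal.span_le]
  rintro f ⟨i, j, r, -, rfl⟩
  unfold vanishing
  simp only [SetLike.mem_coe, Ideal.mem_iInf, RingHom.mem_ker]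
  intro M
  exact evalMinors_shuffleRel M i j r

theorem vanishing_le_schubertVanishing (τ : Idx d n) :
    vanishing K d n ≤ schubertVanishing K d n τ := by
  unfold vanishing schubertVanishing
  exact le_iInf fun M => le_iInf fun _ => iInf_le _ M

theorem X_mem_schubertVanishing (τ φ : Idx d n) (h : ¬ φ ≤ τ) :
    (MvPolynomial.X φ : PlRing K d n) ∈ schubertVanishing K d n τ := by
  unfold schubertVanishing
  simp only [Ideal.mem_iInf, RingHom.mem_ker]
  intro M hM
  show evalMinors K d n M (MvPolynomial.X φ) = 0
  rw [evalMinors_apply, MvPolynomial.eval_X]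
  exact hM φ h

end Groth.Agent.Lib.Helper18.Plucker
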