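import Groth.Agent.Lib.Helper18.Plucker.GenMat
import Groth.Agent.Lib.Helper18.Plucker.ShufRel

/-! # Polynomials vanishing on a Schubert variety vanish at the generic matrix of that shape -/

set_option autoImplicit false

namespace Groth.Agent.Lib.Helper18.Plucker

open W4bk4grassmannian Equiv MvPolynomial

variable {K : Type*} [Field K] {d n : ℕ}

/-- A matrix of shape `τ` has vanishing minors on the rows `φ ≰ τ`. -/
theorem minor_eq_zero_of_shape {R : Type*} [CommRing R] (τ φ : Idx d n)
    (E : Matrix (Fin n) (Fin d) R) (hE : ∀ x t, τ.1 t < x → E x t = 0) (h : ¬ φ ≤ τ) :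
    (E.submatrix φ.1 id).det = 0 := by
  rw [Matrix.det_apply]
  refine Finset.sum_eq_zero fun σ _ => ?_
  have hex : ∃ s, τ.1 s < φ.1 (σ s) := by
    by_contra hcon
    push_neg at hcon
    apply h
    intro s₀
    -- pigeonhole: some `s ≤ s₀` has `σ s ≥ s₀`
    have hcard : (Finset.univ.filter fun s : Fin d => s₀ < s).card <
        (Finset.univ.filter fun s : Fin d => s₀ ≤ σ s).card := by
      have h1 : (Finset.univ.filter fun s : Fin d => s₀ ≤ σ s).card =
          (Finset.univ.filter fun s : Fin d => s₀ ≤ s).card := by
        rw [← Finset.card_map σ.toEmbedding]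
        congr 1
        ext s
        simp only [Finset.mem_map, Finset.mem_filter, Finset.mem_univ, true_and,
          Equiv.coe_toEmbedding]
        constructor
        · rintro ⟨u, hu, rfl⟩; exact hu
        · intro hs; exact ⟨σ.symm s, by simpa using hs, by simp⟩
      rw [h1]
      apply Finset.card_lt_card
      rw [Finset.ssubset_iff_of_subset]
      · exact ⟨s₀, by simp, by simp⟩
      · intro s hs
        simp only [Finset.mem_filter, Finset.mem_univ, true_and] at hs ⊢
        exact hs.le
    obtain ⟨s, hs1, hs2⟩ := Finset.exists_mem_notMem_of_card_lt_card hcard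
    simp only [Finset.mem_filter, Finset.mem_univ, true_and, not_lt] at hs1 hs2
    calc φ.1 s₀ ≤ φ.1 (σ s) := φ.2.monotone hs1
      _ ≤ τ.1 s := hcon s
      _ ≤ τ.1 s₀ := τ.2.monotone hs2
  obtain ⟨s, hs⟩ := hex
  have : ∏ i, (E.submatrix φ.1 id) (σ i) i = 0 := by
    refine Finset.prod_eq_zero (Finset.mem_univ s) ?_
    simp only [Matrix.submatrix_apply, id]
    exact hE _ _ hs
  rw [this, smul_zero]

/-- The truncation of a point of matrix space to the shape `τ`. -/
def trunc (τ : Idx d n) (E : Fin n × Fin d → K) : Matrix (Fin n) (Fin d) K :=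
  Matrix.of fun x t => if x ≤ τ.1 t then E (x, t) else 0

theorem eval_evalGen (τ : Idx d n) (E : Fin n × Fin d → K) (f : PlRing K d n) :
    MvPolynomial.eval E (evalGen τ f) = evalMinors K d n (trunc τ E) f := by
  have : (MvPolynomial.eval E : MatRing K d n →+* K).comp (evalGen (K := K) τ).toRingHom =
      (evalMinors K d n (trunc τ E)).toRingHom := by
    apply MvPolynomial.ringHom_ext
    · intro c
      simp [evalGen, evalMinors]
    · intro θ
      simp only [RingHom.comp_apply, AlgHom.toRingHom_eq_coe, RingHom.coe_coe, evalGen,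
        evalMinors, aeval_X]
      rw [RingHom.map_det]
      congr 1
      ext s t
      simp only [RingHom.mapMatrix_apply, Matrix.map_apply, Matrix.submatrix_apply, id, gen,
        trunc, Matrix.of_apply]
      split_ifs <;> simp
  exact congrFun (congrArg DFunLike.coe this) f

theorem evalGen_eq_zero_of_mem [Infinite K] (τ : Idx d n) (f : PlRing K d n)
    (hf : f ∈ schubertVanishing K d n τ) : evalGen τ f = 0 := by
  apply MvPolynomial.funext
  intro E
  rw [eval_evalGen, map_zero]
  unfold schubertVanishing at hf
  simp only [Ideal.mem_iInf, RingHom.mem_ker] at hf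
  refine hf (trunc τ E) fun φ hφ => ?_
  refine minor_eq_zero_of_shape τ φ _ ?_ hφ
  intro x t hxt
  simp only [trunc, Matrix.of_apply, if_neg (not_le.2 hxt)]

end Groth.Agent.Lib.Helper18.Plucker
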