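import Groth.Agent.Lib.Helper18.Plucker.DivComb

/-! # First fundamental theorem for `SL_d`: evaluation at matrices and the determinant identity -/

set_option autoImplicit false

namespace Groth.Agent.Lib.Helper18.Plucker

open W4bk4grassmannian MvPolynomial Equiv

universe u

variable {K : Type u} [Field K] {d n : ℕ}

/-- Evaluation of polynomial functions of `n × d` matrices at a matrix over a `K`-algebra. -/
noncomputable def evalMat {T : Type*} [CommRing T] [Algebra K T] (M : Matrix (Fin n) (Fin d) T) :
    MatRing K d n →ₐ[K] T :=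
  aeval fun p : Fin n × Fin d => M p.1 p.2

theorem evalMat_X {T : Type*} [CommRing T] [Algebra K T] (M : Matrix (Fin n) (Fin d) T)
    (p : Fin n × Fin d) : evalMat (K := K) M (X p) = M p.1 p.2 := by
  unfold evalMat
  rw [aeval_X]

theorem evalMat_comp {T T' : Type*} [CommRing T] [Algebra K T] [CommRing T'] [Algebra K T']
    (φ : T →ₐ[K] T') (M : Matrix (Fin n) (Fin d) T) (f : MatRing K d n) :
    φ (evalMat M f) = evalMat (M.map φ) f := by
  have : φ.comp (evalMat (K := K) M) = evalMat (M.map φ) := by
    apply MvPolynomial.algHom_ext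
    intro p
    rw [AlgHom.comp_apply, evalMat_X, evalMat_X, Matrix.map_apply]
  exact congrFun (congrArg DFunLike.coe this) f

/-- The generic `n × d` matrix. -/
noncomputable def genX (K : Type u) [Field K] (d n : ℕ) : Matrix (Fin n) (Fin d) (MatRing K d n) :=
  Matrix.of fun i t => X (i, t)

theorem evalMat_genX (f : MatRing K d n) : evalMat (genX K d n) f = f := by
  have : evalMat (K := K) (genX K d n) = AlgHom.id K _ := by
    apply MvPolynomial.algHom_ext
    intro p
    rw [evalMat_X]
    rfl
  rw [this]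
  rfl

theorem genX_map {T : Type*} [CommRing T] [Algebra K T] (M : Matrix (Fin n) (Fin d) T) :
    (genX K d n).map (evalMat (K := K) M) = M := by
  ext i t
  rw [Matrix.map_apply]
  exact evalMat_X M (i, t)

theorem rightTranslate_eq (g : Matrix.SpecialLinearGroup (Fin d) K) (f : MatRing K d n) :
    rightTranslate K d n g f =
      evalMat (genX K d n * (g : Matrix (Fin d) (Fin d) K).map (C : K →+* MatRing K d n)) f := by
  have : rightTranslate K d n g = evalMat (K := K)
      (genX K d n * (g : Matrix (Fin d) (Fin d) K).map (C : K →+* MatRing K d n)) := by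
    apply MvPolynomial.algHom_ext
    intro p
    rw [evalMat_X]
    unfold rightTranslate
    rw [aeval_X, Matrix.mul_apply]
    rfl
  rw [this]

/-- Invariance under `SL_d(K)` at `K`-points. -/
theorem evalMat_mul_SL (f : MatRing K d n)
    (hf : ∀ g : Matrix.SpecialLinearGroup (Fin d) K, rightTranslate K d n g f = f)
    (A₀ : Matrix (Fin n) (Fin d) K) (g : Matrix.SpecialLinearGroup (Fin d) K) :
    evalMat (A₀ * (g : Matrix (Fin d) (Fin d) K)) f = evalMat A₀ f := by
  have h1 := congrArg (evalMat (K := K) A₀) (hf g)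
  rw [rightTranslate_eq, evalMat_comp] at h1
  have hM : (genX K d n * (g : Matrix (Fin d) (Fin d) K).map (C : K →+* MatRing K d n)).map
      (evalMat (K := K) A₀) = A₀ * (g : Matrix (Fin d) (Fin d) K) := by
    rw [Matrix.map_mul, genX_map]
    congr 1
    ext s t
    rw [Matrix.map_apply, Matrix.map_apply]
    unfold evalMat
    rw [aeval_C]
    rfl
  rw [hM] at h1
  exact h1

/-- The column scaling vector `(c, 1, …, 1)` over a ring. -/
noncomputable def colT {T : Type*} [CommRing T] (hd : 0 < d) (c : T) : Fin d → T :=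
  fun t => if t = ⟨0, hd⟩ then c else 1

theorem prod_colT {T : Type*} [CommRing T] (hd : 0 < d) (c : T) : ∏ t, colT hd c t = c := by
  unfold colT
  rw [Finset.prod_ite_eq' Finset.univ (⟨0, hd⟩ : Fin d) (fun _ => c)]
  simp

theorem colT_one {T : Type*} [CommRing T] (hd : 0 < d) : colT hd (1 : T) = fun _ => 1 := by
  funext t
  unfold colT
  split_ifs <;> rfl

theorem colT_map {T T' : Type*} [CommRing T] [CommRing T'] (hd : 0 < d) (φ : T → T')
    (h1 : φ 1 = 1) (c : T) :
    (fun t => φ (colT hd c t)) = colT hd (φ c) := by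
  funext t
  unfold colT
  split_ifs
  · rfl
  · exact h1

/-- The determinant identity at `K`-points. -/
theorem star_points (hd : 0 < d) (f : MatRing K d n)
    (hf : ∀ g : Matrix.SpecialLinearGroup (Fin d) K, rightTranslate K d n g f = f)
    (A₀ : Matrix (Fin n) (Fin d) K) (G₀ : Matrix (Fin d) (Fin d) K) (hG : G₀.det ≠ 0) :
    evalMat (A₀ * G₀) f = evalMat (A₀ * Matrix.diagonal (colT hd G₀.det)) f := by
  set D₀ : Matrix (Fin d) (Fin d) K := Matrix.diagonal (colT hd G₀.det) with hD₀
  have hDdet : D₀.det = G₀.det := by rw [hD₀, Matrix.det_diagonal, prod_colT]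
  have hDu : IsUnit D₀.det := by rw [hDdet]; exact isUnit_iff_ne_zero.2 hG
  set g₀ : Matrix (Fin d) (Fin d) K := D₀⁻¹ * G₀ with hg₀
  have hgdet : g₀.det = 1 := by
    rw [hg₀, Matrix.det_mul, Matrix.det_nonsing_inv, Ring.inverse_eq_inv', hDdet,
      inv_mul_cancel₀ hG]
  have hmul : A₀ * G₀ = (A₀ * D₀) * g₀ := by
    rw [hg₀, Matrix.mul_assoc, ← Matrix.mul_assoc D₀, Matrix.mul_nonsing_inv _ hDu, Matrix.one_mul]
  rw [hmul]
  exact evalMat_mul_SL f hf (A₀ * D₀) ⟨g₀, hgdet⟩

/-- Variables for a pair (matrix, square matrix). -/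
abbrev PairVar (d n : ℕ) : Type := (Fin n × Fin d) ⊕ (Fin d × Fin d)

/-- The determinant identity, universally. -/
theorem star_univ [Infinite K] (hd : 0 < d) (f : MatRing K d n)
    (hf : ∀ g : Matrix.SpecialLinearGroup (Fin d) K, rightTranslate K d n g f = f) :
    evalMat (K := K) ((Matrix.of fun i t => (X (Sum.inl (i, t)) : MvPolynomial (PairVar d n) K)) *
        (Matrix.of fun s t => (X (Sum.inr (s, t)) : MvPolynomial (PairVar d n) K))) f =
      evalMat (K := K) ((Matrix.of fun i t => (X (Sum.inl (i, t)) : MvPolynomial (PairVar d n) K)) *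
        Matrix.diagonal (colT hd
          (Matrix.of fun s t => (X (Sum.inr (s, t)) : MvPolynomial (PairVar d n) K)).det)) f := by
  set 𝔸 : Matrix (Fin n) (Fin d) (MvPolynomial (PairVar d n) K) :=
    Matrix.of fun i t => X (Sum.inl (i, t)) with h𝔸
  set 𝔾 : Matrix (Fin d) (Fin d) (MvPolynomial (PairVar d n) K) :=
    Matrix.of fun s t => X (Sum.inr (s, t)) with h𝔾
  have hdet_ne : 𝔾.det ≠ 0 := by
    intro h0
    have := congrArg (MvPolynomial.eval (fun v : PairVar d n =>
      Sum.elim (fun _ => (0 : K)) (fun p => if p.1 = p.2 then 1 else 0) v)) h0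
    rw [RingHom.map_det, map_zero] at this
    have hone : (MvPolynomial.eval (fun v : PairVar d n =>
        Sum.elim (fun _ => (0 : K)) (fun p => if p.1 = p.2 then 1 else 0) v)).mapMatrix 𝔾 = 1 := by
      ext s t
      simp [h𝔾, Matrix.one_apply]
    rw [hone, Matrix.det_one] at this
    exact one_ne_zero this
  have key : (evalMat (K := K) (𝔸 * 𝔾) f -
      evalMat (K := K) (𝔸 * Matrix.diagonal (colT hd 𝔾.det)) f) * 𝔾.det = 0 := by
    apply MvPolynomial.funext
    intro x
    rw [map_mul, map_sub, map_zero]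
    set A₀ : Matrix (Fin n) (Fin d) K := Matrix.of fun i t => x (Sum.inl (i, t)) with hA₀
    set G₀ : Matrix (Fin d) (Fin d) K := Matrix.of fun s t => x (Sum.inr (s, t)) with hG₀
    have hA : 𝔸.map (MvPolynomial.aeval x : MvPolynomial (PairVar d n) K →ₐ[K] K) = A₀ := by
      ext i t
      simp [h𝔸, hA₀]
    have hG : 𝔾.map (MvPolynomial.aeval x : MvPolynomial (PairVar d n) K →ₐ[K] K) = G₀ := by
      ext i t
      simp [h𝔾, hG₀]
    have hdet : MvPolynomial.eval x 𝔾.det = G₀.det := by
      rw [RingHom.map_det]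
      have : (MvPolynomial.eval x).mapMatrix 𝔾 = G₀ := by
        ext s t
        simp [h𝔾, hG₀]
      rw [this]
    have e1 : MvPolynomial.eval x (evalMat (K := K) (𝔸 * 𝔾) f) = evalMat (A₀ * G₀) f := by
      have := evalMat_comp (MvPolynomial.aeval x : MvPolynomial (PairVar d n) K →ₐ[K] K)
        (𝔸 * 𝔾) f
      rw [Matrix.map_mul, hA, hG] at this
      rw [← this]
      rfl
    have e2 : MvPolynomial.eval x (evalMat (K := K) (𝔸 * Matrix.diagonal (colT hd 𝔾.det)) f) =
        evalMat (A₀ * Matrix.diagonal (colT hd G₀.det)) f := by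
      have := evalMat_comp (MvPolynomial.aeval x : MvPolynomial (PairVar d n) K →ₐ[K] K)
        (𝔸 * Matrix.diagonal (colT hd 𝔾.det)) f
      rw [Matrix.map_mul, hA, Matrix.diagonal_map (map_zero _)] at this
      have hc : (fun m => (MvPolynomial.aeval x : MvPolynomial (PairVar d n) K →ₐ[K] K)
          (colT hd 𝔾.det m)) = colT hd G₀.det := by
        have := colT_map hd (MvPolynomial.aeval x : MvPolynomial (PairVar d n) K →ₐ[K] K)
          (map_one _) 𝔾.det
        rw [← hdet]
        exact this
      rw [hc] at this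
      rw [← this]
      rfl
    rw [e1, e2, hdet]
    by_cases hG0 : G₀.det = 0
    · rw [hG0, mul_zero]
    · rw [star_points hd f hf A₀ G₀ hG0, sub_self, zero_mul]
  rcases mul_eq_zero.1 key with h | h
  · exact sub_eq_zero.1 h
  · exact absurd h hdet_ne

/-- The determinant identity over any commutative `K`-algebra. -/
theorem star [Infinite K] (hd : 0 < d) (f : MatRing K d n)
    (hf : ∀ g : Matrix.SpecialLinearGroup (Fin d) K, rightTranslate K d n g f = f)
    {T : Type*} [CommRing T] [Algebra K T] (A : Matrix (Fin n) (Fin d) T)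
    (G : Matrix (Fin d) (Fin d) T) :
    evalMat (K := K) (A * G) f = evalMat (K := K) (A * Matrix.diagonal (colT hd G.det)) f := by
  set φ : MvPolynomial (PairVar d n) K →ₐ[K] T :=
    MvPolynomial.aeval (Sum.elim (fun p => A p.1 p.2) (fun p => G p.1 p.2)) with hφ
  have h := congrArg φ (star_univ hd f hf)
  rw [evalMat_comp, evalMat_comp, Matrix.map_mul, Matrix.map_mul,
    Matrix.diagonal_map (map_zero _)] at h
  have hA : (Matrix.of fun i t => (X (Sum.inl (i, t)) : MvPolynomial (PairVar d n) K)).map φ =
      A := by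
    ext i t
    simp [hφ]
  have hG : (Matrix.of fun s t => (X (Sum.inr (s, t)) : MvPolynomial (PairVar d n) K)).map φ =
      G := by
    ext i t
    simp [hφ]
  rw [hA, hG] at h
  rw [h]
  have hc : (fun m => φ (colT hd
      (Matrix.of fun s t => (X (Sum.inr (s, t)) : MvPolynomial (PairVar d n) K)).det m)) =
      colT hd G.det := by
    have := colT_map hd φ (map_one _)
      (Matrix.of fun s t => (X (Sum.inr (s, t)) : MvPolynomial (PairVar d n) K)).det
    rw [AlgHom.map_det, show (φ.mapMatrix (Matrix.of fun s t =>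
      (X (Sum.inr (s, t)) : MvPolynomial (PairVar d n) K))) = G from hG] at this
    exact this
  rw [hc]

end Groth.Agent.Lib.Helper18.Plucker
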