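import Groth.Agent.Lib.Helper18.Plucker.FFT1

/-! # First fundamental theorem for `SL_d`: an invariant times a power of a minor is a polynomial
in the minors -/

set_option autoImplicit false

namespace Groth.Agent.Lib.Helper18.Plucker

open W4bk4grassmannian MvPolynomial Equiv

universe u

variable {K : Type u} [Field K] {d n : ℕ}

theorem pluckerMap_eq (f : PlRing K d n) :
    pluckerMap K d n f =
      aeval (fun θ : Idx d n => ((genX K d n).submatrix θ.1 id).det) f := rfl

theorem pluckerMap_X (θ : Idx d n) :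
    pluckerMap K d n (X θ) = ((genX K d n).submatrix θ.1 id).det := by
  rw [pluckerMap_eq, aeval_X]

theorem pluckerMap_coord (a : Fin d → Fin n) :
    pluckerMap K d n (coord K d n a) = ((genX K d n).submatrix a id).det := by
  rw [pluckerMap_eq, aeval_minors_coord]

theorem mul_adjugate_apply_eq {R : Type*} [CommRing R] (M : Matrix (Fin n) (Fin d) R)
    (θ : Fin d → Fin n) (i : Fin n) (t : Fin d) :
    (M * (M.submatrix θ id).adjugate) i t = (M.submatrix (Function.update θ t i) id).det := by
  have h1 : (M.submatrix (Function.update θ t i) id) = (M.submatrix θ id).updateRow t (M i) := by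
    ext s c
    simp only [Matrix.submatrix_apply, id, Matrix.updateRow_apply, Function.update_apply]
    split_ifs <;> rfl
  rw [h1, ← Matrix.cramer_transpose_apply, Matrix.cramer_eq_adjugate_mulVec,
    ← Matrix.adjugate_transpose, Matrix.mulVec_transpose]
  rfl

section Frac

variable (K d n)

/-- The fraction field of the matrix ring. -/
abbrev FracMat : Type u := FractionRing (MatRing K d n)

variable {K d n}

/-- `y Δ^N` is a polynomial in the minors. -/
def IsB (θ : Idx d n) (y : FracMat K d n) : Prop :=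
  ∃ (N : ℕ) (b : PlRing K d n),
    y * (algebraMap (MatRing K d n) (FracMat K d n) (pluckerMap K d n (X θ))) ^ N =
      algebraMap (MatRing K d n) (FracMat K d n) (pluckerMap K d n b)

theorem IsB.add {θ : Idx d n} {y z : FracMat K d n} (hy : IsB θ y) (hz : IsB θ z) :
    IsB θ (y + z) := by
  obtain ⟨N₁, b₁, h₁⟩ := hy
  obtain ⟨N₂, b₂, h₂⟩ := hz
  refine ⟨N₁ + N₂, b₁ * X θ ^ N₂ + b₂ * X θ ^ N₁, ?_⟩
  rw [map_add, map_mul, map_mul, map_pow, map_pow, map_add, map_mul, map_mul, map_pow, map_pow,
    ← h₁, ← h₂]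
  ring

theorem IsB.mul {θ : Idx d n} {y z : FracMat K d n} (hy : IsB θ y) (hz : IsB θ z) :
    IsB θ (y * z) := by
  obtain ⟨N₁, b₁, h₁⟩ := hy
  obtain ⟨N₂, b₂, h₂⟩ := hz
  refine ⟨N₁ + N₂, b₁ * b₂, ?_⟩
  rw [map_mul, map_mul, ← h₁, ← h₂]
  ring

theorem isB_evalMat (θ : Idx d n) (M : Matrix (Fin n) (Fin d) (FracMat K d n))
    (hM : ∀ i t, IsB θ (M i t)) (f : MatRing K d n) : IsB θ (evalMat (K := K) M f) := by
  induction f using MvPolynomial.induction_on with
  | C c =>
    refine ⟨0, C c, ?_⟩
    rw [pow_zero, mul_one]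
    unfold evalMat
    rw [aeval_C, pluckerMap_eq, aeval_C]
    rw [IsScalarTower.algebraMap_apply K (MatRing K d n) (FracMat K d n)]
  | add p q hp hq =>
    rw [map_add]
    exact hp.add hq
  | mul_X p i hp =>
    rw [map_mul, evalMat_X]
    exact hp.mul (hM i.1 i.2)

end Frac

/-- For an `SL_d`-invariant `f` and a minor `p_θ`, some `f p_θ^N` is a polynomial in the minors. -/
theorem exists_mul_pow_eq_pluckerMap [Infinite K] (hd : 0 < d) (f : MatRing K d n)
    (hf : ∀ g : Matrix.SpecialLinearGroup (Fin d) K, rightTranslate K d n g f = f)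
    (θ : Idx d n) :
    ∃ (N : ℕ) (b : PlRing K d n), f * (pluckerMap K d n (X θ)) ^ N = pluckerMap K d n b := by
  set alg := algebraMap (MatRing K d n) (FracMat K d n) with halg
  have hinj : Function.Injective alg := IsFractionRing.injective _ _
  set Y : Matrix (Fin d) (Fin d) (MatRing K d n) := (genX K d n).submatrix θ.1 id with hY
  set δ : MatRing K d n := pluckerMap K d n (X θ) with hδ
  have hδY : δ = Y.det := pluckerMap_X θ
  have hδ0 : δ ≠ 0 := by
    rw [hδY, hY]
    have hl := lead_minorP (K := K) (fun _ _ => True) θ (fun _ => trivial)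
    intro h0
    have hgen : (genP (K := K) (fun (_ : Fin n) (_ : Fin d) => True)) = genX K d n := by
      ext i t
      simp [genP, genX]
    rw [hgen, h0] at hl
    have := hl.1
    rw [coeff_zero] at this
    exact zero_ne_one this
  set Δ : FracMat K d n := alg δ with hΔ
  have hΔ0 : Δ ≠ 0 := fun h => hδ0 (hinj (by rw [← hΔ, h, map_zero]))
  set genXF : Matrix (Fin n) (Fin d) (FracMat K d n) := (genX K d n).map alg with hgenXF
  set D : Matrix (Fin d) (Fin d) (FracMat K d n) :=
    Matrix.diagonal (colT hd ((Δ⁻¹) ^ (d - 1))) with hD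
  set G : Matrix (Fin d) (Fin d) (FracMat K d n) := Y.adjugate.map alg * D with hG
  have hGdet : G.det = 1 := by
    rw [hG, Matrix.det_mul, hD, Matrix.det_diagonal, prod_colT]
    have : (Y.adjugate.map alg).det = Δ ^ (d - 1) := by
      have h1 : (Y.adjugate.map alg) = alg.mapMatrix Y.adjugate := rfl
      rw [h1, ← RingHom.map_det, Matrix.det_adjugate, Fintype.card_fin, map_pow, ← hδY]
    rw [this, ← mul_pow, mul_inv_cancel₀ hΔ0, one_pow]
  have hstar := star hd f hf genXF G
  rw [hGdet, colT_one, Matrix.diagonal_one, Matrix.mul_one] at hstar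
  have hfF : evalMat (K := K) genXF f = alg f := by
    have := evalMat_comp (IsScalarTower.toAlgHom K (MatRing K d n) (FracMat K d n))
      (genX K d n) f
    rw [evalMat_genX] at this
    exact this.symm
  rw [hfF] at hstar
  have hentries : ∀ i t, IsB θ ((genXF * G) i t) := by
    intro i t
    have h1 : genXF * G = ((genX K d n * Y.adjugate).map alg) * D := by
      rw [hG, ← Matrix.mul_assoc, hgenXF, Matrix.map_mul]
    rw [h1, hD, Matrix.mul_diagonal, Matrix.map_apply, hY, mul_adjugate_apply_eq,
      ← pluckerMap_coord]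
    unfold colT
    split_ifs with ht
    · refine ⟨d - 1, coord K d n (Function.update θ.1 t i), ?_⟩
      rw [mul_assoc, ← mul_pow, inv_mul_cancel₀ hΔ0, one_pow, mul_one]
    · refine ⟨0, coord K d n (Function.update θ.1 t i), ?_⟩
      rw [pow_zero, mul_one, mul_one]
  obtain ⟨N, b, hb⟩ := isB_evalMat θ (genXF * G) hentries f
  refine ⟨N, b, hinj ?_⟩
  rw [map_mul, map_pow, ← hstar]
  exact hb

end Groth.Agent.Lib.Helper18.Plucker
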