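import Groth.Agent.Lib.Helper18.Plucker.FFT2

/-! # First fundamental theorem for `SL_d` -/

set_option autoImplicit false

namespace Groth.Agent.Lib.Helper18.Plucker

open W4bk4grassmannian MvPolynomial Equiv

universe u

variable {K : Type u} [Field K] {d n : ℕ}

/-- The largest element of `I(d,n)`. -/
def topIdx (d n : ℕ) (hdn : d ≤ n) : Idx d n :=
  ⟨fun t => ⟨n - d + t.val, by have := t.isLt; omega⟩, fun a b h => by
    rw [Fin.lt_def] at h ⊢
    simp only
    omega⟩

/-- The least element of `I(d,n)`. -/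
def botIdx (d n : ℕ) (hdn : d ≤ n) : Idx d n :=
  ⟨fun t => ⟨t.val, lt_of_lt_of_le t.isLt hdn⟩, fun a b h => h⟩

theorem le_topIdx (hdn : d ≤ n) (φ : Idx d n) : φ ≤ topIdx d n hdn := by
  intro t
  rw [Fin.le_def]
  have hd1 : d - 1 < d := by have := t.isLt; omega
  have h1 := strictMono_add_le φ.1 φ.2 (d - 1 - t.val) t ⟨d - 1, hd1⟩
    (by simp only; have := t.isLt; omega)
  have h2 := (φ.1 ⟨d - 1, hd1⟩).isLt
  have := t.isLt
  simp only [topIdx]
  omega

theorem botIdx_le (hdn : d ≤ n) (φ : Idx d n) : botIdx d n hdn ≤ φ :=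
  fun t => val_le_apply φ.1 φ.2 t

theorem schubertVanishing_top (hdn : d ≤ n) :
    schubertVanishing K d n (topIdx d n hdn) = vanishing K d n := by
  unfold schubertVanishing vanishing
  refine le_antisymm (le_iInf fun A => iInf₂_le A fun φ hφ => absurd (le_topIdx hdn φ) hφ)
    (le_iInf₂ fun A _ => iInf_le _ A)

theorem evalMat_pluckerMap (A : Matrix (Fin n) (Fin d) K) (f : PlRing K d n) :
    evalMat A (pluckerMap K d n f) = evalMinors K d n A f := by
  have : (evalMat (K := K) A).comp (pluckerMap K d n) = evalMinors K d n A := by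
    apply MvPolynomial.algHom_ext
    intro θ
    rw [AlgHom.comp_apply, pluckerMap_X, AlgHom.map_det]
    unfold evalMinors
    rw [aeval_X]
    congr 1
    ext s t
    simp only [AlgHom.mapMatrix_apply, Matrix.map_apply, Matrix.submatrix_apply, id, genX,
      Matrix.of_apply]
    exact evalMat_X A (θ.1 s, t)
  exact congrFun (congrArg DFunLike.coe this) f

theorem ker_pluckerMap [Infinite K] :
    RingHom.ker (pluckerMap K d n).toRingHom = vanishing K d n := by
  ext f
  unfold vanishing
  simp only [RingHom.mem_ker, Ideal.mem_iInf, AlgHom.toRingHom_eq_coe, RingHom.coe_coe]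
  constructor
  · intro h A
    rw [← evalMat_pluckerMap, h, map_zero]
  · intro h
    apply MvPolynomial.funext
    intro x
    have h1 := h (Matrix.of fun i t => x (i, t))
    rw [← evalMat_pluckerMap] at h1
    rw [map_zero, ← h1]
    unfold evalMat
    rw [aeval_def, MvPolynomial.eval, MvPolynomial.eval₂Hom]
    rfl

/-- The embedding of the Grassmannian coordinate ring into the matrix ring. -/
noncomputable def plEmb [Infinite K] (hdn : d ≤ n) :
    (PlRing K d n ⧸ schubertVanishing K d n (topIdx d n hdn)) →+* MatRing K d n :=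
  Ideal.Quotient.lift _ (pluckerMap K d n).toRingHom (fun f hf => by
    rw [schubertVanishing_top hdn, ← ker_pluckerMap] at hf
    exact hf)

theorem plEmb_mk [Infinite K] (hdn : d ≤ n) (f : PlRing K d n) :
    plEmb hdn (Ideal.Quotient.mk _ f) = pluckerMap K d n f := rfl

theorem plEmb_injective [Infinite K] (hdn : d ≤ n) : Function.Injective (plEmb (K := K) hdn) := by
  refine RingHom.lift_injective_of_ker_le_ideal _ _ ?_
  rw [ker_pluckerMap, schubertVanishing_top hdn]

theorem prime_mk_X_top [Infinite K] (hd : 0 < d) (hdn : d ≤ n) :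
    Prime (Ideal.Quotient.mk (schubertVanishing K d n (topIdx d n hdn))
      (X (topIdx d n hdn) : PlRing K d n)) := by
  rw [prime_mk_iff _ _ (X_notMem_schubertVanishing hd _ _ le_rfl), sup_span_isPrime_iff hd,
    subsingleton_divisors_iff]
  refine ⟨0, fun t ht => absurd ht (Nat.not_lt_zero _), fun t t' _ h => ?_⟩
  simp only [topIdx]
  omega

theorem not_dvd_bot [Infinite K] (hd : 0 < d) (hdn : d < n) :
    ¬ (Ideal.Quotient.mk (schubertVanishing K d n (topIdx d n hdn.le))
        (X (topIdx d n hdn.le) : PlRing K d n) ∣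
      Ideal.Quotient.mk (schubertVanishing K d n (topIdx d n hdn.le))
        (X (botIdx d n hdn.le) : PlRing K d n)) := by
  rintro ⟨c, hc⟩
  obtain ⟨c, rfl⟩ := Ideal.Quotient.mk_surjective c
  rw [← map_mul, Ideal.Quotient.eq] at hc
  have hlt : botIdx d n hdn.le < topIdx d n hdn.le := by
    refine lt_of_le_of_ne (botIdx_le hdn.le _) ?_
    intro h
    have := congrArg (fun φ : Idx d n => (φ.1 ⟨0, hd⟩).val) h
    simp only [botIdx, topIdx] at this
    omega
  have hmem : (X (botIdx d n hdn.le) : PlRing K d n) ∈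
      schubertVanishing K d n (topIdx d n hdn.le) ⊔
        Ideal.span {(X (topIdx d n hdn.le) : PlRing K d n)} := by
    have : (X (botIdx d n hdn.le) : PlRing K d n) =
        (X (botIdx d n hdn.le) - X (topIdx d n hdn.le) * c) + c * X (topIdx d n hdn.le) := by ring
    rw [this]
    exact Ideal.add_mem _ (Ideal.mem_sup_left hc)
      (Ideal.mem_sup_right (Ideal.mul_mem_left _ _ (Ideal.subset_span rfl)))
  rw [sup_span_eq_iInf_divisors hd _ ⟨_, hlt⟩, Ideal.mem_iInf] at hmem
  obtain ⟨ψ₀, hψ₀, -⟩ := Groth.Agent.S11268.result d n _ _ hlt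
  exact X_notMem_schubertVanishing hd ψ₀ _ (botIdx_le hdn.le ψ₀) (hmem ⟨ψ₀, hψ₀⟩)

theorem rightTranslate_minor (g : Matrix.SpecialLinearGroup (Fin d) K) (θ : Idx d n) :
    rightTranslate K d n g (minor K d n θ.1) = minor K d n θ.1 := by
  have hminor : minor K d n θ.1 = ((genX K d n).submatrix θ.1 id).det := rfl
  rw [hminor, AlgHom.map_det]
  have h1 : (rightTranslate K d n g).mapMatrix ((genX K d n).submatrix θ.1 id) =
      (genX K d n).submatrix θ.1 id *
        (g : Matrix (Fin d) (Fin d) K).map (C : K →+* MatRing K d n) := by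
    ext s t
    simp only [AlgHom.mapMatrix_apply, Matrix.map_apply, Matrix.submatrix_apply, id, genX,
      Matrix.of_apply, Matrix.mul_apply]
    unfold rightTranslate
    rw [aeval_X]
  rw [h1, Matrix.det_mul]
  have h2 : ((g : Matrix (Fin d) (Fin d) K).map (C : K →+* MatRing K d n)).det = 1 := by
    have : ((g : Matrix (Fin d) (Fin d) K).map (C : K →+* MatRing K d n)) =
        (C : K →+* MatRing K d n).mapMatrix (g : Matrix (Fin d) (Fin d) K) := rfl
    rw [this, ← RingHom.map_det, g.2, map_one]
  rw [h2, mul_one]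

theorem fft_SL [Infinite K] (hd : 0 < d) (hdn : d < n) (f : MatRing K d n) :
    (∀ g : Matrix.SpecialLinearGroup (Fin d) K, rightTranslate K d n g f = f) ↔
      f ∈ Algebra.adjoin K (Set.range fun θ : Idx d n => minor K d n θ.1) := by
  constructor
  · intro hf
    obtain ⟨N, b, hb⟩ := exists_mul_pow_eq_pluckerMap hd f hf (topIdx d n hdn.le)
    obtain ⟨M, b', hb'⟩ := exists_mul_pow_eq_pluckerMap hd f hf (botIdx d n hdn.le)
    haveI hprime := schubertVanishing_isPrime (K := K) hd (topIdx d n hdn.le)
    haveI : IsDomain (PlRing K d n ⧸ schubertVanishing K d n (topIdx d n hdn.le)) :=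
      Ideal.Quotient.isDomain _
    set xt := Ideal.Quotient.mk (schubertVanishing K d n (topIdx d n hdn.le))
      (X (topIdx d n hdn.le) : PlRing K d n) with hxt
    set xb := Ideal.Quotient.mk (schubertVanishing K d n (topIdx d n hdn.le))
      (X (botIdx d n hdn.le) : PlRing K d n) with hxb
    have hpt : Prime xt := prime_mk_X_top hd hdn.le
    have hnd : ¬ xt ∣ xb := not_dvd_bot hd hdn
    have hxt' : plEmb (K := K) hdn.le xt = pluckerMap K d n (X (topIdx d n hdn.le)) := rfl
    have hxb' : plEmb (K := K) hdn.le xb = pluckerMap K d n (X (botIdx d n hdn.le)) := rfl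
    have heq : Ideal.Quotient.mk _ b * xb ^ M = Ideal.Quotient.mk _ b' * xt ^ N := by
      apply plEmb_injective (K := K) hdn.le
      rw [map_mul, map_mul, map_pow, map_pow, hxt', hxb', plEmb_mk, plEmb_mk, ← hb, ← hb']
      ring
    have hdvd : xt ^ N ∣ Ideal.Quotient.mk _ b * xb ^ M := ⟨Ideal.Quotient.mk _ b', by
      rw [heq]; ring⟩
    have hnd' : ¬ xt ∣ xb ^ M := fun h => hnd (hpt.dvd_of_dvd_pow h)
    obtain ⟨c, hc⟩ := hpt.pow_dvd_of_dvd_mul_right N hnd' hdvd
    obtain ⟨c, rfl⟩ := Ideal.Quotient.mk_surjective c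
    have h1 := congrArg (plEmb (K := K) hdn.le) hc
    rw [map_mul, map_pow, hxt', plEmb_mk, plEmb_mk, ← hb] at h1
    have hne : (pluckerMap K d n (X (topIdx d n hdn.le))) ^ N ≠ 0 := by
      apply pow_ne_zero
      intro h0
      have : Ideal.Quotient.mk (schubertVanishing K d n (topIdx d n hdn.le))
          (X (topIdx d n hdn.le) : PlRing K d n) = 0 := by
        apply plEmb_injective (K := K) hdn.le
        rw [plEmb_mk, h0, map_zero]
      exact hpt.ne_zero this
    have h2 : f = pluckerMap K d n c := by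
      rw [mul_comm] at h1
      exact mul_left_cancel₀ hne h1
    rw [h2, Algebra.adjoin_range_eq_range_aeval]
    exact ⟨c, rfl⟩
  · intro hf g
    induction hf using Algebra.adjoin_induction with
    | mem x hx =>
      obtain ⟨θ, rfl⟩ := hx
      exact rightTranslate_minor g θ
    | algebraMap r => exact AlgHom.commutes _ r
    | add x y _ _ hx hy => rw [map_add, hx, hy]
    | mul x y _ _ hx hy => rw [map_mul, hx, hy]

end Groth.Agent.Lib.Helper18.Plucker
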