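import Groth.Agent.Lib.Helper18.Plucker.SFT

/-!
# First fundamental theorem for `GL_n` on pairs of matrices, part 1

Evaluation of functions of pairs of matrices, invariance of the pairing, the weight decomposition
in the second matrix, and: an invariant times a power of a corner minor of the product is a
polynomial in the product.
-/

set_option autoImplicit false

namespace Groth.Agent.Lib.Helper18.Plucker

open W4bk4grassmannian MvPolynomial

universe u

variable {K : Type u} [Field K] {n m q : ℕ}

section Eval

variable {T : Type*} [CommRing T] [Algebra K T]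

/-- Evaluation of a function of a pair of matrices. -/
noncomputable def evP (U₀ : Matrix (Fin m) (Fin n) T) (W₀ : Matrix (Fin n) (Fin q) T) :
    PairRing K n m q →ₐ[K] T :=
  aeval (Sum.elim (fun p : Fin m × Fin n => U₀ p.1 p.2) (fun p : Fin n × Fin q => W₀ p.1 p.2))

theorem evP_inl (U₀ : Matrix (Fin m) (Fin n) T) (W₀ : Matrix (Fin n) (Fin q) T) (p : Fin m × Fin n) :
    evP (K := K) U₀ W₀ (X (Sum.inl p)) = U₀ p.1 p.2 := by
  unfold evP
  rw [aeval_X]
  rfl

theorem evP_inr (U₀ : Matrix (Fin m) (Fin n) T) (W₀ : Matrix (Fin n) (Fin q) T) (p : Fin n × Fin q) :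
    evP (K := K) U₀ W₀ (X (Sum.inr p)) = W₀ p.1 p.2 := by
  unfold evP
  rw [aeval_X]
  rfl

theorem evP_C (U₀ : Matrix (Fin m) (Fin n) T) (W₀ : Matrix (Fin n) (Fin q) T) (c : K) :
    evP (K := K) U₀ W₀ (C c) = algebraMap K T c := by
  unfold evP
  rw [aeval_C]

theorem evP_comp {T' : Type*} [CommRing T'] [Algebra K T'] (φ : T →ₐ[K] T')
    (U₀ : Matrix (Fin m) (Fin n) T) (W₀ : Matrix (Fin n) (Fin q) T) (f : PairRing K n m q) :
    φ (evP U₀ W₀ f) = evP (U₀.map φ) (W₀.map φ) f := by
  have : φ.comp (evP (K := K) U₀ W₀) = evP (U₀.map φ) (W₀.map φ) := by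
    apply MvPolynomial.algHom_ext
    rintro (p | p)
    · rw [AlgHom.comp_apply, evP_inl, evP_inl, Matrix.map_apply]
    · rw [AlgHom.comp_apply, evP_inr, evP_inr, Matrix.map_apply]
  exact congrFun (congrArg DFunLike.coe this) f

theorem evP_pairingMap (U₀ : Matrix (Fin m) (Fin n) T) (W₀ : Matrix (Fin n) (Fin q) T)
    (g : MvPolynomial (Fin m × Fin q) K) :
    evP U₀ W₀ (pairingMap K n m q g) =
      aeval (fun p : Fin m × Fin q => (U₀ * W₀) p.1 p.2) g := by
  have : (evP (K := K) U₀ W₀).comp (pairingMap K n m q) =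
      aeval (fun p : Fin m × Fin q => (U₀ * W₀) p.1 p.2) := by
    apply MvPolynomial.algHom_ext
    rintro ⟨i, j⟩
    rw [AlgHom.comp_apply, aeval_X]
    simp only [pairingMap, aeval_X, map_sum, map_mul, evP_inl, evP_inr, Matrix.mul_apply]
  exact congrFun (congrArg DFunLike.coe this) g

end Eval

variable (K n m q) in
/-- The generic left matrix. -/
noncomputable def genU : Matrix (Fin m) (Fin n) (PairRing K n m q) :=
  Matrix.of fun i k => X (Sum.inl (i, k))

variable (K n m q) in
/-- The generic right matrix. -/
noncomputable def genW : Matrix (Fin n) (Fin q) (PairRing K n m q) :=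
  Matrix.of fun k j => X (Sum.inr (k, j))

theorem evP_gen (f : PairRing K n m q) : evP (genU K n m q) (genW K n m q) f = f := by
  have : evP (K := K) (genU K n m q) (genW K n m q) = AlgHom.id K _ := by
    apply MvPolynomial.algHom_ext
    rintro (p | p)
    · rw [evP_inl]; rfl
    · rw [evP_inr]; rfl
  rw [this]
  rfl

theorem evP_glTranslate (A : GL (Fin n) K) (U₀ : Matrix (Fin m) (Fin n) K)
    (W₀ : Matrix (Fin n) (Fin q) K) (f : PairRing K n m q) :
    evP U₀ W₀ (glTranslate K n m q A f) =
      evP (U₀ * ((A⁻¹ : GL (Fin n) K) : Matrix (Fin n) (Fin n) K))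
        ((A : Matrix (Fin n) (Fin n) K) * W₀) f := by
  have : (evP (K := K) U₀ W₀).comp (glTranslate K n m q A) =
      evP (U₀ * ((A⁻¹ : GL (Fin n) K) : Matrix (Fin n) (Fin n) K))
        ((A : Matrix (Fin n) (Fin n) K) * W₀) := by
    apply MvPolynomial.algHom_ext
    rintro (p | p)
    · rw [AlgHom.comp_apply, evP_inl]
      simp only [glTranslate, aeval_X, Sum.elim_inl, map_sum, map_mul, evP_inl, Matrix.mul_apply,
        evP_C, Algebra.algebraMap_self, RingHom.id_apply]
    · rw [AlgHom.comp_apply, evP_inr]
      simp only [glTranslate, aeval_X, Sum.elim_inr, map_sum, map_mul, evP_inr, Matrix.mul_apply,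
        evP_C, Algebra.algebraMap_self, RingHom.id_apply]
  exact congrFun (congrArg DFunLike.coe this) f

/-- Polynomial functions of pairs of matrices over an infinite field are determined by their
values. -/
theorem ext_points [Infinite K] (f g : PairRing K n m q)
    (h : ∀ (U₀ : Matrix (Fin m) (Fin n) K) (W₀ : Matrix (Fin n) (Fin q) K),
      evP U₀ W₀ f = evP U₀ W₀ g) : f = g := by
  apply MvPolynomial.funext
  intro x
  have hx : (Sum.elim (fun p : Fin m × Fin n => x (Sum.inl p))
      (fun p : Fin n × Fin q => x (Sum.inr p))) = x := by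
    funext v
    rcases v with p | p <;> rfl
  have := h (Matrix.of fun i k => x (Sum.inl (i, k))) (Matrix.of fun k j => x (Sum.inr (k, j)))
  unfold evP at this
  simp only [Matrix.of_apply, Prod.mk.eta] at this
  rw [hx, aeval_def, aeval_def, Algebra.algebraMap_self, eval₂_id, eval₂_id] at this
  exact this

/-- The pairing is invariant. -/
theorem glTranslate_pairingMap [Infinite K] (A : GL (Fin n) K) (g : MvPolynomial (Fin m × Fin q) K) :
    glTranslate K n m q A (pairingMap K n m q g) = pairingMap K n m q g := by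
  apply ext_points
  intro U₀ W₀
  rw [evP_glTranslate, evP_pairingMap, evP_pairingMap]
  congr 2
  funext p
  rw [Matrix.mul_assoc, ← Matrix.mul_assoc _ _ W₀]
  have : ((A⁻¹ : GL (Fin n) K) : Matrix (Fin n) (Fin n) K) * (A : Matrix (Fin n) (Fin n) K) = 1 := by
    rw [← Units.val_mul, inv_mul_cancel, Units.val_one]
  rw [this, Matrix.one_mul]

/-! ## Weighted homogeneity -/

section Weighted

variable {σ τ : Type*}

theorem isWeightedHomogeneous_aeval (w : σ → ℕ) (w' : τ → ℕ) (g : σ → MvPolynomial τ K)
    (hg : ∀ x, IsWeightedHomogeneous w' (g x) (w x)) {p : MvPolynomial σ K} {e : ℕ}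
    (hp : IsWeightedHomogeneous w p e) : IsWeightedHomogeneous w' (aeval g p) e := by
  classical
  rw [p.as_sum, map_sum]
  apply IsWeightedHomogeneous.sum
  intro d hd
  rw [aeval_monomial]
  have h1 : IsWeightedHomogeneous w' (d.prod fun i k => g i ^ k) e := by
    have hwd : Finsupp.weight w d = e := hp (mem_support_iff.1 hd)
    rw [Finsupp.prod]
    have := IsWeightedHomogeneous.prod d.support (fun i => g i ^ d i) (fun i => d i • w i)
      (fun i _ => (hg i).pow (d i))
    convert this using 1
    rw [← hwd, Finsupp.weight_apply, Finsupp.sum]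
  have := (isWeightedHomogeneous_C w' (coeff d p)).mul h1
  rw [zero_add] at this
  exact this

theorem aeval_weighted_scale {T : Type*} [CommRing T] [Algebra K T] (w : σ → ℕ)
    {p : MvPolynomial σ K} {e : ℕ} (hp : IsWeightedHomogeneous w p e) (c : T) (g : σ → T) :
    aeval (fun x => c ^ w x * g x) p = c ^ e * aeval g p := by
  rw [aeval_def, aeval_def, eval₂_eq, eval₂_eq, Finset.mul_sum]
  refine Finset.sum_congr rfl fun d hd => ?_
  have hwd : Finsupp.weight w d = e := hp (mem_support_iff.1 hd)
  simp_rw [mul_pow, ← pow_mul]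
  rw [Finset.prod_mul_distrib, Finset.prod_pow_eq_pow_sum]
  have : ∑ i ∈ d.support, w i * d i = e := by
    rw [← hwd, Finsupp.weight_apply, Finsupp.sum]
    refine Finset.sum_congr rfl fun i _ => ?_
    rw [smul_eq_mul, mul_comm]
  rw [this]
  ring

end Weighted

variable (n m q) in
/-- The weight counting the degree in the second matrix. -/
def wW : ((Fin m × Fin n) ⊕ (Fin n × Fin q)) → ℕ := Sum.elim (fun _ => 0) (fun _ => 1)

variable (K) in
/-- The component of degree `e` in the second matrix. -/
noncomputable def compW (e : ℕ) (f : PairRing K n m q) : PairRing K n m q :=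
  weightedHomogeneousComponent (wW n m q) e f

theorem compW_isWeightedHomogeneous (e : ℕ) (f : PairRing K n m q) :
    IsWeightedHomogeneous (wW n m q) (compW K e f) e :=
  weightedHomogeneousComponent_isWeightedHomogeneous e f

theorem glTranslate_isWeightedHomogeneous (A : GL (Fin n) K) {p : PairRing K n m q} {e : ℕ}
    (hp : IsWeightedHomogeneous (wW n m q) p e) :
    IsWeightedHomogeneous (wW n m q) (glTranslate K n m q A p) e := by
  unfold glTranslate
  refine isWeightedHomogeneous_aeval (wW n m q) (wW n m q) _ ?_ hp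
  rintro (p | p)
  · simp only [Sum.elim_inl]
    apply IsWeightedHomogeneous.sum
    intro k _
    have := (isWeightedHomogeneous_X K (wW n m q) (Sum.inl (p.1, k))).mul
      (isWeightedHomogeneous_C (wW n m q) (((A⁻¹ : GL (Fin n) K) : Matrix (Fin n) (Fin n) K) k p.2))
    simpa [wW] using this
  · simp only [Sum.elim_inr]
    apply IsWeightedHomogeneous.sum
    intro k _
    have := (isWeightedHomogeneous_C (wW n m q) ((A : Matrix (Fin n) (Fin n) K) p.1 k)).mul
      (isWeightedHomogeneous_X K (wW n m q) (Sum.inr (k, p.2)))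
    simpa [wW] using this

theorem glTranslate_compW (A : GL (Fin n) K) (f : PairRing K n m q)
    (hf : glTranslate K n m q A f = f) (e : ℕ) :
    glTranslate K n m q A (compW K e f) = compW K e f := by
  classical
  have hfin := weightedHomogeneousComponent_finsupp (w := wW n m q) f
  have hsum : f = ∑ e' ∈ hfin.toFinset, compW K e' f := by
    conv_lhs => rw [← sum_weightedHomogeneousComponent (wW n m q) f, finsum_eq_sum _ hfin]
    rfl
  have h1 : compW K e (glTranslate K n m q A f) = glTranslate K n m q A (compW K e f) := by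
    conv_lhs => rw [hsum, map_sum]
    unfold compW
    rw [map_sum]
    by_cases he : e ∈ hfin.toFinset
    · rw [Finset.sum_eq_single e]
      · exact (glTranslate_isWeightedHomogeneous A
          (compW_isWeightedHomogeneous e f)).weightedHomogeneousComponent_same
      · intro e' _ hne
        exact (glTranslate_isWeightedHomogeneous A
          (compW_isWeightedHomogeneous e' f)).weightedHomogeneousComponent_ne e (Ne.symm hne)
      · intro h; exact absurd he h
    · have h0 : weightedHomogeneousComponent (wW n m q) e f = 0 := by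
        by_contra hne
        exact he (hfin.mem_toFinset.2 hne)
      rw [h0, map_zero]
      apply Finset.sum_eq_zero
      intro e' he'
      refine (glTranslate_isWeightedHomogeneous A
        (compW_isWeightedHomogeneous e' f)).weightedHomogeneousComponent_ne e ?_
      intro h
      exact he (h ▸ he')
  rw [← h1, hf]

theorem sum_compW (f : PairRing K n m q) :
    ∃ s : Finset ℕ, f = ∑ e ∈ s, compW K e f := by
  classical
  have hfin := weightedHomogeneousComponent_finsupp (w := wW n m q) f
  refine ⟨hfin.toFinset, ?_⟩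
  conv_lhs => rw [← sum_weightedHomogeneousComponent (wW n m q) f, finsum_eq_sum _ hfin]
  rfl

theorem evP_smul_of_isWeightedHomogeneous {T : Type*} [CommRing T] [Algebra K T]
    {p : PairRing K n m q} {e : ℕ} (hp : IsWeightedHomogeneous (wW n m q) p e) (c : T)
    (U₀ : Matrix (Fin m) (Fin n) T) (W₀ : Matrix (Fin n) (Fin q) T) :
    evP U₀ (c • W₀) p = c ^ e * evP U₀ W₀ p := by
  unfold evP
  rw [← aeval_weighted_scale (wW n m q) hp]
  have : (Sum.elim (fun p : Fin m × Fin n => U₀ p.1 p.2)
      (fun p : Fin n × Fin q => (c • W₀) p.1 p.2)) =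
      fun x => c ^ wW n m q x * Sum.elim (fun p : Fin m × Fin n => U₀ p.1 p.2)
        (fun p : Fin n × Fin q => W₀ p.1 p.2) x := by
    funext x
    rcases x with x | x
    · simp [wW]
    · simp [wW]
  rw [this]

/-! ## The identity at points -/

theorem evP_points (f : PairRing K n m q) (hf : ∀ A : GL (Fin n) K, glTranslate K n m q A f = f)
    (U₀ : Matrix (Fin m) (Fin n) K) (W₀ : Matrix (Fin n) (Fin q) K)
    (A₀ : Matrix (Fin n) (Fin n) K) (hA : A₀.det ≠ 0) (c : K) :
    evP (U₀ * A₀) (c • (A₀.adjugate * W₀)) f = evP U₀ ((c * A₀.det) • W₀) f := by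
  set A : GL (Fin n) K := Matrix.GeneralLinearGroup.mkOfDetNeZero A₀ hA with hAdef
  have hAu : IsUnit A₀.det := isUnit_iff_ne_zero.2 hA
  have hcoe : (A : Matrix (Fin n) (Fin n) K) = A₀ := rfl
  have hinv : ((A⁻¹ : GL (Fin n) K) : Matrix (Fin n) (Fin n) K) = A₀⁻¹ := by
    rw [Matrix.coe_units_inv, hcoe]
  conv_lhs => rw [← hf A]
  rw [evP_glTranslate, hcoe, hinv, Matrix.mul_assoc, Matrix.mul_nonsing_inv _ hAu, Matrix.mul_one,
    Matrix.mul_smul, ← Matrix.mul_assoc, Matrix.mul_adjugate, Matrix.smul_mul, Matrix.one_mul,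
    smul_smul]

/-- An invariant of weight `e` in the second matrix, times the `e`-th power of a corner minor of the
product, is a polynomial in the product. -/
theorem exists_pairingMap_eq [Infinite K] (f : PairRing K n m q)
    (hf : ∀ A : GL (Fin n) K, glTranslate K n m q A f = f) (ru : Fin n → Fin m)
    (cw : Fin n → Fin q) (hcw : Function.Injective cw) (e : ℕ) :
    ∃ ρ : MvPolynomial (Fin m × Fin q) K,
      pairingMap K n m q ρ =
        (pairingMap K n m q ((genMatrix K m q).submatrix ru cw).det) ^ e * compW K e f := by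
  classical
  set Yg := genMatrix K m q with hYg
  set fe := compW K e f with hfe
  have hfe_inv : ∀ A : GL (Fin n) K, glTranslate K n m q A fe = fe :=
    fun A => glTranslate_compW A f (hf A) e
  refine ⟨evP (Yg.submatrix id cw) ((Yg.submatrix ru cw).adjugate * Yg.submatrix ru id) fe, ?_⟩
  set W1 : Matrix (Fin n) (Fin n) (PairRing K n m q) := (genW K n m q).submatrix id cw with hW1
  have hW1ne : W1.det ≠ 0 := by
    intro h0
    have := congrArg (evP (K := K) (0 : Matrix (Fin m) (Fin n) K)
      (Matrix.of fun k j => if j = cw k then (1 : K) else 0)) h0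
    rw [AlgHom.map_det, map_zero] at this
    have hone : (evP (K := K) (0 : Matrix (Fin m) (Fin n) K)
        (Matrix.of fun k j => if j = cw k then (1 : K) else 0)).mapMatrix W1 = 1 := by
      ext k l
      simp only [AlgHom.mapMatrix_apply, Matrix.map_apply, hW1, Matrix.submatrix_apply, id, genW,
        Matrix.of_apply, evP_inr, Matrix.one_apply]
      by_cases hkl : k = l
      · rw [if_pos hkl, if_pos (by rw [hkl])]
      · rw [if_neg hkl, if_neg (fun h' => hkl (hcw h').symm)]
    rw [hone, Matrix.det_one] at this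
    exact one_ne_zero this
  have key : (pairingMap K n m q
      (evP (Yg.submatrix id cw) ((Yg.submatrix ru cw).adjugate * Yg.submatrix ru id) fe) -
      (pairingMap K n m q (Yg.submatrix ru cw).det) ^ e * fe) * W1.det = 0 := by
    apply ext_points
    intro U₀ W₀
    rw [map_mul, map_sub, map_zero, map_mul, map_pow, evP_pairingMap, evP_pairingMap]
    set φ : MvPolynomial (Fin m × Fin q) K →ₐ[K] K :=
      aeval (fun p : Fin m × Fin q => (U₀ * W₀) p.1 p.2) with hφ
    have hYmap : Yg.map φ = U₀ * W₀ := by
      ext i j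
      simp [hYg, genMatrix, hφ]
    have hW1map : evP (K := K) U₀ W₀ W1.det = (W₀.submatrix id cw).det := by
      rw [AlgHom.map_det]
      congr 1
      ext k l
      simp [hW1, genW, evP_inr]
    rw [evP_comp φ, hW1map, AlgHom.map_det φ]
    have h1 : (Yg.submatrix id cw).map φ = U₀ * W₀.submatrix id cw := by
      rw [← Matrix.submatrix_map, hYmap]
      ext i l
      simp [Matrix.mul_apply]
    have h2 : φ.mapMatrix (Yg.submatrix ru cw) = U₀.submatrix ru id * W₀.submatrix id cw := by
      rw [AlgHom.mapMatrix_apply, ← Matrix.submatrix_map, hYmap]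
      ext i l
      simp [Matrix.mul_apply]
    have h3 : ((Yg.submatrix ru cw).adjugate * Yg.submatrix ru id).map φ =
        (U₀.submatrix ru id * W₀.submatrix id cw).adjugate * (U₀.submatrix ru id * W₀) := by
      rw [Matrix.map_mul, ← AlgHom.mapMatrix_apply, AlgHom.map_adjugate, h2,
        ← Matrix.submatrix_map, hYmap]
      congr 1
    rw [h1, h2, h3]
    by_cases hdet : (W₀.submatrix id cw).det = 0
    · rw [hdet, mul_zero]
    · have h4 : (U₀.submatrix ru id * W₀.submatrix id cw).adjugate * (U₀.submatrix ru id * W₀) =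
          (U₀.submatrix ru id).det • ((W₀.submatrix id cw).adjugate * W₀) := by
        rw [Matrix.adjugate_mul_distrib, Matrix.mul_assoc, ← Matrix.mul_assoc _ _ W₀,
          Matrix.adjugate_mul, Matrix.smul_mul, Matrix.one_mul, Matrix.mul_smul]
      rw [h4, evP_points fe hfe_inv U₀ W₀ _ hdet,
        evP_smul_of_isWeightedHomogeneous (compW_isWeightedHomogeneous e f), Matrix.det_mul,
        sub_self, zero_mul]
  rcases mul_eq_zero.1 key with h | h
  · exact sub_eq_zero.1 h
  · exact absurd h hW1ne

end Groth.Agent.Lib.Helper18.Plucker
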