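import Groth.Agent.Lib.Helper18.Plucker.FFTGL1

/-!
# First fundamental theorem for `GL_n` on pairs of matrices, part 2

Generic points of the Schubert varieties below `wdet`, the descent through the Schubert divisors,
and the reduction to large matrices.
-/

set_option autoImplicit false

namespace Groth.Agent.Lib.Helper18.Plucker

open W4bk4grassmannian MvPolynomial

universe u

variable {K : Type u} [Field K]

attribute [local instance] MvPolynomial.gradedAlgebra

/-- The generic point of `X(φ)`, `φ ≤ wdet`, is `[I; U₀ W₀]` up to the right action. -/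
theorem exists_generic_point [Infinite K] {m n a : ℕ} (hnm : n + 1 ≤ m) (ha : 1 ≤ a)
    (φ : Idx (a + n) (a + n + m))
    (hφ : φ ≤ wdet (a + n) m (n + 1) (Nat.succ_pos n) hnm) :
    ∃ (F : Type u) (_ : Field F) (_ : Algebra K F) (ev : PairRing K n m (a + n) →ₐ[K] F),
      ∀ (D : ℕ) (g : PlRing K (a + n) (a + n + m)), g.IsHomogeneous D →
        (g ∈ schubertVanishing K (a + n) (a + n + m) φ ↔
          ev (pairingMap K n m (a + n) (cellRho K (a + n) m g)) = 0) := by
  classical
  have hq : 0 < a + n := by omega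
  set w := wdet (a + n) m (n + 1) (Nat.succ_pos n) hnm with hw
  set P : Fin (a + n + m) → Fin (a + n) → Prop := fun x t => x ≤ φ.1 t with hP
  set MR := MatRing K (a + n) (a + n + m)
  set F := FractionRing MR
  set GF : Matrix (Fin (a + n + m)) (Fin (a + n)) F := (genP (K := K) P).map (algebraMap MR F)
    with hGF
  have hcomp : ∀ g : PlRing K (a + n) (a + n + m), algebraMap MR F (evalGenP P g) =
      aeval (fun θ : Idx (a + n) (a + n + m) => (GF.submatrix θ.1 id).det) g := by
    intro g
    have : (IsScalarTower.toAlgHom K MR F).comp (evalGenP (K := K) P) =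
        aeval (fun θ : Idx (a + n) (a + n + m) => (GF.submatrix θ.1 id).det) := by
      apply MvPolynomial.algHom_ext
      intro θ
      rw [AlgHom.comp_apply, aeval_X]
      unfold evalGenP
      rw [aeval_X, IsScalarTower.coe_toAlgHom', RingHom.map_det]
      rfl
    exact congrFun (congrArg DFunLike.coe this) g
  set B := GF.submatrix (iota (a + n) m).1 id with hB
  have hBdet : B.det ≠ 0 := by
    have h2 := hcomp (X (iota (a + n) m))
    rw [aeval_X] at h2
    rw [hB, ← h2, Ne, map_eq_zero_iff _ (IsFractionRing.injective MR F), ← mem_kerP,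
      ← schubertVanishing_eq_kerP hq φ]
    exact X_notMem_schubertVanishing hq φ _ (botIdx_le _ φ)
  have hBu : IsUnit B.det := isUnit_iff_ne_zero.2 hBdet
  set E := GF * B⁻¹ with hE
  have hsub : ∀ (M : Matrix (Fin (a + n + m)) (Fin (a + n)) F)
      (N : Matrix (Fin (a + n)) (Fin (a + n)) F)
      (c : Fin (a + n) → Fin (a + n + m)), (M * N).submatrix c id = M.submatrix c id * N := by
    intro M N c
    rw [Matrix.submatrix_mul _ _ c id id Function.bijective_id, Matrix.submatrix_id_id]
  have hEw : E.submatrix (iota (a + n) m).1 id = 1 := by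
    rw [hE, hsub, ← hB, Matrix.mul_nonsing_inv _ hBu]
  have hAE : GF = E * B := by
    rw [hE, Matrix.mul_assoc, Matrix.nonsing_inv_mul _ hBu, Matrix.mul_one]
  have hminor : (fun θ : Idx (a + n) (a + n + m) => (GF.submatrix θ.1 id).det) =
      fun θ => B.det * (E.submatrix θ.1 id).det := by
    funext θ
    conv_lhs => rw [hAE]
    rw [hsub, Matrix.det_mul, mul_comm]
  -- factorisation of the point
  set U₀ : Matrix (Fin m) (Fin n) F := Matrix.of fun i l =>
    GF ⟨a + n + i.val, by omega⟩ (Fin.natAdd a l) with hU₀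
  set W₀ : Matrix (Fin n) (Fin (a + n)) F := Matrix.of fun l j => B⁻¹ (Fin.natAdd a l) j with hW₀
  have hz : ∀ (i : Fin m) (j : Fin (a + n)),
      E ⟨a + n + i.val, by omega⟩ j = (U₀ * W₀) i j := by
    intro i j
    rw [hE, Matrix.mul_apply, Matrix.mul_apply, Fin.sum_univ_add]
    have hz0 : ∀ k : Fin a, GF ⟨a + n + i.val, by omega⟩ (Fin.castAdd n k) = 0 := by
      intro k
      rw [hGF, Matrix.map_apply, genP, Matrix.of_apply, if_neg, map_zero]
      rw [hP]
      intro hle
      have h1 := hφ (Fin.castAdd n k)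
      have h2 := le_trans hle h1
      simp only [hw, wdet, Fin.le_def, Fin.coe_castAdd] at h2
      have := k.isLt
      rw [if_pos (by omega)] at h2
      omega
    simp only [hz0, zero_mul, Finset.sum_const_zero, zero_add]
    rfl
  have hevp : ∀ g : MvPolynomial (Fin m × Fin (a + n)) K,
      evP U₀ W₀ (pairingMap K n m (a + n) g) =
        aeval (fun p : Fin m × Fin (a + n) => E ⟨a + n + p.1.val, by omega⟩ p.2) g := by
    intro g
    rw [evP_pairingMap]
    congr 2
    funext p
    exact (hz p.1 p.2).symm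
  have key : ∀ (D : ℕ) (g : PlRing K (a + n) (a + n + m)), g.IsHomogeneous D →
      algebraMap MR F (evalGenP P g) =
        B.det ^ D * evP U₀ W₀ (pairingMap K n m (a + n) (cellRho K (a + n) m g)) := by
    intro D g hg
    rw [hcomp, hminor, aeval_mul_of_isHomogeneous hg, eq_cellPtT (K := K) E hEw,
      aeval_minors_cellPtT, ← hevp]
  refine ⟨F, inferInstance, inferInstance, evP U₀ W₀, fun D g hg => ?_⟩
  rw [schubertVanishing_eq_kerP hq φ, mem_kerP, ← map_eq_zero_iff _ (IsFractionRing.injective MR F),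
    key D g hg, mul_eq_zero]
  constructor
  · rintro (h | h)
    · exact absurd (pow_eq_zero_iff (n := D) (by
        intro hD; subst hD; simp at h) |>.1 h) hBdet
    · exact h
  · exact fun h => Or.inr h

/-- The Plücker coordinate of `wdet` on the cell is, up to sign, the corner minor. -/
theorem cellMinor_wdet {m n a : ℕ} (hnm : n + 1 ≤ m) :
    ∃ ε : K, ε * ε = 1 ∧
      cellMinor K (a + n) m (wdet (a + n) m (n + 1) (Nat.succ_pos n) hnm) =
        C ε * ((genMatrix K m (a + n)).submatrix (fun l : Fin n => (⟨m - n + l.val, by omega⟩ : Fin m))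
          (fun l : Fin n => (⟨l.val, by omega⟩ : Fin (a + n)))).det := by
  classical
  set w := wdet (a + n) m (n + 1) (Nat.succ_pos n) hnm with hw
  set M : Matrix (Fin (a + n)) (Fin (a + n)) (CellRing K (a + n) m) :=
    (cellMatrix K (a + n) m).submatrix w.1 id with hM
  set e₁ : Fin a ⊕ Fin n ≃ Fin (a + n) := finSumFinEquiv with he₁
  set e₂ : Fin a ⊕ Fin n ≃ Fin (a + n) :=
    (Equiv.sumComm (Fin a) (Fin n)).trans (finSumFinEquiv.trans (finCongr (Nat.add_comm n a)))
    with he₂
  set Z' : Matrix (Fin n) (Fin n) (CellRing K (a + n) m) :=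
    (genMatrix K m (a + n)).submatrix (fun l : Fin n => (⟨m - n + l.val, by omega⟩ : Fin m))
      (fun l : Fin n => (⟨l.val, by omega⟩ : Fin (a + n))) with hZ'
  set Z'' : Matrix (Fin n) (Fin a) (CellRing K (a + n) m) :=
    Matrix.of fun l k => X ((⟨m - n + l.val, by omega⟩ : Fin m), (⟨n + k.val, by omega⟩ : Fin (a + n)))
    with hZ''
  have hwA : ∀ k : Fin a, w.1 (Fin.castAdd n k) = (⟨n + k.val, by omega⟩ : Fin (a + n + m)) := by
    intro k
    apply Fin.ext
    simp only [hw, wdet, Fin.coe_castAdd]
    have := k.isLt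
    rw [if_pos (by omega)]
    omega
  have hwB : ∀ l : Fin n, w.1 (Fin.natAdd a l) =
      (⟨a + n + (m - n + l.val), by omega⟩ : Fin (a + n + m)) := by
    intro l
    apply Fin.ext
    simp only [hw, wdet, Fin.coe_natAdd]
    have := l.isLt
    rw [if_neg (by omega)]
    omega
  have hcA : ∀ (x : ℕ) (hx : x < a + n) (c : Fin (a + n)),
      cellMatrix K (a + n) m (⟨x, by omega⟩ : Fin (a + n + m)) c = if x = c.val then 1 else 0 := by
    intro x hx c
    simp only [cellMatrix, Matrix.of_apply]
    rw [dif_pos hx]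
  have hcB : ∀ (i : ℕ) (hi : i < m) (c : Fin (a + n)),
      cellMatrix K (a + n) m (⟨a + n + i, by omega⟩ : Fin (a + n + m)) c = X (⟨i, hi⟩, c) := by
    intro i hi c
    simp only [cellMatrix, Matrix.of_apply]
    rw [dif_neg (by omega)]
    congr 2
    exact Fin.ext (by simp)
  have he₂l : ∀ k : Fin a, (e₂ (Sum.inl k)).val = n + k.val := by
    intro k
    simp [he₂]
    omega
  have he₂r : ∀ l : Fin n, (e₂ (Sum.inr l)).val = l.val := by
    intro l
    simp [he₂]
  have hblock : M.submatrix e₁ e₂ = Matrix.fromBlocks 1 0 Z'' Z' := by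
    refine Matrix.ext fun x y => ?_
    rcases x with k | l <;> rcases y with k' | l'
    · rw [Matrix.fromBlocks_apply₁₁, Matrix.submatrix_apply, hM, Matrix.submatrix_apply, id, he₁,
        finSumFinEquiv_apply_left, hwA, hcA _ (by have := k.isLt; omega), he₂l, Matrix.one_apply]
      by_cases hkk : k = k'
      · rw [if_pos hkk, if_pos (by rw [hkk])]
      · rw [if_neg hkk, if_neg (by intro h'; exact hkk (Fin.ext (by omega)))]
    · rw [Matrix.fromBlocks_apply₁₂, Matrix.submatrix_apply, hM, Matrix.submatrix_apply, id, he₁,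
        finSumFinEquiv_apply_left, hwA, hcA _ (by have := k.isLt; omega), he₂r, Matrix.zero_apply,
        if_neg (by have := l'.isLt; omega)]
    · rw [Matrix.fromBlocks_apply₂₁, Matrix.submatrix_apply, hM, Matrix.submatrix_apply, id, he₁,
        finSumFinEquiv_apply_right, hwB, hcB _ (by have := l.isLt; omega), hZ'', Matrix.of_apply]
      congr 2 <;> exact Fin.ext (he₂l k')
    · rw [Matrix.fromBlocks_apply₂₂, Matrix.submatrix_apply, hM, Matrix.submatrix_apply, id, he₁,
        finSumFinEquiv_apply_right, hwB, hcB _ (by have := l.isLt; omega), hZ',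
        Matrix.submatrix_apply, genMatrix, Matrix.of_apply]
      congr 2 <;> exact Fin.ext (he₂r l')
  set σ : Equiv.Perm (Fin a ⊕ Fin n) := e₂.trans e₁.symm with hσ
  have h1 : M.submatrix e₁ e₂ = (M.submatrix e₁ e₁).submatrix id σ := by
    ext x y
    simp [hσ]
  have h2 : (M.submatrix e₁ e₂).det = (Equiv.Perm.sign σ : ℤˣ) * M.det := by
    rw [h1, Matrix.det_permute', Matrix.det_submatrix_equiv_self]
  have h3 : (M.submatrix e₁ e₂).det = Z'.det := by
    rw [hblock, Matrix.det_fromBlocks_zero₁₂, Matrix.det_one, one_mul]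
  have hM' : cellMinor K (a + n) m w = M.det := rfl
  rcases Int.units_eq_one_or (Equiv.Perm.sign σ) with hs | hs
  · refine ⟨1, one_mul 1, ?_⟩
    rw [hM', C_1, one_mul, ← h3, h2, hs]
    simp
  · refine ⟨-1, by ring, ?_⟩
    rw [hM', ← h3, h2, hs]
    simp

/-- Descent through the Schubert divisors: if the corner minor divides a polynomial in the product
inside the ring of all functions, the quotient is again a polynomial in the product. -/
theorem descent [Infinite K] {m n a : ℕ} (hn : 1 ≤ n) (hnm : n + 1 ≤ m) (ha : 1 ≤ a)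
    (ρ : MvPolynomial (Fin m × Fin (a + n)) K) (h : PairRing K n m (a + n))
    (hρ : pairingMap K n m (a + n) ρ =
      pairingMap K n m (a + n)
        (cellRho K (a + n) m (X (wdet (a + n) m (n + 1) (Nat.succ_pos n) hnm))) * h) :
    h ∈ (pairingMap K n m (a + n)).range := by
  classical
  have hq : 0 < a + n := by omega
  set w := wdet (a + n) m (n + 1) (Nat.succ_pos n) hnm with hw
  have hnq : n + 1 ≤ a + n := by omega
  have hJhom : (schubertVanishing K (a + n) (a + n + m) w).IsHomogeneous
      (homogeneousSubmodule (Idx (a + n) (a + n + m)) K) :=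
    CMGraded.isHomogeneous_of_homGen (homGen_schubertVanishing hq w)
  haveI hJp : (schubertVanishing K (a + n) (a + n + m) w).IsPrime := schubertVanishing_isPrime hq w
  have hx0 : (X (iota (a + n) m) : PlRing K (a + n) (a + n + m)) ∉
      schubertVanishing K (a + n) (a + n + m) w :=
    X_notMem_schubertVanishing hq w (iota (a + n) m) (botIdx_le _ w)
  have hcomap := comap_minorIdeal (K := K) hq (Nat.succ_pos n) hnq hnm
  have hker := ker_pairingMap K m n (a + n)
  -- `δ ≠ 0`
  have hδ : pairingMap K n m (a + n) (cellRho K (a + n) m (X w)) ≠ 0 := by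
    intro h0
    have h1 : cellRho K (a + n) m (X w) ∈ CAlgX.minorIdeal (genMatrix K m (a + n)) (n + 1) := by
      rw [← hker]; exact h0
    have h2 : (X w : PlRing K (a + n) (a + n + m)) ∈ schubertVanishing K (a + n) (a + n + m) w ⊔
        Ideal.span {(X (iota (a + n) m) - 1 : PlRing K (a + n) (a + n + m))} := by
      rw [← hcomap, Ideal.mem_comap]; exact h1
    have h3 := Dehom.mem_of_isHomogeneous_of_mem_sup hJhom (iota (a + n) m)
      (fun g hg => (hJp.mem_or_mem hg).resolve_left hx0) (isHomogeneous_X K w) h2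
    exact X_notMem_schubertVanishing hq w w le_rfl h3
  -- homogeneous lift of `ρ`
  obtain ⟨ρ₀, rfl⟩ := cellRho_surjective (K := K) (d := a + n) (r := m) ρ
  set ρ' := Dehom.hom (iota (a + n) m) ρ₀.totalDegree ρ₀ with hρ'
  have h1 : cellRho K (a + n) m ρ' = cellRho K (a + n) m ρ₀ := by
    have h2 : ρ' - ρ₀ ∈ RingHom.ker (cellRho K (a + n) m).toRingHom :=
      (Ideal.span_le.2 (Set.singleton_subset_iff.2 X_iota_sub_one_mem_ker))
        (Dehom.hom_sub_mem (K := K) (iota (a + n) m) (le_refl ρ₀.totalDegree))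
    rw [RingHom.mem_ker, map_sub, sub_eq_zero] at h2
    exact h2
  have hhom : ρ'.IsHomogeneous ρ₀.totalDegree := Dehom.hom_isHomogeneous _ _ _
  -- `ρ'` lies in every divisor
  have hτ : ∃ φ : Idx (a + n) (a + n + m), φ < w := by
    refine ⟨iota (a + n) m, lt_of_le_of_ne (botIdx_le _ w) ?_⟩
    intro heq
    have := congrArg (fun θ : Idx (a + n) (a + n + m) => (θ.1 ⟨0, hq⟩).val) heq
    simp only [botIdx, hw, wdet] at this
    rw [if_pos (by omega)] at this
    omega
  have hdiv : ρ' ∈ ⨅ φ : {φ : Idx (a + n) (a + n + m) // φ ∈ divisors w},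
      schubertVanishing K (a + n) (a + n + m) φ.1 := by
    rw [Ideal.mem_iInf]
    rintro ⟨φ, hφ⟩
    obtain ⟨F, _, _, ev, hev⟩ := exists_generic_point (K := K) hnm ha φ (le_of_lt hφ.1)
    rw [hev _ ρ' hhom, h1, hρ, map_mul]
    have h2 := (hev 1 (X w) (isHomogeneous_X K w)).1
      (X_mem_schubertVanishing φ w (not_le_of_gt hφ.1))
    rw [h2, zero_mul]
  rw [← sup_span_eq_iInf_divisors hq w hτ] at hdiv
  obtain ⟨j, hj, y, hy, hsum⟩ := Submodule.mem_sup.1 hdiv
  obtain ⟨s, rfl⟩ := Ideal.mem_span_singleton'.1 hy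
  have hj0 : pairingMap K n m (a + n) (cellRho K (a + n) m j) = 0 := by
    have h2 : j ∈ (CAlgX.minorIdeal (genMatrix K m (a + n)) (n + 1)).comap
        (cellRho K (a + n) m).toRingHom := by
      rw [hcomap]; exact Ideal.mem_sup_left hj
    rw [Ideal.mem_comap, ← hker] at h2
    exact h2
  have h3 : pairingMap K n m (a + n) (cellRho K (a + n) m (X w)) * h =
      pairingMap K n m (a + n) (cellRho K (a + n) m (X w)) *
        pairingMap K n m (a + n) (cellRho K (a + n) m s) := by
    rw [← hρ, ← h1, ← hsum, map_add, map_add, hj0, zero_add, map_mul, map_mul, mul_comm]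
  exact ⟨cellRho K (a + n) m s, (mul_left_cancel₀ hδ h3).symm⟩

theorem descent_pow [Infinite K] {m n a : ℕ} (hn : 1 ≤ n) (hnm : n + 1 ≤ m) (ha : 1 ≤ a) (e : ℕ) :
    ∀ (ρ : MvPolynomial (Fin m × Fin (a + n)) K) (h : PairRing K n m (a + n)),
      pairingMap K n m (a + n) ρ =
        pairingMap K n m (a + n)
          (cellRho K (a + n) m (X (wdet (a + n) m (n + 1) (Nat.succ_pos n) hnm))) ^ e * h →
      h ∈ (pairingMap K n m (a + n)).range := by
  induction e with
  | zero =>
    intro ρ h hρ
    rw [pow_zero, one_mul] at hρ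
    exact ⟨ρ, hρ⟩
  | succ e ih =>
    intro ρ h hρ
    rw [pow_succ', mul_assoc] at hρ
    obtain ⟨ρ₁, hρ₁⟩ := descent hn hnm ha ρ _ hρ
    exact ih ρ₁ h hρ₁

/-- The first fundamental theorem when the matrices are large. -/
theorem fft_large [Infinite K] {m n a : ℕ} (hn : 1 ≤ n) (hnm : n + 1 ≤ m) (ha : 1 ≤ a)
    (f : PairRing K n m (a + n))
    (hf : ∀ A : GL (Fin n) K, glTranslate K n m (a + n) A f = f) :
    f ∈ (pairingMap K n m (a + n)).range := by
  obtain ⟨s, hs⟩ := sum_compW f
  rw [hs]
  refine Subalgebra.sum_mem _ fun e _ => ?_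
  obtain ⟨ρ, hρ⟩ := exists_pairingMap_eq f hf
    (fun l : Fin n => (⟨m - n + l.val, by omega⟩ : Fin m))
    (fun l : Fin n => (⟨l.val, by omega⟩ : Fin (a + n)))
    (fun x y hxy => Fin.ext (by simpa using hxy)) e
  obtain ⟨ε, hε, hsign⟩ := cellMinor_wdet (K := K) (a := a) hnm
  set δ' := ((genMatrix K m (a + n)).submatrix (fun l : Fin n => (⟨m - n + l.val, by omega⟩ : Fin m))
    (fun l : Fin n => (⟨l.val, by omega⟩ : Fin (a + n)))).det with hδ'
  have h1 : δ' = C ε * cellRho K (a + n) m (X (wdet (a + n) m (n + 1) (Nat.succ_pos n) hnm)) := by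
    rw [cellRho_X, hsign, ← mul_assoc, ← C_mul, hε, C_1, one_mul]
  refine descent_pow hn hnm ha e (C (ε ^ e) * ρ) _ ?_
  rw [map_mul, hρ, h1, map_mul, mul_pow, ← mul_assoc, ← mul_assoc]
  congr 1
  have h2 : pairingMap K n m (a + n) (C (ε ^ e)) * pairingMap K n m (a + n) (C ε) ^ e = 1 := by
    rw [← map_pow, ← map_mul, ← C_pow, ← C_mul, ← mul_pow, hε, one_pow, C_1, map_one]
  rw [h2, one_mul]

/-! ## Reduction to large matrices -/

section Reduction

variable (K) (n m q : ℕ)

/-- Enlarging the matrices. -/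
noncomputable def incP (m' q' : ℕ) (hm : m ≤ m') (hq : q ≤ q') :
    PairRing K n m q →ₐ[K] PairRing K n m' q' :=
  aeval (Sum.elim (fun p : Fin m × Fin n => X (Sum.inl (Fin.castLE hm p.1, p.2)))
    (fun p : Fin n × Fin q => X (Sum.inr (p.1, Fin.castLE hq p.2))))

/-- Restricting to the original rows and columns. -/
noncomputable def resP (m' q' : ℕ) : PairRing K n m' q' →ₐ[K] PairRing K n m q :=
  aeval (Sum.elim
    (fun p : Fin m' × Fin n => if h : p.1.val < m then X (Sum.inl (⟨p.1.val, h⟩, p.2)) else 0)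
    (fun p : Fin n × Fin q' => if h : p.2.val < q then X (Sum.inr (p.1, ⟨p.2.val, h⟩)) else 0))

/-- Restricting the product matrix. -/
noncomputable def resY (m' q' : ℕ) :
    MvPolynomial (Fin m' × Fin q') K →ₐ[K] MvPolynomial (Fin m × Fin q) K :=
  aeval (fun p : Fin m' × Fin q' =>
    if h : p.1.val < m ∧ p.2.val < q then X (⟨p.1.val, h.1⟩, ⟨p.2.val, h.2⟩) else 0)

theorem resP_incP (m' q' : ℕ) (hm : m ≤ m') (hq : q ≤ q') (f : PairRing K n m q) :
    resP K n m q m' q' (incP K n m q m' q' hm hq f) = f := by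
  have : (resP K n m q m' q').comp (incP K n m q m' q' hm hq) = AlgHom.id K _ := by
    apply MvPolynomial.algHom_ext
    rintro (p | p)
    · simp [incP, resP]
    · simp [incP, resP]
  exact congrFun (congrArg DFunLike.coe this) f

theorem glTranslate_incP (m' q' : ℕ) (hm : m ≤ m') (hq : q ≤ q') (A : GL (Fin n) K)
    (f : PairRing K n m q) :
    glTranslate K n m' q' A (incP K n m q m' q' hm hq f) =
      incP K n m q m' q' hm hq (glTranslate K n m q A f) := by
  have : (glTranslate K n m' q' A).comp (incP K n m q m' q' hm hq) =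
      (incP K n m q m' q' hm hq).comp (glTranslate K n m q A) := by
    apply MvPolynomial.algHom_ext
    rintro (p | p)
    · simp [incP, glTranslate]
    · simp [incP, glTranslate]
  exact congrFun (congrArg DFunLike.coe this) f

theorem resP_pairingMap (m' q' : ℕ) (g : MvPolynomial (Fin m' × Fin q') K) :
    resP K n m q m' q' (pairingMap K n m' q' g) = pairingMap K n m q (resY K m q m' q' g) := by
  have : (resP K n m q m' q').comp (pairingMap K n m' q') =
      (pairingMap K n m q).comp (resY K m q m' q') := by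
    apply MvPolynomial.algHom_ext
    rintro ⟨i, j⟩
    simp only [AlgHom.comp_apply, pairingMap, resP, resY, aeval_X, map_sum, map_mul, Sum.elim_inl,
      Sum.elim_inr]
    by_cases hi : i.val < m
    · by_cases hj : j.val < q
      · rw [dif_pos ⟨hi, hj⟩, aeval_X]
        simp only [dif_pos hi, dif_pos hj]
      · rw [dif_neg (fun h => hj h.2), map_zero]
        simp only [dif_neg hj, mul_zero, Finset.sum_const_zero]
    · rw [dif_neg (fun h => hi h.1), map_zero]
      simp only [dif_neg hi, zero_mul, Finset.sum_const_zero]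
  exact congrFun (congrArg DFunLike.coe this) g

end Reduction

/-- **First fundamental theorem** for `GL_n` acting on pairs of matrices. -/
theorem fft_GL [Infinite K] (m n q : ℕ) (f : PairRing K n m q) :
    (∀ A : GL (Fin n) K, glTranslate K n m q A f = f) ↔ f ∈ (pairingMap K n m q).range := by
  constructor
  · intro hf
    rcases Nat.eq_zero_or_pos n with hn | hn
    · subst hn
      haveI : IsEmpty ((Fin m × Fin 0) ⊕ (Fin 0 × Fin q)) :=
        ⟨fun x => by rcases x with p | p; exact p.2.elim0; exact p.1.elim0⟩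
      obtain ⟨c, rfl⟩ := MvPolynomial.C_surjective _ f
      exact ⟨C c, by simp⟩
    · have hm : m ≤ m + n + 1 := by omega
      have hq : q ≤ q + 1 + n := by omega
      have hinv : ∀ A : GL (Fin n) K, glTranslate K n (m + n + 1) (q + 1 + n) A
          (incP K n m q (m + n + 1) (q + 1 + n) hm hq f) =
          incP K n m q (m + n + 1) (q + 1 + n) hm hq f := by
        intro A
        rw [glTranslate_incP, hf A]
      obtain ⟨g, hg⟩ := fft_large (K := K) (m := m + n + 1) (n := n) (a := q + 1) hn (by omega)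
        (by omega) _ hinv
      refine ⟨resY K m q (m + n + 1) (q + 1 + n) g, ?_⟩
      change pairingMap K n m q (resY K m q (m + n + 1) (q + 1 + n) g) = f
      rw [← resP_pairingMap]
      have hg' : pairingMap K n (m + n + 1) (q + 1 + n) g =
          incP K n m q (m + n + 1) (q + 1 + n) hm hq f := hg
      rw [hg', resP_incP]
  · rintro ⟨g, rfl⟩ A
    exact glTranslate_pairingMap A g

end Groth.Agent.Lib.Helper18.Plucker
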