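import Groth.Agent.Lib.Helper18.Plucker.Lead

/-! # The generic matrix of Schubert shape and the leading monomials of its minors -/

set_option autoImplicit false

namespace Groth.Agent.Lib.Helper18.Plucker

open W4bk4grassmannian Equiv MvPolynomial

variable {K : Type*} [Field K] {d n : ℕ}

/-- The generic matrix of shape `τ`: the entry `(x, t)` is a variable if `x ≤ τ_t` and zero
otherwise. -/
noncomputable def gen (τ : Idx d n) : Matrix (Fin n) (Fin d) (MatRing K d n) :=
  Matrix.of fun x t => if x ≤ τ.1 t then X (x, t) else 0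

theorem term_cases (τ : Idx d n) (a : Fin d → Fin n) :
    (∏ s : Fin d, gen (K := K) τ (a s) s) = 0 ∨
      (∏ s : Fin d, gen (K := K) τ (a s) s) = monomial (diagExp a) 1 := by
  by_cases h : ∀ s, a s ≤ τ.1 s
  · right
    rw [monomial_diagExp]
    refine Finset.prod_congr rfl fun s _ => ?_
    simp only [gen, Matrix.of_apply, if_pos (h s)]
  · left
    push_neg at h
    obtain ⟨s, hs⟩ := h
    refine Finset.prod_eq_zero (Finset.mem_univ s) ?_
    simp only [gen, Matrix.of_apply, if_neg (not_le.2 hs)]

theorem lead_minor (τ θ : Idx d n) (h : θ ≤ τ) :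
    Lead (((gen (K := K) τ).submatrix θ.1 id).det) (diagExp θ.1) := by
  have hdet : ((gen (K := K) τ).submatrix θ.1 id).det =
      ∑ σ : Perm (Fin d), C (((Perm.sign σ : ℤ) : K)) * ∏ s : Fin d, gen τ (θ.1 (σ s)) s := by
    rw [Matrix.det_apply']
    refine Finset.sum_congr rfl fun σ _ => ?_
    congr 1
  have hone : (∏ s : Fin d, gen (K := K) τ (θ.1 ((1 : Perm (Fin d)) s)) s) =
      monomial (diagExp θ.1) 1 := by
    rw [monomial_diagExp]
    refine Finset.prod_congr rfl fun s _ => ?_
    simp only [Perm.coe_one, id, gen, Matrix.of_apply, if_pos (h s)]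
  have hcoeff : ∀ (u : (Fin n × Fin d) →₀ ℕ) (σ : Perm (Fin d)),
      coeff u (C (((Perm.sign σ : ℤ) : K)) * ∏ s : Fin d, gen τ (θ.1 (σ s)) s) ≠ 0 →
        u = diagExp (θ.1 ∘ σ) := by
    intro u σ hne
    rcases term_cases (K := K) τ (θ.1 ∘ σ) with h0 | h1
    · simp only [Function.comp_apply] at h0
      rw [h0, mul_zero, coeff_zero] at hne
      exact absurd rfl hne
    · simp only [Function.comp_apply] at h1
      rw [h1, coeff_C_mul, coeff_monomial] at hne
      by_contra hu
      rw [if_neg (Ne.symm hu), mul_zero] at hne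
      exact hne rfl
  constructor
  · rw [hdet, coeff_sum, Finset.sum_eq_single (1 : Perm (Fin d))]
    · rw [hone, Perm.sign_one]
      simp
    · intro σ _ hσ
      by_contra hne
      have := hcoeff _ σ hne
      have hlt := wt_lt_of_ne_one θ σ hσ
      rw [← this] at hlt
      exact lt_irrefl _ hlt
    · intro h; exact absurd (Finset.mem_univ _) h
  · intro u hu hne
    rw [hdet, coeff_sum] at hu
    obtain ⟨σ, _, hσ⟩ := Finset.exists_ne_zero_of_sum_ne_zero hu
    have hu' := hcoeff u σ hσ
    have hσ1 : σ ≠ 1 := by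
      rintro rfl
      apply hne
      rw [hu']
      rfl
    rw [hu']
    exact wt_lt_of_ne_one θ σ hσ1

/-- Evaluation of Plücker polynomials at the minors of the generic matrix of shape `τ`. -/
noncomputable def evalGen (τ : Idx d n) : PlRing K d n →ₐ[K] MatRing K d n :=
  MvPolynomial.aeval fun θ : Idx d n => ((gen (K := K) τ).submatrix θ.1 id).det

/-- The diagonal exponent of a tuple of indices. -/
noncomputable def chainExp {m : ℕ} (c : Fin m → Idx d n) : (Fin n × Fin d) →₀ ℕ :=
  ∑ k : Fin m, diagExp (c k).1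

theorem lead_chainMon (τ : Idx d n) {m : ℕ} (c : Fin m → Idx d n) (hc : ∀ k, c k ≤ τ) :
    Lead (evalGen (K := K) τ (chainMon K c)) (chainExp c) := by
  unfold chainMon chainExp
  rw [map_prod]
  refine Lead.prod _ _ _ fun k _ => ?_
  unfold evalGen
  rw [aeval_X]
  exact lead_minor τ (c k) (hc k)

end Groth.Agent.Lib.Helper18.Plucker
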