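import Groth.Agent.Lib.Helper18.Plucker.Basis
import Groth.Agent.Lib.Helper18.Plucker.ShufRel

/-! # Comparing ideals through standard monomials -/

set_option autoImplicit false

namespace Groth.Agent.Lib.Helper18.Plucker

open W4bk4grassmannian Equiv MvPolynomial

variable {K : Type*} [Field K] {d n : ℕ}

/-- `std_indep` for an arbitrary index type of Schubert conditions. -/
theorem std_indep' [Infinite K] (hd : 0 < d) {κ : Type*} (τs : κ → Idx d n) {ι : Type*}
    (ch : ι → Chain d n) (hinj : Function.Injective ch)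
    (hle : ∀ i, ∃ j, ∀ k, (ch i).2.1 k ≤ τs j) :
    LinearIndependent K (fun i : ι =>
      Ideal.Quotient.mk (⨅ j, schubertVanishing K d n (τs j)) (chainMon K (ch i).2.1)) := by
  classical
  rw [linearIndependent_iff']
  intro s g hsum i₀ hi₀
  have hmem : ∑ i ∈ s, g i • chainMon K (ch i).2.1 ∈ ⨅ j, schubertVanishing K d n (τs j) := by
    rw [← Ideal.Quotient.eq_zero_iff_mem, map_sum, ← hsum]
    refine Finset.sum_congr rfl fun i _ => ?_
    rw [← Ideal.Quotient.mkₐ_eq_mk K, map_smul]
  obtain ⟨j, hj⟩ := hle i₀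
  rw [Ideal.mem_iInf] at hmem
  have hmemj := hmem j
  set s₁ := s.filter fun i => ∀ k, (ch i).2.1 k ≤ τs j with hs₁
  have hsplit : ∑ i ∈ s, g i • chainMon K (ch i).2.1 =
      ∑ i ∈ s₁, g i • chainMon K (ch i).2.1 +
        ∑ i ∈ s.filter (fun i => ¬ ∀ k, (ch i).2.1 k ≤ τs j), g i • chainMon K (ch i).2.1 :=
    (Finset.sum_filter_add_sum_filter_not s _ _).symm
  have hrest : ∑ i ∈ s.filter (fun i => ¬ ∀ k, (ch i).2.1 k ≤ τs j),
      g i • chainMon K (ch i).2.1 ∈ schubertVanishing K d n (τs j) := by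
    refine Ideal.sum_mem _ fun i hi => ?_
    rw [Finset.mem_filter] at hi
    obtain ⟨k, hk⟩ := not_forall.1 hi.2
    rw [smul_eq_C_mul]
    exact Ideal.mul_mem_left _ _
      (chainMon_mem_of_X_mem _ _ k (X_mem_schubertVanishing (τs j) _ hk))
  have h1 : ∑ i ∈ s₁, g i • chainMon K (ch i).2.1 ∈ schubertVanishing K d n (τs j) := by
    have := (Ideal.add_mem_iff_left _ hrest).1 (hsplit ▸ hmemj)
    exact this
  refine indep_core hd (τs j) s₁ ch (fun a _ b _ h => hinj h) ?_ g h1 i₀ ?_
  · intro i hi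
    exact (Finset.mem_filter.1 hi).2
  · exact Finset.mem_filter.2 ⟨hi₀, hj⟩

/-- Smaller Schubert variety, bigger ideal. -/
theorem schubertVanishing_anti {τ τ' : Idx d n} (h : τ ≤ τ') :
    schubertVanishing K d n τ' ≤ schubertVanishing K d n τ := by
  unfold schubertVanishing
  refine le_iInf fun A => le_iInf fun hA => ?_
  exact iInf₂_le A (fun φ hφ => hA φ (fun hle => hφ (hle.trans h)))

theorem schubertVanishing_isRadical (τ : Idx d n) : (schubertVanishing K d n τ).IsRadical := by
  intro f hf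
  obtain ⟨m, hm⟩ := hf
  unfold schubertVanishing at hm ⊢
  simp only [Ideal.mem_iInf] at hm ⊢
  intro A hA
  have := hm A hA
  rw [RingHom.mem_ker] at this ⊢
  rw [map_pow] at this
  exact pow_eq_zero_iff (M₀ := K) (by
    rintro rfl
    rw [pow_zero] at this
    exact one_ne_zero this) |>.1 this

theorem plIdealTop_le_schubertVanishing (τ : Idx d n) :
    plIdealTop (d := d) (n := n) K ≤ schubertVanishing K d n τ :=
  plIdealTop_le_vanishing.trans (vanishing_le_schubertVanishing τ)

/-- If `I ≤ J` both contain the shuffle relations, the standard monomials outside `p` lie in `I`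
and those in `p` are independent modulo `J`, then `I = J`. -/
theorem eq_of_std (I J : Ideal (PlRing K d n)) (hI : plIdealTop (d := d) (n := n) K ≤ I)
    (hIJ : I ≤ J) (p : Chain d n → Prop) (hp : ∀ c : Chain d n, ¬ p c → chainMon K c.2.1 ∈ I)
    (hind : LinearIndependent K (fun c : {c : Chain d n // p c} =>
      Ideal.Quotient.mk J (chainMon K c.1.2.1))) : I = J := by
  classical
  refine le_antisymm hIJ fun f hf => ?_
  have hspan := span_std_eq_top I hI p hp
  have hset : {x | ∃ c : Chain d n, p c ∧ x = Ideal.Quotient.mk I (chainMon K c.2.1)} =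
      Set.range (fun c : {c : Chain d n // p c} => Ideal.Quotient.mk I (chainMon K c.1.2.1)) := by
    ext x
    constructor
    · rintro ⟨c, hc, rfl⟩
      exact ⟨⟨c, hc⟩, rfl⟩
    · rintro ⟨c, rfl⟩
      exact ⟨c.1, c.2, rfl⟩
  rw [hset] at hspan
  have hmem : Ideal.Quotient.mk I f ∈ Submodule.span K (Set.range
      (fun c : {c : Chain d n // p c} => Ideal.Quotient.mk I (chainMon K c.1.2.1))) := by
    rw [hspan]; trivial
  rw [Finsupp.mem_span_range_iff_exists_finsupp] at hmem
  obtain ⟨a, ha⟩ := hmem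
  set g : PlRing K d n := a.sum (fun c x => x • chainMon K c.1.2.1) with hg
  have hgI : Ideal.Quotient.mk I g = Ideal.Quotient.mk I f := by
    rw [← ha, hg, Finsupp.sum, Finsupp.sum, map_sum]
    refine Finset.sum_congr rfl fun c _ => ?_
    rw [← Ideal.Quotient.mkₐ_eq_mk K, map_smul]
  have hfg : g - f ∈ I := (Ideal.Quotient.eq).1 hgI
  have hgJ : g ∈ J := by
    have := J.add_mem (hIJ hfg) hf
    rwa [sub_add_cancel] at this
  have h0 : Finsupp.linearCombination K (fun c : {c : Chain d n // p c} =>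
      Ideal.Quotient.mk J (chainMon K c.1.2.1)) a = 0 := by
    rw [Finsupp.linearCombination_apply]
    rw [← Ideal.Quotient.eq_zero_iff_mem, hg, Finsupp.sum, map_sum] at hgJ
    rw [Finsupp.sum, ← hgJ]
    refine Finset.sum_congr rfl fun c _ => ?_
    rw [← Ideal.Quotient.mkₐ_eq_mk K, map_smul]
  have ha0 : a = 0 := (linearIndependent_iff.1 hind) a h0
  have hg0 : g = 0 := by rw [hg, ha0, Finsupp.sum_zero_index]
  rw [hg0, zero_sub] at hfg
  simpa using I.neg_mem hfg

end Groth.Agent.Lib.Helper18.Plucker
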