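import Groth.Agent.Lib.Helper18.Plucker.EvalGen

/-! # Linear independence of the standard monomials on a Schubert variety -/

set_option autoImplicit false

namespace Groth.Agent.Lib.Helper18.Plucker

open W4bk4grassmannian Equiv MvPolynomial

variable {K : Type*} [Field K] {d n : ℕ}

theorem diagExp_apply (a : Fin d → Fin n) (x : Fin n) (t : Fin d) :
    diagExp a (x, t) = if a t = x then 1 else 0 := by
  unfold diagExp
  rw [Finsupp.finset_sum_apply]
  simp only [Finsupp.single_apply, Prod.mk.injEq]
  rw [Finset.sum_eq_single t]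
  · simp
  · intro s _ hs
    rw [if_neg]
    rintro ⟨-, h⟩
    exact hs h
  · intro h; exact absurd (Finset.mem_univ _) h

theorem chainExp_apply {m : ℕ} (c : Fin m → Idx d n) (x : Fin n) (t : Fin d) :
    chainExp c (x, t) = (Finset.univ.filter fun k : Fin m => (c k).1 t = x).card := by
  unfold chainExp
  rw [Finsupp.finset_sum_apply, Finset.card_filter]
  exact Finset.sum_congr rfl fun k _ => diagExp_apply _ _ _

theorem eq_of_antitone_of_count {m : ℕ} (a a' : Fin m → Fin n) (ha : Antitone a)
    (ha' : Antitone a')
    (h : ∀ x, (Finset.univ.filter fun k : Fin m => a k = x).card =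
      (Finset.univ.filter fun k : Fin m => a' k = x).card) : a = a' := by
  have hperm : (List.ofFn a).Perm (List.ofFn a') := by
    rw [← Multiset.coe_eq_coe, ← Fin.univ_val_map, ← Fin.univ_val_map]
    ext x
    rw [Multiset.count_map, Multiset.count_map]
    have e1 : Multiset.card (Multiset.filter (fun k => x = a k) (Finset.univ : Finset (Fin m)).val) =
        (Finset.univ.filter fun k : Fin m => a k = x).card := by
      rw [← Finset.filter_val, Finset.card_def]
      congr 2
      ext k; simp [eq_comm]
    have e2 : Multiset.card (Multiset.filter (fun k => x = a' k) (Finset.univ : Finset (Fin m)).val) =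
        (Finset.univ.filter fun k : Fin m => a' k = x).card := by
      rw [← Finset.filter_val, Finset.card_def]
      congr 2
      ext k; simp [eq_comm]
    rw [e1, e2, h]
  have hs : (List.ofFn a).Pairwise (· ≥ ·) := by
    rw [List.pairwise_ofFn]
    intro i j hij
    exact ha hij.le
  have hs' : (List.ofFn a').Pairwise (· ≥ ·) := by
    rw [List.pairwise_ofFn]
    intro i j hij
    exact ha' hij.le
  exact List.ofFn_injective (hperm.eq_of_pairwise' hs hs')

/-- The diagonal exponent determines the chain. -/
theorem chain_eq_of_chainExp_eq (hd : 0 < d)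
    (c c' : Σ m : ℕ, {c : Fin m → Idx d n // Antitone c})
    (h : chainExp c.2.1 = chainExp c'.2.1) : c = c' := by
  obtain ⟨m, c, hc⟩ := c
  obtain ⟨m', c', hc'⟩ := c'
  simp only at h
  have hm : ∀ (m : ℕ) (c : Fin m → Idx d n),
      ∑ x : Fin n, chainExp c (x, ⟨0, hd⟩) = m := by
    intro m c
    simp_rw [chainExp_apply]
    rw [← Finset.card_eq_sum_card_fiberwise (f := fun k : Fin m => (c k).1 ⟨0, hd⟩)
      (s := Finset.univ) (t := Finset.univ) (fun _ _ => Finset.mem_univ _)]
    simp
  have hmm : m = m' := by
    rw [← hm m c, ← hm m' c', h]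
  subst hmm
  have hcc : c = c' := by
    funext k
    apply Subtype.ext
    funext t
    have := eq_of_antitone_of_count (fun k => (c k).1 t) (fun k => (c' k).1 t)
      (fun i j hij => hc hij t) (fun i j hij => hc' hij t) (fun x => by
        rw [← chainExp_apply, ← chainExp_apply, h])
    exact congrFun this k
  subst hcc
  rfl

/-- The core independence statement: a combination of distinct standard monomials below `τ`
which vanishes on the Schubert variety of `τ` has zero coefficients. -/
theorem indep_core [Infinite K] (hd : 0 < d) (τ : Idx d n) {ι : Type*} (F : Finset ι)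
    (ch : ι → Σ m : ℕ, {c : Fin m → Idx d n // Antitone c})
    (hinj : Set.InjOn ch F) (hle : ∀ i ∈ F, ∀ k, (ch i).2.1 k ≤ τ) (a : ι → K)
    (h : ∑ i ∈ F, a i • chainMon K (ch i).2.1 ∈ schubertVanishing K d n τ) :
    ∀ i ∈ F, a i = 0 := by
  classical
  by_contra hcon
  push_neg at hcon
  have hne : (F.filter fun i => a i ≠ 0).Nonempty := by
    obtain ⟨i, hi, hai⟩ := hcon
    exact ⟨i, Finset.mem_filter.2 ⟨hi, hai⟩⟩
  obtain ⟨i₀, hi₀, hmin⟩ := (F.filter fun i => a i ≠ 0).exists_min_image
    (fun i => wt (d := d) (n := n) (chainExp (ch i).2.1)) hne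
  rw [Finset.mem_filter] at hi₀
  have h0 := evalGen_eq_zero_of_mem τ _ h
  rw [map_sum] at h0
  have hc0 := congrArg (coeff (chainExp (ch i₀).2.1)) h0
  rw [coeff_sum, coeff_zero, Finset.sum_eq_single i₀] at hc0
  · rw [map_smul, coeff_smul, (lead_chainMon τ _ (hle i₀ hi₀.1)).1, smul_eq_mul, mul_one] at hc0
    exact hi₀.2 hc0
  · intro i hi hne'
    rw [map_smul, coeff_smul, smul_eq_mul]
    by_cases hai : a i = 0
    · rw [hai, zero_mul]
    · by_contra hcoef
      have hcoef' : coeff (chainExp (ch i₀).2.1) (evalGen τ (chainMon K (ch i).2.1)) ≠ 0 :=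
        fun h => hcoef (by rw [h, mul_zero])
      have hdiff : chainExp (ch i₀).2.1 ≠ chainExp (ch i).2.1 := by
        intro heq
        exact hne' (hinj hi hi₀.1 (chain_eq_of_chainExp_eq hd _ _ heq).symm)
      have hlt := (lead_chainMon (K := K) τ _ (hle i hi)).2 _ hcoef' hdiff
      have hge := hmin i (Finset.mem_filter.2 ⟨hi, hai⟩)
      omega
  · intro h; exact absurd hi₀.1 h

end Groth.Agent.Lib.Helper18.Plucker
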