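import Groth.Agent.Lib.Helper18.Plucker.Alt

/-! # Minors of a matrix satisfy the Plücker quadrics -/

set_option autoImplicit false

namespace Groth.Agent.Lib.Helper18.Plucker

open W4bk4grassmannian Equiv

variable {K : Type*} [CommRing K] {e n : ℕ}

/-- The evaluated quadric, in terms of the alternating extension. -/
theorem eval_quadric (q : Idx (e + 1) n → K) (i' : Idx e n) (j' : Idx (e + 2) n) :
    MvPolynomial.eval q (quadric K i' j') =
      ∑ h : Fin (e + 2), (-1 : K) ^ (h.val + 1) * altExt q (Fin.snoc i'.1 (j'.1 h)) *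
        altExt q (j'.1 ∘ h.succAbove) := by
  unfold quadric
  rw [map_sum]
  refine Finset.sum_congr rfl fun h _ => ?_
  rw [map_mul, map_mul, eval_coord, eval_coord, map_pow, map_neg, map_one]

/-- The determinantal identity behind the Plücker quadrics, for arbitrary tuples of rows. -/
theorem minor_quadric (A : Matrix (Fin n) (Fin (e + 1)) K) (i' : Fin e → Fin n)
    (j' : Fin (e + 2) → Fin n) :
    ∑ h : Fin (e + 2), (-1 : K) ^ (h.val + 1) *
        (A.submatrix (Fin.snoc i' (j' h) : Fin (e + 1) → Fin n) id).det *
        (A.submatrix (j' ∘ h.succAbove) id).det = 0 := by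
  -- expand the first determinant along its last row
  have hrow : ∀ x : Fin n, (A.submatrix (Fin.snoc i' x : Fin (e + 1) → Fin n) id).det =
      ∑ c : Fin (e + 1), (-1 : K) ^ (e + c.val) * A x c * (A.submatrix i' c.succAbove).det := by
    intro x
    rw [Matrix.det_succ_row _ (Fin.last e)]
    refine Finset.sum_congr rfl fun c _ => ?_
    have h1 : (A.submatrix (Fin.snoc i' x : Fin (e + 1) → Fin n) id) (Fin.last e) c = A x c := by
      simp [Matrix.submatrix_apply]
    have h2 : (A.submatrix (Fin.snoc i' x : Fin (e + 1) → Fin n) id).submatrix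
        (Fin.last e).succAbove c.succAbove = A.submatrix i' c.succAbove := by
      ext s t
      simp [Matrix.submatrix_apply, Fin.succAbove_last]
    rw [h1, h2, Fin.val_last]
  -- the matrix with a repeated column
  have hN : ∀ c : Fin (e + 1),
      ∑ h : Fin (e + 2), (-1 : K) ^ (h.val) * A (j' h) c * (A.submatrix (j' ∘ h.succAbove) id).det
        = 0 := by
    intro c
    let N : Matrix (Fin (e + 2)) (Fin (e + 2)) K :=
      Matrix.of fun h col => (Fin.cons (A (j' h) c) (fun t => A (j' h) t) : Fin (e + 2) → K) col
    have hdet : N.det = 0 := by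
      refine Matrix.det_zero_of_column_eq (i := 0) (j := c.succ) (Fin.succ_ne_zero c).symm ?_
      intro h
      simp [N]
    rw [Matrix.det_succ_column_zero] at hdet
    rw [← hdet]
    refine Finset.sum_congr rfl fun h _ => ?_
    have h1 : N h 0 = A (j' h) c := by simp [N]
    have h2 : N.submatrix h.succAbove Fin.succ = A.submatrix (j' ∘ h.succAbove) id := by
      ext s t
      simp [N, Matrix.submatrix_apply]
    rw [h1, h2]
  have hterm : ∀ h : Fin (e + 2), (-1 : K) ^ (h.val + 1) *
        (A.submatrix (Fin.snoc i' (j' h) : Fin (e + 1) → Fin n) id).det *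
        (A.submatrix (j' ∘ h.succAbove) id).det =
      ∑ c : Fin (e + 1), (-1 : K) ^ (h.val + 1) *
        ((-1 : K) ^ (e + c.val) * A (j' h) c * (A.submatrix i' c.succAbove).det) *
          (A.submatrix (j' ∘ h.succAbove) id).det := by
    intro h
    rw [hrow, Finset.mul_sum, Finset.sum_mul]
  rw [Finset.sum_congr rfl (fun h _ => hterm h), Finset.sum_comm]
  refine Finset.sum_eq_zero fun c _ => ?_
  have := hN c
  calc ∑ h : Fin (e + 2), (-1 : K) ^ (h.val + 1) *
        ((-1 : K) ^ (e + c.val) * A (j' h) c * (A.submatrix i' c.succAbove).det) *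
          (A.submatrix (j' ∘ h.succAbove) id).det
      = (-(-1 : K) ^ (e + c.val) * (A.submatrix i' c.succAbove).det) *
          ∑ h : Fin (e + 2), (-1 : K) ^ (h.val) * A (j' h) c *
            (A.submatrix (j' ∘ h.succAbove) id).det := by
        rw [Finset.mul_sum]
        refine Finset.sum_congr rfl fun h _ => ?_
        rw [pow_succ]
        ring
    _ = 0 := by rw [this, mul_zero]

/-- The minors of a matrix satisfy all the quadrics. -/
theorem eval_quadric_of_minors (A : Matrix (Fin n) (Fin (e + 1)) K) (q : Idx (e + 1) n → K)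
    (hq : ∀ θ : Idx (e + 1) n, q θ = (A.submatrix θ.1 id).det) (i' : Idx e n)
    (j' : Idx (e + 2) n) : MvPolynomial.eval q (quadric K i' j') = 0 := by
  have hext : altExt q = fun a : Fin (e + 1) → Fin n => (A.submatrix a id).det := by
    refine IsAlt.ext (isAlt_altExt q) (isAlt_minor A) fun a ha => ?_
    have := altExt_of_strictMono q ⟨a, ha⟩
    rw [this, hq]
  rw [eval_quadric, hext]
  exact minor_quadric A i'.1 j'.1

end Groth.Agent.Lib.Helper18.Plucker
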