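import Groth.Agent.Lib.Helper18.Plucker.Alt

/-! # Leading (minimal weight) monomials of minors of a generic Schubert-shaped matrix -/

set_option autoImplicit false

namespace Groth.Agent.Lib.Helper18.Plucker

open W4bk4grassmannian Equiv MvPolynomial

variable {K : Type*} [Field K] {d n : ℕ}

/-- The weight of a monomial of the matrix ring: the variable `x_{x,t}` has weight `x (d - t)`. -/
noncomputable def wt : ((Fin n × Fin d) →₀ ℕ) →ₗ[ℕ] ℕ :=
  Finsupp.linearCombination ℕ (fun p : Fin n × Fin d => (p.1 : ℕ) * (d - (p.2 : ℕ)))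

/-- `f` has the monomial `u₀` with coefficient one, all other monomials having larger weight. -/
def Lead (f : MatRing K d n) (u₀ : (Fin n × Fin d) →₀ ℕ) : Prop :=
  coeff u₀ f = 1 ∧ ∀ u, coeff u f ≠ 0 → u ≠ u₀ → wt (d := d) (n := n) u₀ < wt u

theorem lead_one : Lead (1 : MatRing K d n) 0 := by
  refine ⟨by simp, fun u hu hne => ?_⟩
  rw [MvPolynomial.coeff_one] at hu
  split_ifs at hu with h
  · exact absurd h.symm hne
  · exact absurd rfl hu

theorem Lead.mul {f g : MatRing K d n} {u₀ v₀ : (Fin n × Fin d) →₀ ℕ} (hf : Lead f u₀)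
    (hg : Lead g v₀) : Lead (f * g) (u₀ + v₀) := by
  classical
  have key : ∀ p q : (Fin n × Fin d) →₀ ℕ, coeff p f ≠ 0 → coeff q g ≠ 0 →
      (p, q) ≠ (u₀, v₀) → wt (d := d) (n := n) (u₀ + v₀) < wt (p + q) := by
    intro p q hp hq hne
    rw [map_add, map_add]
    by_cases hpu : p = u₀
    · have hqv : q ≠ v₀ := fun h => hne (by rw [hpu, h])
      have := hg.2 q hq hqv
      rw [hpu]
      omega
    · have h1 := hf.2 p hp hpu
      by_cases hqv : q = v₀
      · rw [hqv]; omega
      · have := hg.2 q hq hqv
        omega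
  constructor
  · have hmem : (u₀, v₀) ∈ Finset.HasAntidiagonal.antidiagonal (u₀ + v₀) :=
      Finset.HasAntidiagonal.mem_antidiagonal.2 (show (u₀, v₀).1 + (u₀, v₀).2 = u₀ + v₀ from rfl)
    rw [coeff_mul, Finset.sum_eq_single_of_mem (u₀, v₀) hmem]
    · rw [hf.1, hg.1, mul_one]
    · rintro ⟨p, q⟩ hpq hne
      rw [Finset.HasAntidiagonal.mem_antidiagonal] at hpq
      by_contra hcon
      have hp : coeff p f ≠ 0 := fun h => hcon (by simp [h])
      have hq : coeff q g ≠ 0 := fun h => hcon (by simp [h])
      have := key p q hp hq hne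
      simp only at hpq
      rw [hpq] at this
      exact lt_irrefl _ this
  · intro u hu hne
    rw [coeff_mul] at hu
    obtain ⟨⟨p, q⟩, hpq, hterm⟩ := Finset.exists_ne_zero_of_sum_ne_zero hu
    rw [Finset.HasAntidiagonal.mem_antidiagonal] at hpq
    simp only at hpq hterm
    have hp : coeff p f ≠ 0 := fun h => hterm (by simp [h])
    have hq : coeff q g ≠ 0 := fun h => hterm (by simp [h])
    rw [← hpq]
    refine key p q hp hq ?_
    intro h
    apply hne
    rw [← hpq]
    simp only [Prod.mk.injEq] at h
    rw [h.1, h.2]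

theorem Lead.prod {ι : Type*} (s : Finset ι) (f : ι → MatRing K d n)
    (u : ι → (Fin n × Fin d) →₀ ℕ) (h : ∀ i ∈ s, Lead (f i) (u i)) :
    Lead (∏ i ∈ s, f i) (∑ i ∈ s, u i) := by
  classical
  induction s using Finset.induction_on with
  | empty => simpa using lead_one
  | insert a s ha ih =>
    rw [Finset.prod_insert ha, Finset.sum_insert ha]
    exact (h a (Finset.mem_insert_self a s)).mul
      (ih fun i hi => h i (Finset.mem_insert_of_mem hi))

/-- The diagonal exponent of a tuple of rows. -/
noncomputable def diagExp (a : Fin d → Fin n) : (Fin n × Fin d) →₀ ℕ :=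
  ∑ s : Fin d, Finsupp.single (a s, s) 1

theorem wt_diagExp (a : Fin d → Fin n) :
    wt (diagExp a) = ∑ s : Fin d, (a s : ℕ) * (d - (s : ℕ)) := by
  unfold diagExp wt
  rw [map_sum]
  refine Finset.sum_congr rfl fun s _ => ?_
  rw [Finsupp.linearCombination_single, one_smul]

theorem monomial_diagExp (a : Fin d → Fin n) :
    (monomial (diagExp a) 1 : MatRing K d n) = ∏ s : Fin d, X (a s, s) := by
  unfold diagExp
  rw [monomial_sum_one]
  rfl

/-- Rearrangement: the identity uniquely minimises the weight. -/
theorem wt_lt_of_ne_one (θ : Idx d n) (σ : Perm (Fin d)) (hσ : σ ≠ 1) :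
    wt (diagExp θ.1) < wt (diagExp (θ.1 ∘ σ)) := by
  rw [wt_diagExp, wt_diagExp]
  have hanti : Antivary (fun s : Fin d => ((θ.1 s : Fin n) : ℕ)) (fun s : Fin d => d - (s : ℕ)) := by
    intro i j hij
    have hji : j < i := by
      rw [Fin.lt_def]
      have := i.isLt
      have := j.isLt
      simp only at hij
      omega
    exact (θ.2 hji).le
  have := (hanti.sum_mul_lt_sum_comp_perm_mul_iff (σ := σ)).2 ?_
  · exact this
  · intro hanti'
    apply hσ
    have hmono : Monotone σ := by
      intro j i hji
      by_contra hlt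
      push_neg at hlt
      rcases hji.lt_or_eq with hji' | rfl
      · have hg : (fun s : Fin d => d - (s : ℕ)) i < (fun s : Fin d => d - (s : ℕ)) j := by
          have := i.isLt
          have := j.isLt
          simp only
          rw [Fin.lt_def] at hji'
          omega
        have := hanti' hg
        simp only [Function.comp_apply] at this
        have h2 := θ.2 hlt
        rw [Fin.lt_def] at h2
        omega
      · exact lt_irrefl _ hlt
    have hsm : StrictMono σ := hmono.strictMono_of_injective σ.injective
    ext s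
    have := (StrictMono.range_inj hsm strictMono_id).1 (by
      rw [Set.range_id, σ.surjective.range_eq])
    rw [this]
    rfl

end Groth.Agent.Lib.Helper18.Plucker
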