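import Groth.Agent.Lib.Helper18.Plucker.Recon
import Groth.Agent.Lib.Helper18.Plucker.Laplace

/-! # The Plücker quadrics cut out the Grassmannian set-theoretically -/

set_option autoImplicit false

namespace Groth.Agent.Lib.Helper18.Plucker

open W4bk4grassmannian Equiv

variable {K : Type*} [Field K] {e n : ℕ}

theorem exists_matrix_of_quadrics (q : Idx (e + 1) n → K) (hq : q ≠ 0)
    (h : ∀ (i' : Idx e n) (j' : Idx (e + 2) n), MvPolynomial.eval q (quadric K i' j') = 0) :
    ∃ A : Matrix (Fin n) (Fin (e + 1)) K, ∀ θ : Idx (e + 1) n, q θ = (A.submatrix θ.1 id).det := by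
  set p := altExt q with hpdef
  have hp : IsAlt p := isAlt_altExt q
  have hsorted : ∀ (i' : Idx e n) (j' : Idx (e + 2) n), quadAll p i'.1 j'.1 = 0 := by
    intro i' j'
    have := h i' j'
    rw [eval_quadric] at this
    unfold quadAll quadG
    beta_reduce
    rw [← neg_eq_zero, ← Finset.sum_neg_distrib, ← this]
    refine Finset.sum_congr rfl fun h _ => ?_
    rw [pow_succ]
    ring
  have hall := quadAll_eq_zero hp hsorted
  obtain ⟨θ₀, hθ₀⟩ : ∃ θ₀ : Idx (e + 1) n, q θ₀ ≠ 0 := by
    by_contra hcon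
    push_neg at hcon
    exact hq (funext hcon)
  have h0 : p θ₀.1 ≠ 0 := by
    rw [hpdef, altExt_of_strictMono]
    exact hθ₀
  have hex := fun i' x => exchange hp hall θ₀.1 i' x
  have hmin := eq_minor_recon hp θ₀.1 h0 hex
  set B := recon p θ₀.1 with hB
  set c := p θ₀.1 with hc
  let v : Fin (e + 1) → K := fun k => if k = 0 then c else 1
  refine ⟨Matrix.of fun x k => v k * B x k, fun θ => ?_⟩
  have h1 : (Matrix.of fun x k => v k * B x k).submatrix θ.1 id =
      Matrix.of fun i j => v j * (B.submatrix θ.1 id) i j := by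
    ext i j
    simp [Matrix.submatrix_apply]
  have hv : ∏ k, v k = c := by
    rw [Fin.prod_univ_succ]
    simp [v, Fin.succ_ne_zero]
  rw [h1, Matrix.det_mul_row, hv, ← hmin, hpdef, altExt_of_strictMono]

end Groth.Agent.Lib.Helper18.Plucker
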