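import Groth.Agent.Lib.Helper18.Plucker.Cell2

/-! # Normality of Schubert varieties -/

set_option autoImplicit false

namespace Groth.Agent.Lib.Helper18.Plucker

open W4bk4grassmannian MvPolynomial Equiv

universe u

/-! ## A normality criterion -/

section Criterion

variable {R : Type*} [CommRing R] [IsDomain R]

/-- If `(x)` is radical, an integral element `α = a / x^k` of the fraction field lies in `R`. -/
theorem exists_eq_of_mul_pow_eq (x : R) (hx : x ≠ 0) (hrad : (Ideal.span {x}).IsRadical)
    (α : FractionRing R) (hα : IsIntegral R α) :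
    ∀ (k : ℕ) (a : R), α * algebraMap R (FractionRing R) x ^ k = algebraMap R _ a →
      ∃ r : R, algebraMap R (FractionRing R) r = α := by
  have hinj : Function.Injective (algebraMap R (FractionRing R)) :=
    IsFractionRing.injective R (FractionRing R)
  have hx' : algebraMap R (FractionRing R) x ≠ 0 := fun h => hx (hinj (by rw [h, map_zero]))
  intro k
  induction k with
  | zero =>
    intro a h
    rw [pow_zero, mul_one] at h
    exact ⟨a, h.symm⟩
  | succ k ih =>
    intro a h
    obtain ⟨p, hp, hpα⟩ := hα
    set m := p.natDegree with hm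
    set s : R := x ^ (k + 1) with hs
    have h1 := Polynomial.scaleRoots_eval₂_eq_zero (algebraMap R (FractionRing R)) (s := s) hpα
    have h2 : algebraMap R (FractionRing R) s * α = algebraMap R _ a := by
      rw [hs, map_pow, mul_comm]; exact h
    rw [h2, Polynomial.eval₂_at_apply] at h1
    have h3 : Polynomial.eval a (p.scaleRoots s) = 0 := hinj (by rw [h1, map_zero])
    rw [Polynomial.eval_eq_sum_range, Polynomial.natDegree_scaleRoots, Finset.sum_range_succ,
      Polynomial.coeff_scaleRoots, ← hm, Nat.sub_self, pow_zero, mul_one,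
      hp.coeff_natDegree, one_mul] at h3
    have h4 : a ^ m ∈ Ideal.span {x} := by
      have h5 : a ^ m = - ∑ i ∈ Finset.range m, (p.scaleRoots s).coeff i * a ^ i := by
        linear_combination h3
      rw [h5]
      refine (Ideal.span {x}).neg_mem (Ideal.sum_mem _ fun i hi => ?_)
      rw [Polynomial.coeff_scaleRoots, ← hm]
      have hi' : i < m := Finset.mem_range.1 hi
      have h6 : s ^ (m - i) = x * (x ^ k * s ^ (m - i - 1)) := by
        have : m - i = (m - i - 1) + 1 := by omega
        conv_lhs => rw [this, pow_succ, hs, pow_succ]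
        ring
      rw [h6]
      have : p.coeff i * (x * (x ^ k * s ^ (m - i - 1))) * a ^ i =
          (p.coeff i * (x ^ k * s ^ (m - i - 1)) * a ^ i) * x := by ring
      rw [this]
      exact Ideal.mul_mem_left _ _ (Ideal.subset_span rfl)
    have h7 : a ∈ Ideal.span {x} := hrad ⟨m, h4⟩
    obtain ⟨a', rfl⟩ := Ideal.mem_span_singleton'.1 h7
    refine ih a' ?_
    rw [pow_succ, ← mul_assoc, map_mul] at h
    exact mul_right_cancel₀ hx' h

/-- A domain embedded in an integrally closed domain `P`, with `(x)` radical and every element of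
`P` becoming a value after multiplication by a power of the image of `x`, is integrally closed. -/
theorem isIntegrallyClosed_of_embedding {P : Type*} [CommRing P] [IsDomain P]
    [IsIntegrallyClosed P] (ψ : R →+* P) (hψ : Function.Injective ψ) (x : R) (hx : x ≠ 0)
    (hrad : (Ideal.span {x}).IsRadical)
    (hrange : ∀ g : P, ∃ k : ℕ, ψ x ^ k * g ∈ ψ.range) : IsIntegrallyClosed R := by
  rw [isIntegrallyClosed_iff (FractionRing R)]
  intro α hα
  have hg : Function.Injective ((algebraMap P (FractionRing P)).comp ψ) :=
    (IsFractionRing.injective P (FractionRing P)).comp hψ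
  set ψF : FractionRing R →+* FractionRing P := IsFractionRing.lift hg with hψF
  have hlift : ∀ r : R, ψF (algebraMap R (FractionRing R) r) =
      algebraMap P (FractionRing P) (ψ r) := fun r => IsFractionRing.lift_algebraMap hg r
  have hint : IsIntegral P (ψF α) := by
    obtain ⟨p, hp, hpα⟩ := hα
    refine ⟨p.map ψ, hp.map ψ, ?_⟩
    rw [Polynomial.eval₂_map]
    have hcomp : (algebraMap P (FractionRing P)).comp ψ =
        ψF.comp (algebraMap R (FractionRing R)) := by
      ext r
      exact (hlift r).symm
    rw [hcomp, ← Polynomial.hom_eval₂, hpα, map_zero]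
  obtain ⟨g, hg'⟩ := IsIntegrallyClosed.algebraMap_eq_of_integral hint
  obtain ⟨k, b, hb⟩ := hrange g
  refine exists_eq_of_mul_pow_eq x hx hrad α hα k b ?_
  apply ψF.injective
  rw [map_mul, map_pow, hlift, hlift, ← hg', ← map_pow, ← map_mul, hb, mul_comm]

end Criterion

variable {K : Type u} [Field K] {d n : ℕ}

theorem exists_sub_C_mem {σ : Type*} (Q' : Ideal (MvPolynomial σ K))
    (h : ∀ i, (X i : MvPolynomial σ K) ∈ Q') (f : MvPolynomial σ K) : ∃ c : K, f - C c ∈ Q' := by
  induction f using MvPolynomial.induction_on with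
  | C a => exact ⟨a, by simp⟩
  | add p q hp hq =>
    obtain ⟨a, ha⟩ := hp
    obtain ⟨b, hb⟩ := hq
    refine ⟨a + b, ?_⟩
    have := Q'.add_mem ha hb
    rw [C_add]
    convert this using 1
    ring
  | mul_X p i hp =>
    exact ⟨0, by rw [C_0, sub_zero]; exact Q'.mul_mem_left _ (h i)⟩

/-- `J(w) + (X_w)` is a radical ideal. -/
theorem sup_span_isRadical [Infinite K] (hd : 0 < d) (w : Idx d n) :
    (schubertVanishing K d n w ⊔ Ideal.span {(X w : PlRing K d n)}).IsRadical := by
  by_cases hex : ∃ φ : Idx d n, φ < w
  · rw [sup_span_eq_iInf_divisors hd w hex]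
    rintro f ⟨m, hm⟩
    rw [Ideal.mem_iInf] at hm ⊢
    intro φ
    exact schubertVanishing_isRadical φ.1 ⟨m, hm φ⟩
  · set I' := schubertVanishing K d n w ⊔ Ideal.span {(X w : PlRing K d n)} with hI'
    have hall : ∀ φ : Idx d n, (X φ : PlRing K d n) ∈ I' := by
      intro φ
      by_cases hφw : φ = w
      · rw [hφw]; exact Ideal.mem_sup_right (Ideal.subset_span rfl)
      · refine Ideal.mem_sup_left (X_mem_schubertVanishing w φ ?_)
        intro hle
        exact hex ⟨φ, lt_of_le_of_ne hle hφw⟩
    have hle : I' ≤ irr K d n := by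
      refine sup_le (schubertVanishing_le_irr hd w) ?_
      rw [Ideal.span_le, Set.singleton_subset_iff]
      exact X_mem_irr hd w
    rintro f ⟨m, hm⟩
    obtain ⟨c, hc⟩ := exists_sub_C_mem I' hall f
    have h1 : f ^ m - C (c ^ m) ∈ I' := by
      have : f ^ m - C (c ^ m) = f ^ m - (C c) ^ m := by rw [C_pow]
      rw [this]
      exact Ideal.mem_of_dvd _ (sub_dvd_pow_sub_pow f (C c) m) hc
    have h2 : (C (c ^ m) : PlRing K d n) ∈ I' := by
      have := I'.sub_mem hm h1
      simpa using this
    have h3 := hle h2
    unfold irr at h3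
    rw [RingHom.mem_ker] at h3
    have h4 : c ^ m = 0 := by simpa [evalMinors] using h3
    have h5 : c = 0 := pow_eq_zero_iff (M₀ := K) (by
      rintro rfl
      rw [pow_zero] at h4
      exact one_ne_zero h4) |>.1 h4
    rw [h5, C_0, sub_zero] at hc
    exact hc

theorem isIntegrallyClosed_schubert [Infinite K] (hd : 0 < d) (w : Idx d n) :
    IsDomain (PlRing K d n ⧸ schubertVanishing K d n w) ∧
      IsIntegrallyClosed (PlRing K d n ⧸ schubertVanishing K d n w) := by
  haveI hprime := schubertVanishing_isPrime (K := K) hd w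
  haveI hdom : IsDomain (PlRing K d n ⧸ schubertVanishing K d n w) := Ideal.Quotient.isDomain _
  refine ⟨hdom, ?_⟩
  set ψ : (PlRing K d n ⧸ schubertVanishing K d n w) →+* CellR K w :=
    Ideal.Quotient.lift (schubertVanishing K d n w) (cellEval (K := K) w).toRingHom
      (fun f hf => schubertVanishing_le_ker_cellEval hd w f hf) with hψ
  have hψmk : ∀ f, ψ (Ideal.Quotient.mk _ f) = cellEval w f := fun f => rfl
  have hinj : Function.Injective ψ := by
    refine RingHom.lift_injective_of_ker_le_ideal _ _ ?_
    rw [ker_cellEval hd w]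
  refine isIntegrallyClosed_of_embedding ψ hinj (Ideal.Quotient.mk _ (X w)) ?_ ?_ ?_
  · intro h
    exact X_notMem_schubertVanishing hd w w le_rfl (Ideal.Quotient.eq_zero_iff_mem.1 h)
  · rintro r ⟨m, hm⟩
    obtain ⟨f, rfl⟩ := Ideal.Quotient.mk_surjective r
    have hcomap : ∀ g : PlRing K d n, Ideal.Quotient.mk (schubertVanishing K d n w) g ∈
        Ideal.span {Ideal.Quotient.mk (schubertVanishing K d n w) (X w)} ↔
        g ∈ schubertVanishing K d n w ⊔ Ideal.span {(X w : PlRing K d n)} := by
      intro g
      have h1 : Ideal.span {Ideal.Quotient.mk (schubertVanishing K d n w) (X w : PlRing K d n)} =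
          (schubertVanishing K d n w ⊔ Ideal.span {(X w : PlRing K d n)}).map
            (Ideal.Quotient.mk (schubertVanishing K d n w)) := by
        rw [Ideal.map_sup, Ideal.map_span, Set.image_singleton, Ideal.map_quotient_self,
          bot_sup_eq]
      rw [h1, ← Ideal.mem_comap, Ideal.comap_map_of_surjective _ Ideal.Quotient.mk_surjective,
        ← RingHom.ker_eq_comap_bot, Ideal.mk_ker, sup_eq_left.2 le_sup_left]
    rw [← map_pow, hcomap] at hm
    rw [hcomap]
    exact sup_span_isRadical hd w ⟨m, hm⟩
  · intro g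
    obtain ⟨k, f, hf⟩ := exists_pow_mul_mem_range (K := K) w g
    refine ⟨k, Ideal.Quotient.mk _ f, ?_⟩
    rw [hψmk, hψmk, cellEval_X_top]
    exact hf

end Groth.Agent.Lib.Helper18.Plucker
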