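import Groth.Agent.Lib.Helper18.Plucker.Alt

/-! # The Plücker quadric expression is alternating in both arguments -/

set_option autoImplicit false

namespace Groth.Agent.Lib.Helper18.Plucker

open W4bk4grassmannian Equiv

variable {K : Type*} [CommRing K] {e n : ℕ}

/-- `c_h`: the permutation sending `0 ↦ h` and `m+1 ↦ h.succAbove m`. -/
def cyc (h : Fin (e + 2)) : Perm (Fin (e + 2)) := h.cycleRange.symm

theorem cyc_zero (h : Fin (e + 2)) : cyc h 0 = h := Fin.cycleRange_symm_zero h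

theorem cyc_succ (h : Fin (e + 2)) (m : Fin (e + 1)) : cyc h m.succ = h.succAbove m :=
  Fin.cycleRange_symm_succ h m

theorem sg_cyc (h : Fin (e + 2)) : (sg (cyc h) : K) = (-1) ^ (h : ℕ) := by
  unfold cyc
  rw [sg_symm, sg, Fin.sign_cycleRange]
  simp

theorem comp_cyc {α : Type*} (j' : Fin (e + 2) → α) (h : Fin (e + 2)) :
    j' ∘ cyc h = Fin.cons (j' h) (j' ∘ h.succAbove) := by
  ext m
  refine Fin.cases ?_ (fun m => ?_) m
  · simp [cyc_zero]
  · simp [cyc_succ]

/-- The auxiliary function `Φ(c) = g(c 0) p(c ∘ succ)`. -/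
def phi (g : Fin n → K) (p : (Fin (e + 1) → Fin n) → K) (c : Fin (e + 2) → Fin n) : K :=
  g (c 0) * p (c ∘ Fin.succ)

theorem phi_comp_of_zero {g : Fin n → K} {p : (Fin (e + 1) → Fin n) → K} (hp : IsAlt p)
    (c : Fin (e + 2) → Fin n) (π : Perm (Fin (e + 2))) (hπ : π 0 = 0) :
    phi g p (c ∘ π) = sg π * phi g p c := by
  obtain ⟨⟨x, τ⟩, hτ⟩ := Equiv.Perm.decomposeFin.symm.surjective π
  have hx : x = 0 := by
    have := Equiv.Perm.decomposeFin_symm_apply_zero x τ
    rw [hτ, hπ] at this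
    exact this.symm
  subst hx
  have hsucc : ∀ m : Fin (e + 1), π m.succ = (τ m).succ := by
    intro m
    rw [← hτ, Equiv.Perm.decomposeFin_symm_apply_succ]
    simp
  have hsg : (sg π : K) = sg τ := by
    unfold sg
    rw [← hτ, Equiv.Perm.decomposeFin.symm_sign]
    simp
  unfold phi
  have h1 : (c ∘ π) ∘ Fin.succ = (c ∘ Fin.succ) ∘ τ := by
    ext m
    simp [hsucc]
  rw [h1, hp.perm, Function.comp_apply, hπ, hsg]
  ring

/-- The quadric expression with general first factor `g`. -/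
def quadG (g : Fin n → K) (p : (Fin (e + 1) → Fin n) → K) (j' : Fin (e + 2) → Fin n) : K :=
  ∑ h : Fin (e + 2), (-1 : K) ^ (h : ℕ) * (g (j' h) * p (j' ∘ h.succAbove))

theorem quadG_eq (g : Fin n → K) (p : (Fin (e + 1) → Fin n) → K) (j' : Fin (e + 2) → Fin n) :
    quadG g p j' = ∑ h : Fin (e + 2), (-1 : K) ^ (h : ℕ) * phi g p (j' ∘ cyc h) := by
  unfold quadG
  refine Finset.sum_congr rfl fun h _ => ?_
  rw [comp_cyc, phi]
  simp

/-- The key term-wise identity. -/
theorem term_comp {g : Fin n → K} {p : (Fin (e + 1) → Fin n) → K} (hp : IsAlt p)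
    (j' : Fin (e + 2) → Fin n) (σ : Perm (Fin (e + 2))) (h : Fin (e + 2)) :
    (-1 : K) ^ (h : ℕ) * phi g p ((j' ∘ σ) ∘ cyc h) =
      sg σ * ((-1 : K) ^ ((σ h : Fin (e + 2)) : ℕ) * phi g p (j' ∘ cyc (σ h))) := by
  set π : Perm (Fin (e + 2)) := (cyc (σ h))⁻¹ * σ * cyc h with hπdef
  have hπ0 : π 0 = 0 := by
    rw [hπdef, Perm.mul_apply, Perm.mul_apply, cyc_zero]
    show (cyc (σ h)).symm (σ h) = 0
    rw [Equiv.symm_apply_eq, cyc_zero]
  have hfac : (j' ∘ σ) ∘ cyc h = (j' ∘ cyc (σ h)) ∘ π := by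
    ext m
    simp [hπdef, Perm.mul_apply]
  have hsgπ : (sg π : K) = sg (cyc (σ h)) * sg σ * sg (cyc h) := by
    rw [hπdef, sg_mul, sg_mul, sg_inv]
  rw [hfac, phi_comp_of_zero hp _ π hπ0, hsgπ, ← sg_cyc h, ← sg_cyc (σ h)]
  have := sg_mul_self (K := K) (cyc h)
  calc sg (cyc h) * (sg (cyc (σ h)) * sg σ * sg (cyc h) * phi g p (j' ∘ cyc (σ h)))
      = (sg (cyc h) * sg (cyc h)) * (sg σ * (sg (cyc (σ h)) * phi g p (j' ∘ cyc (σ h)))) := by
        ring
    _ = sg σ * (sg (cyc (σ h)) * phi g p (j' ∘ cyc (σ h))) := by rw [this, one_mul]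

theorem isAlt_quadG (g : Fin n → K) {p : (Fin (e + 1) → Fin n) → K} (hp : IsAlt p) :
    IsAlt (quadG g p) where
  perm j' σ := by
    rw [quadG_eq, quadG_eq, Finset.mul_sum]
    rw [← Equiv.sum_comp σ (fun h => sg σ * ((-1 : K) ^ (h : ℕ) * phi g p (j' ∘ cyc h)))]
    exact Finset.sum_congr rfl fun h _ => term_comp hp j' σ h
  zero j' hj' := by
    obtain ⟨x, y, hxy, hne⟩ := Function.not_injective_iff.1 hj'
    rw [quadG_eq, Fintype.sum_eq_add x y hne]
    · have hσ : j' ∘ (swap x y : Perm (Fin (e + 2))) = j' := by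
        ext m
        simp only [Function.comp_apply]
        by_cases hmx : m = x
        · rw [hmx, swap_apply_left, hxy]
        · by_cases hmy : m = y
          · rw [hmy, swap_apply_right, hxy]
          · rw [swap_apply_of_ne_of_ne hmx hmy]
      have := term_comp (g := g) hp j' (swap x y) x
      rw [hσ, swap_apply_left] at this
      rw [this, sg, Perm.sign_swap hne]
      simp
    · intro h ⟨hx, hy⟩
      obtain ⟨x', rfl⟩ := Fin.exists_succAbove_eq (Ne.symm hx)
      obtain ⟨y', rfl⟩ := Fin.exists_succAbove_eq (Ne.symm hy)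
      have hni : ¬ Function.Injective (j' ∘ h.succAbove) := by
        intro hinj
        have := hinj (show (j' ∘ h.succAbove) x' = (j' ∘ h.succAbove) y' from hxy)
        exact hne (by rw [this])
      rw [comp_cyc, phi]
      simp only [Fin.cons_zero]
      have : (Fin.cons (j' h) (j' ∘ h.succAbove) : Fin (e + 2) → Fin n) ∘ Fin.succ =
          j' ∘ h.succAbove := by
        ext m; simp
      rw [this, hp.zero _ hni, mul_zero, mul_zero]

end Groth.Agent.Lib.Helper18.Plucker
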