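import Groth.Agent.Lib.Helper18.Plucker.Quad

/-! # The quadric relations for arbitrary tuples, and the exchange relation -/

set_option autoImplicit false

namespace Groth.Agent.Lib.Helper18.Plucker

open W4bk4grassmannian Equiv

variable {K : Type*} [CommRing K] {e n : ℕ}

/-- Extension of a permutation of `Fin e` to `Fin (e + 1)`, fixing the last element. -/
def extLast (σ : Perm (Fin e)) : Perm (Fin (e + 1)) :=
  finSuccEquivLast.symm.permCongr (optionCongr σ)

theorem extLast_castSucc (σ : Perm (Fin e)) (i : Fin e) :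
    extLast σ i.castSucc = (σ i).castSucc := by
  simp [extLast, Equiv.permCongr_apply]

theorem extLast_last (σ : Perm (Fin e)) : extLast σ (Fin.last e) = Fin.last e := by
  simp [extLast, Equiv.permCongr_apply]

theorem sg_extLast (σ : Perm (Fin e)) : (sg (extLast σ) : K) = sg σ := by
  unfold sg extLast
  rw [Perm.sign_permCongr, Equiv.optionCongr_sign]

theorem snoc_comp_extLast {α : Type*} (i' : Fin e → α) (y : α) (σ : Perm (Fin e)) :
    (Fin.snoc (i' ∘ σ) y : Fin (e + 1) → α) = (Fin.snoc i' y : Fin (e + 1) → α) ∘ extLast σ := by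
  ext m
  refine Fin.lastCases ?_ (fun m => ?_) m
  · simp [extLast_last]
  · simp [extLast_castSucc]

/-- The full quadric expression. -/
def quadAll (p : (Fin (e + 1) → Fin n) → K) (i' : Fin e → Fin n) (j' : Fin (e + 2) → Fin n) : K :=
  quadG (fun y => p (Fin.snoc i' y)) p j'

theorem isAlt_quadAll_left {p : (Fin (e + 1) → Fin n) → K} (hp : IsAlt p)
    (j' : Fin (e + 2) → Fin n) : IsAlt (fun i' : Fin e → Fin n => quadAll p i' j') where
  perm i' σ := by
    unfold quadAll quadG
    rw [Finset.mul_sum]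
    refine Finset.sum_congr rfl fun h _ => ?_
    beta_reduce
    rw [snoc_comp_extLast, hp.perm, sg_extLast]
    ring
  zero i' hi' := by
    unfold quadAll quadG
    refine Finset.sum_eq_zero fun h _ => ?_
    have : ¬ Function.Injective (Fin.snoc i' (j' h) : Fin (e + 1) → Fin n) := by
      intro hinj
      apply hi'
      intro x y hxy
      have := hinj (a₁ := x.castSucc) (a₂ := y.castSucc) (by simp [hxy])
      exact Fin.castSucc_injective _ this
    beta_reduce
    rw [hp.zero _ this, zero_mul, mul_zero]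

/-- If the quadric expression vanishes for increasing tuples, it vanishes for all tuples. -/
theorem quadAll_eq_zero {p : (Fin (e + 1) → Fin n) → K} (hp : IsAlt p)
    (h : ∀ (i' : Idx e n) (j' : Idx (e + 2) n), quadAll p i'.1 j'.1 = 0)
    (i' : Fin e → Fin n) (j' : Fin (e + 2) → Fin n) : quadAll p i' j' = 0 := by
  have h1 : ∀ (i' : Idx e n) (j' : Fin (e + 2) → Fin n), quadAll p i'.1 j' = 0 := by
    intro i' j'
    have := IsAlt.ext (isAlt_quadG (fun y => p (Fin.snoc i'.1 y)) hp)
      (⟨fun _ _ => by simp, fun _ _ => rfl⟩ : IsAlt (fun _ : Fin (e + 2) → Fin n => (0 : K)))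
      (fun a ha => h i' ⟨a, ha⟩)
    exact congrFun this j'
  have := IsAlt.ext (isAlt_quadAll_left hp j')
    (⟨fun _ _ => by simp, fun _ _ => rfl⟩ : IsAlt (fun _ : Fin e → Fin n => (0 : K)))
    (fun a ha => h1 ⟨a, ha⟩ j')
  exact congrFun this i'

/-- The exchange relation: `p(i', x) p(θ₀) = Σ_k p(θ₀[k ↦ x]) p(i', θ₀ k)`. -/
theorem exchange {p : (Fin (e + 1) → Fin n) → K} (hp : IsAlt p)
    (h : ∀ (i' : Fin e → Fin n) (j' : Fin (e + 2) → Fin n), quadAll p i' j' = 0)
    (θ₀ : Fin (e + 1) → Fin n) (i' : Fin e → Fin n) (x : Fin n) :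
    p (Fin.snoc i' x) * p θ₀ =
      ∑ k : Fin (e + 1), p (Function.update θ₀ k x) * p (Fin.snoc i' (θ₀ k)) := by
  have h0 := h i' (Fin.cons x θ₀)
  unfold quadAll quadG at h0
  beta_reduce at h0
  rw [Fin.sum_univ_succ] at h0
  have hterm : ∀ k : Fin (e + 1),
      (-1 : K) ^ ((k.succ : Fin (e + 2)) : ℕ) *
        (p (Fin.snoc i' ((Fin.cons x θ₀ : Fin (e + 2) → Fin n) k.succ)) *
          p ((Fin.cons x θ₀ : Fin (e + 2) → Fin n) ∘ k.succ.succAbove)) =
      - (p (Function.update θ₀ k x) * p (Fin.snoc i' (θ₀ k))) := by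
    intro k
    have h1 : (Fin.cons x θ₀ : Fin (e + 2) → Fin n) ∘ k.succ.succAbove =
        (Function.update θ₀ k x) ∘ (k.cycleRange.symm : Perm (Fin (e + 1))) := by
      ext m
      refine Fin.cases ?_ (fun m => ?_) m
      · simp
      · simp only [Function.comp_apply, Fin.succ_succAbove_succ, Fin.cons_succ,
          Fin.cycleRange_symm_succ]
        rw [Function.update_of_ne (Fin.succAbove_ne k m)]
    rw [h1, hp.perm, Fin.cons_succ, sg_symm, sg, Fin.sign_cycleRange, Fin.val_succ, pow_succ]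
    have : (((((-1 : ℤˣ) ^ (k : ℕ) : ℤˣ) : ℤ) : K)) = (-1 : K) ^ (k : ℕ) := by simp
    rw [this]
    have h2 : ((-1 : K) ^ (k : ℕ)) * ((-1 : K) ^ (k : ℕ)) = 1 := by
      rw [← mul_pow]; simp
    calc (-1 : K) ^ (k : ℕ) * -1 * (p (Fin.snoc i' (θ₀ k)) *
          ((-1 : K) ^ (k : ℕ) * p (Function.update θ₀ k x)))
        = -(((-1 : K) ^ (k : ℕ) * (-1 : K) ^ (k : ℕ)) *
            (p (Function.update θ₀ k x) * p (Fin.snoc i' (θ₀ k)))) := by ring
      _ = _ := by rw [h2, one_mul]
  rw [Finset.sum_congr rfl (fun k _ => hterm k), Finset.sum_neg_distrib] at h0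
  simp only [Fin.val_zero, pow_zero, one_mul, Fin.cons_zero] at h0
  have h2 : (Fin.cons x θ₀ : Fin (e + 2) → Fin n) ∘ (0 : Fin (e + 2)).succAbove = θ₀ := by
    ext m; simp
  rw [h2] at h0
  exact eq_of_sub_eq_zero (by rw [sub_eq_add_neg]; exact h0)

end Groth.Agent.Lib.Helper18.Plucker
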