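import Groth.Agent.Lib.Helper18.Plucker.QuadAll

/-! # Reconstruction of a matrix from alternating coordinates satisfying the exchange relation -/

set_option autoImplicit false

namespace Groth.Agent.Lib.Helper18.Plucker

open W4bk4grassmannian Equiv

variable {K : Type*} [Field K] {d n : ℕ}

/-- `F` is linear in every slot with respect to `B` and the reference tuple `θ₀`. -/
def SlotLin (B : Matrix (Fin n) (Fin d) K) (θ₀ : Fin d → Fin n) (F : (Fin d → Fin n) → K) : Prop :=
  ∀ (a : Fin d → Fin n) (s : Fin d) (x : Fin n),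
    F (Function.update a s x) = ∑ k : Fin d, B x k * F (Function.update a s (θ₀ k))

/-- The number of slots of `a` not filled by an entry of `θ₀`. -/
noncomputable def bad (θ₀ a : Fin d → Fin n) : ℕ :=
  (Finset.univ.filter fun s : Fin d => a s ∉ Set.range θ₀).card

theorem bad_update_lt (θ₀ a : Fin d → Fin n) (s : Fin d) (hs : a s ∉ Set.range θ₀) (k : Fin d) :
    bad θ₀ (Function.update a s (θ₀ k)) < bad θ₀ a := by
  unfold bad
  apply Finset.card_lt_card
  rw [Finset.ssubset_iff_of_subset]
  · refine ⟨s, ?_, ?_⟩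
    · simp only [Finset.mem_filter, Finset.mem_univ, true_and]
      exact hs
    · simp only [Finset.mem_filter, Finset.mem_univ, true_and, Function.update_self, not_not]
      exact ⟨k, rfl⟩
  · intro t ht
    simp only [Finset.mem_filter, Finset.mem_univ, true_and] at ht ⊢
    by_cases hts : t = s
    · subst hts
      simp at ht
    · rwa [Function.update_of_ne hts] at ht

theorem eq_of_slotLin {B : Matrix (Fin n) (Fin d) K} {θ₀ : Fin d → Fin n}
    {F G : (Fin d → Fin n) → K} (hF : IsAlt F) (hG : IsAlt G) (hFl : SlotLin B θ₀ F)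
    (hGl : SlotLin B θ₀ G) (h0 : F θ₀ = G θ₀) : F = G := by
  funext a
  induction' hN : bad θ₀ a using Nat.strong_induction_on with N ih generalizing a
  by_cases hbad : ∃ s, a s ∉ Set.range θ₀
  · obtain ⟨s, hs⟩ := hbad
    have h1 := hFl a s (a s)
    have h2 := hGl a s (a s)
    rw [Function.update_eq_self] at h1 h2
    rw [h1, h2]
    refine Finset.sum_congr rfl fun k _ => ?_
    rw [ih _ (by rw [← hN]; exact bad_update_lt θ₀ a s hs k) _ rfl]
  · push_neg at hbad
    choose g hg using hbad
    have ha : a = θ₀ ∘ g := by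
      ext s
      rw [Function.comp_apply, hg s]
    by_cases hinj : Function.Injective g
    · have hbij : Function.Bijective g := Finite.injective_iff_bijective.1 hinj
      have : a = θ₀ ∘ (Equiv.ofBijective g hbij : Perm (Fin d)) := ha
      rw [this, hF.perm, hG.perm, h0]
    · have : ¬ Function.Injective a := by
        rw [ha]
        intro h
        exact hinj (Function.Injective.of_comp h)
      rw [hF.zero a this, hG.zero a this]

section

variable {e : ℕ}

theorem update_comp_swap_last {α : Type*} (a : Fin (e + 1) → α) (s : Fin (e + 1)) (x : α) :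
    (Function.update a s x) ∘ (swap s (Fin.last e) : Perm (Fin (e + 1))) =
      (Fin.snoc ((a ∘ (swap s (Fin.last e) : Perm (Fin (e + 1)))) ∘ Fin.castSucc) x :
        Fin (e + 1) → α) := by
  ext m
  refine Fin.lastCases ?_ (fun m => ?_) m
  · simp
  · simp only [Function.comp_apply, Fin.snoc_castSucc]
    by_cases hms : m.castSucc = s
    · rw [hms, swap_apply_left]
      have hne : Fin.last e ≠ s := by
        rw [← hms]
        exact (Fin.castSucc_lt_last m).ne'
      rw [Function.update_of_ne hne]
    · have hml : m.castSucc ≠ Fin.last e := (Fin.castSucc_lt_last m).ne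
      rw [swap_apply_of_ne_of_ne hms hml, Function.update_of_ne hms]

/-- The matrix reconstructed from `p` and the reference tuple `θ₀`. -/
noncomputable def recon (p : (Fin (e + 1) → Fin n) → K) (θ₀ : Fin (e + 1) → Fin n) :
    Matrix (Fin n) (Fin (e + 1)) K :=
  Matrix.of fun x k => p (Function.update θ₀ k x) / p θ₀

theorem slotLin_of_exchange {p : (Fin (e + 1) → Fin n) → K} (hp : IsAlt p)
    (θ₀ : Fin (e + 1) → Fin n) (h0 : p θ₀ ≠ 0)
    (hex : ∀ (i' : Fin e → Fin n) (x : Fin n), p (Fin.snoc i' x) * p θ₀ =
      ∑ k : Fin (e + 1), p (Function.update θ₀ k x) * p (Fin.snoc i' (θ₀ k))) :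
    SlotLin (recon p θ₀) θ₀ p := by
  have hE1 : ∀ (i' : Fin e → Fin n) (x : Fin n), p (Fin.snoc i' x) =
      ∑ k : Fin (e + 1), recon p θ₀ x k * p (Fin.snoc i' (θ₀ k)) := by
    intro i' x
    rw [eq_comm, ← mul_left_inj' h0, hex, Finset.sum_mul]
    refine Finset.sum_congr rfl fun k _ => ?_
    simp only [recon, Matrix.of_apply]
    field_simp
  intro a s x
  set σ : Perm (Fin (e + 1)) := swap s (Fin.last e) with hσ
  rw [hp.eq_sg_mul _ σ, update_comp_swap_last, hE1, Finset.mul_sum]
  refine Finset.sum_congr rfl fun k _ => ?_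
  rw [hp.eq_sg_mul (Function.update a s (θ₀ k)) σ, update_comp_swap_last]
  ring

theorem recon_apply_ref {p : (Fin (e + 1) → Fin n) → K} (hp : IsAlt p)
    (θ₀ : Fin (e + 1) → Fin n) (h0 : p θ₀ ≠ 0) (k k' : Fin (e + 1)) :
    recon p θ₀ (θ₀ k) k' = if k = k' then 1 else 0 := by
  simp only [recon, Matrix.of_apply]
  split_ifs with h
  · subst h
    rw [Function.update_eq_self, div_self h0]
  · have : ¬ Function.Injective (Function.update θ₀ k' (θ₀ k)) := by
      intro hinj
      have := hinj (a₁ := k) (a₂ := k') (by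
        rw [Function.update_of_ne h, Function.update_self])
      exact h this
    rw [hp.zero _ this, zero_div]

theorem slotLin_minor {p : (Fin (e + 1) → Fin n) → K} (hp : IsAlt p)
    (θ₀ : Fin (e + 1) → Fin n) (h0 : p θ₀ ≠ 0) (c : K) :
    SlotLin (recon p θ₀) θ₀ (fun a => c * ((recon p θ₀).submatrix a id).det) := by
  intro a s x
  set B := recon p θ₀ with hB
  have hrow : ∀ y : Fin n, (B.submatrix (Function.update a s y) id) =
      Function.update (B.submatrix a id) s (B y) := by
    intro y
    ext t k
    by_cases hts : t = s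
    · subst hts
      simp [Matrix.submatrix_apply]
    · simp [Matrix.submatrix_apply, Function.update_of_ne hts]
  have hBx : B x = ∑ k : Fin (e + 1), B x k • B (θ₀ k) := by
    ext k'
    rw [Finset.sum_apply]
    simp only [Pi.smul_apply, smul_eq_mul]
    rw [Finset.sum_eq_single k']
    · rw [hB, recon_apply_ref hp θ₀ h0, if_pos rfl, mul_one]
    · intro k _ hk
      rw [hB, recon_apply_ref hp θ₀ h0, if_neg hk, mul_zero]
    · intro h; exact absurd (Finset.mem_univ _) h
  beta_reduce
  rw [hrow x]
  have hdet : ∀ M : Matrix (Fin (e + 1)) (Fin (e + 1)) K, M.det = Matrix.detRowAlternating M :=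
    fun M => rfl
  have hup : Function.update (B.submatrix a id) s (B x) =
      Function.update (B.submatrix a id) s (∑ k : Fin (e + 1), B x k • B (θ₀ k)) := by
    rw [← hBx]
  rw [hdet, hup, AlternatingMap.map_update_sum, Finset.mul_sum]
  refine Finset.sum_congr rfl fun k _ => ?_
  rw [AlternatingMap.map_update_smul, hrow (θ₀ k), hdet, smul_eq_mul]
  ring

/-- The alternating function `p` is `p θ₀` times the minors of the reconstructed matrix. -/
theorem eq_minor_recon {p : (Fin (e + 1) → Fin n) → K} (hp : IsAlt p)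
    (θ₀ : Fin (e + 1) → Fin n) (h0 : p θ₀ ≠ 0)
    (hex : ∀ (i' : Fin e → Fin n) (x : Fin n), p (Fin.snoc i' x) * p θ₀ =
      ∑ k : Fin (e + 1), p (Function.update θ₀ k x) * p (Fin.snoc i' (θ₀ k)))
    (a : Fin (e + 1) → Fin n) : p a = p θ₀ * ((recon p θ₀).submatrix a id).det := by
  have hG : IsAlt (fun a : Fin (e + 1) → Fin n => p θ₀ * ((recon p θ₀).submatrix a id).det) := by
    have := isAlt_minor (recon p θ₀)
    exact ⟨fun a σ => by beta_reduce; rw [this.perm]; ring,
      fun a ha => by beta_reduce; rw [this.zero a ha, mul_zero]⟩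
  have key := eq_of_slotLin hp hG (slotLin_of_exchange hp θ₀ h0 hex) (slotLin_minor hp θ₀ h0 _) ?_
  · exact congrFun key a
  · beta_reduce
    have : (recon p θ₀).submatrix θ₀ id = 1 := by
      ext k k'
      rw [Matrix.submatrix_apply, id, recon_apply_ref hp θ₀ h0, Matrix.one_apply]
    rw [this, Matrix.det_one, mul_one]

end

end Groth.Agent.Lib.Helper18.Plucker
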