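import Groth.Agent.Lib.Helper18.Plucker.ShufMinor

/-! # The shuffle sum vanishes when two adjacent moving vectors are equal -/

set_option autoImplicit false

namespace Groth.Agent.Lib.Helper18.Plucker

open W4bk4grassmannian Equiv

variable {d : ℕ}

/-- The adjacent transposition. -/
def sw (a : Fin d) : Perm (Fin (d + 1)) := swap a.castSucc a.succ

theorem sw_val (a : Fin d) (x : Fin (d + 1)) :
    ((sw a x : Fin (d + 1)) : ℕ) =
      if x.val = a.val then a.val + 1 else if x.val = a.val + 1 then a.val else x.val := by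
  unfold sw
  by_cases h1 : x = a.castSucc
  · rw [h1, swap_apply_left]; simp
  · by_cases h2 : x = a.succ
    · rw [h2, swap_apply_right]; simp
    · rw [swap_apply_of_ne_of_ne h1 h2]
      have h1' : x.val ≠ a.val := fun h => h1 (Fin.ext (by simpa using h))
      have h2' : x.val ≠ a.val + 1 := fun h => h2 (Fin.ext (by simpa using h))
      rw [if_neg h1', if_neg h2']

theorem sw_sw (a : Fin d) (x : Fin (d + 1)) : sw a (sw a x) = x := by
  unfold sw; exact swap_apply_self _ _ _

/-- The image of a set of positions under the adjacent transposition. -/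
def gA (a : Fin d) (A : Finset (Fin (d + 1))) : Finset (Fin (d + 1)) := A.map (sw a).toEmbedding

theorem mem_gA (a : Fin d) (A : Finset (Fin (d + 1))) (x : Fin (d + 1)) :
    x ∈ gA a A ↔ sw a x ∈ A := by
  unfold gA
  rw [Finset.mem_map_equiv]
  have : (sw a).symm x = sw a x := by
    rw [Equiv.symm_apply_eq, sw_sw]
  rw [this]

theorem gA_gA (a : Fin d) (A : Finset (Fin (d + 1))) : gA a (gA a A) = A := by
  ext x
  rw [mem_gA, mem_gA, sw_sw]

theorem card_gA (a : Fin d) (A : Finset (Fin (d + 1))) : (gA a A).card = A.card :=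
  Finset.card_map _

theorem compl_gA (a : Fin d) (A : Finset (Fin (d + 1))) : (gA a A)ᶜ = gA a Aᶜ := by
  ext x
  rw [Finset.mem_compl, mem_gA, mem_gA, Finset.mem_compl]

/-- Exactly one of the two adjacent positions lies in `A`. -/
def ExOne (a : Fin d) (A : Finset (Fin (d + 1))) : Prop :=
  (a.castSucc ∈ A ∧ a.succ ∉ A) ∨ (a.succ ∈ A ∧ a.castSucc ∉ A)

theorem exOne_compl (a : Fin d) (A : Finset (Fin (d + 1))) (h : ExOne a A) : ExOne a Aᶜ := by
  rcases h with ⟨h1, h2⟩ | ⟨h1, h2⟩
  · exact Or.inr ⟨Finset.mem_compl.2 h2, by simpa using h1⟩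
  · exact Or.inl ⟨Finset.mem_compl.2 h2, by simpa using h1⟩

theorem orderEmb_gA {k : ℕ} (a : Fin d) (A : Finset (Fin (d + 1))) (hex : ExOne a A)
    (hA : A.card = k) (hB : (gA a A).card = k) (u : Fin k) :
    (gA a A).orderEmbOfFin hB u = sw a (A.orderEmbOfFin hA u) := by
  have := Finset.orderEmbOfFin_unique (s := gA a A) hB
    (f := fun u => sw a (A.orderEmbOfFin hA u)) ?_ ?_
  · exact (congrFun this u).symm
  · intro u
    rw [mem_gA, sw_sw]
    exact Finset.orderEmbOfFin_mem A hA u
  · intro u u' huu'
    have hlt : A.orderEmbOfFin hA u < A.orderEmbOfFin hA u' := (A.orderEmbOfFin hA).strictMono huu'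
    have hm := Finset.orderEmbOfFin_mem A hA u
    have hm' := Finset.orderEmbOfFin_mem A hA u'
    rw [Fin.lt_def] at hlt ⊢
    rw [sw_val, sw_val]
    rcases hex with ⟨h1, h2⟩ | ⟨h1, h2⟩
    · have e1 : (A.orderEmbOfFin hA u).val ≠ a.val + 1 := by
        intro h; apply h2
        have : A.orderEmbOfFin hA u = a.succ := Fin.ext (by simpa using h)
        rw [← this]; exact hm
      have e2 : (A.orderEmbOfFin hA u').val ≠ a.val + 1 := by
        intro h; apply h2
        have : A.orderEmbOfFin hA u' = a.succ := Fin.ext (by simpa using h)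
        rw [← this]; exact hm'
      split_ifs <;> omega
    · have e1 : (A.orderEmbOfFin hA u).val ≠ a.val := by
        intro h; apply h2
        have : A.orderEmbOfFin hA u = a.castSucc := Fin.ext (by simpa using h)
        rw [← this]; exact hm
      have e2 : (A.orderEmbOfFin hA u').val ≠ a.val := by
        intro h; apply h2
        have : A.orderEmbOfFin hA u' = a.castSucc := Fin.ext (by simpa using h)
        rw [← this]; exact hm'
      split_ifs <;> omega

theorem orderEmb_congr {k : ℕ} {B B' : Finset (Fin (d + 1))} (h : B = B') (hB : B.card = k)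
    (hB' : B'.card = k) (u : Fin k) : B.orderEmbOfFin hB u = B'.orderEmbOfFin hB' u := by
  subst h; rfl

/-- Lower bound for the sum of positions. -/
theorem le_sum_val (k : ℕ) (A : Finset (Fin (d + 1))) (hA : A.card = k + 1) :
    k * (k + 1) / 2 ≤ ∑ x ∈ A, x.val := by
  rw [← sum_orderEmbOfFin A hA (fun x => x.val)]
  have hge : ∀ u : Fin (k + 1), u.val ≤ (A.orderEmbOfFin hA u).val := by
    intro ⟨m, hm⟩
    induction m with
    | zero => exact Nat.zero_le _
    | succ m ih =>
      have h1 := ih (by omega)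
      have h2 : A.orderEmbOfFin hA ⟨m, by omega⟩ < A.orderEmbOfFin hA ⟨m + 1, hm⟩ :=
        (A.orderEmbOfFin hA).strictMono (by simp [Fin.lt_def])
      rw [Fin.lt_def] at h2
      simp only at h1 ⊢
      omega
  calc k * (k + 1) / 2 = ∑ u : Fin (k + 1), u.val := by
        rw [Fin.sum_univ_eq_sum_range (fun i => i) (k + 1), Finset.sum_range_id]
        simp [Nat.mul_comm]
    _ ≤ _ := Finset.sum_le_sum fun u _ => hge u

end Groth.Agent.Lib.Helper18.Plucker
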