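import Groth.Agent.Lib.Helper18.Plucker.Alt

/-! # Row sums of the terms of a shuffle relation -/

set_option autoImplicit false

namespace Groth.Agent.Lib.Helper18.Plucker

open W4bk4grassmannian Equiv

variable {d n : ℕ}

/-- The sum of the entries of a tuple. -/
def rsum (a : Fin d → Fin n) : ℕ := ∑ t, (a t : ℕ)

theorem sum_orderEmbOfFin {α : Type*} [LinearOrder α] {k : ℕ} (s : Finset α) (h : s.card = k)
    (f : α → ℕ) :
    ∑ u : Fin k, f (s.orderEmbOfFin h u) = ∑ x ∈ s, f x := by
  conv_rhs => rw [← Finset.image_orderEmbOfFin_univ s h]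
  rw [Finset.sum_image (fun x _ y _ hxy => (s.orderEmbOfFin h).injective hxy)]

theorem rsum_sortIdx (a : Fin d → Fin n) (h : (Finset.univ.image a).card = d) :
    rsum (sortIdx d n a h).1 = rsum a := by
  unfold rsum
  show ∑ t, ((Finset.orderEmbOfFin _ h t : Fin n) : ℕ) = _
  rw [sum_orderEmbOfFin (Finset.univ.image a) h (fun x => (x : ℕ)),
    Finset.sum_image (fun x _ y _ hxy => (card_image_eq_iff a).1 h hxy)]

theorem sum_dite_le (r : Fin d) (F : Fin (r.val + 1) → ℕ) (G : Fin d → ℕ) :
    ∑ t : Fin d, (if h : t.val ≤ r.val then F ⟨t.val, Nat.lt_succ_of_le h⟩ else G t) =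
      ∑ u, F u + ∑ t ∈ Finset.univ.filter (fun t : Fin d => r.val < t.val), G t := by
  rw [← Finset.sum_filter_add_sum_filter_not Finset.univ (fun t : Fin d => t.val ≤ r.val)]
  congr 1
  · rw [Finset.sum_congr rfl (g := fun t : Fin d => if h : t.val ≤ r.val then
      F ⟨t.val, Nat.lt_succ_of_le h⟩ else 0)]
    · refine Finset.sum_bij' (fun t _ => (if h : t.val ≤ r.val then
          (⟨t.val, Nat.lt_succ_of_le h⟩ : Fin (r.val + 1)) else 0))
        (fun u _ => (⟨u.val, lt_of_lt_of_le u.2 r.2⟩ : Fin d)) ?_ ?_ ?_ ?_ ?_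
      · intro t _; exact Finset.mem_univ _
      · intro u _
        simp only [Finset.mem_filter, Finset.mem_univ, true_and]
        exact Nat.lt_succ_iff.1 u.2
      · intro t ht
        simp only [Finset.mem_filter, Finset.mem_univ, true_and] at ht
        rw [dif_pos ht]
      · intro u _
        have : u.val ≤ r.val := Nat.lt_succ_iff.1 u.2
        rw [dif_pos this]
      · intro t ht
        simp only [Finset.mem_filter, Finset.mem_univ, true_and] at ht
        rw [dif_pos ht, dif_pos ht]
    · intro t ht
      simp only [Finset.mem_filter, Finset.mem_univ, true_and] at ht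
      rw [dif_pos ht, dif_pos ht]
  · have : (Finset.univ.filter fun t : Fin d => ¬ t.val ≤ r.val) =
        Finset.univ.filter (fun t : Fin d => r.val < t.val) := by
      ext t; simp
    rw [← this]
    refine Finset.sum_congr rfl fun t ht => ?_
    simp only [Finset.mem_filter, Finset.mem_univ, true_and] at ht
    rw [dif_neg ht]

theorem sum_dite_lt (r : Fin d) (F : Fin (d - r.val) → ℕ) (G : Fin d → ℕ) :
    ∑ t : Fin d, (if h : t.val < r.val then G t else
        F ⟨t.val - r.val, by have := t.isLt; omega⟩) =
      ∑ t ∈ Finset.univ.filter (fun t : Fin d => t.val < r.val), G t + ∑ u, F u := by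
  rw [← Finset.sum_filter_add_sum_filter_not Finset.univ (fun t : Fin d => t.val < r.val)]
  congr 1
  · refine Finset.sum_congr rfl fun t ht => ?_
    simp only [Finset.mem_filter, Finset.mem_univ, true_and] at ht
    rw [dif_pos ht]
  · refine Finset.sum_bij' (fun t _ => (if h : t.val < r.val then
          (⟨0, by have := r.isLt; omega⟩ : Fin (d - r.val))
          else ⟨t.val - r.val, by have := t.isLt; omega⟩))
        (fun u _ => (⟨u.val + r.val, by have := u.isLt; omega⟩ : Fin d)) ?_ ?_ ?_ ?_ ?_
    · intro t _; exact Finset.mem_univ _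
    · intro u _
      simp only [Finset.mem_filter, Finset.mem_univ, true_and, not_lt]
      omega
    · intro t ht
      simp only [Finset.mem_filter, Finset.mem_univ, true_and] at ht
      rw [dif_neg ht]
      apply Fin.ext
      simp only
      omega
    · intro u _
      have : ¬ u.val + r.val < r.val := by omega
      rw [dif_neg this]
      apply Fin.ext
      simp only
      omega
    · intro t ht
      simp only [Finset.mem_filter, Finset.mem_univ, true_and] at ht
      rw [dif_neg ht, dif_neg ht]

section

variable (i j : Idx d n) (r : Fin d)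

/-- The moving rows as natural numbers. -/
def mov (a : Fin (d + 1)) : ℕ := (movingRows i j r a : ℕ)

theorem rsum_shuffleI (A : Finset (Fin (d + 1))) (hA : A.card = r.val + 1) :
    rsum (shuffleI i j r A hA) = ∑ a ∈ A, mov i j r a +
      ∑ t ∈ Finset.univ.filter (fun t : Fin d => r.val < t.val), (i.1 t : ℕ) := by
  unfold rsum shuffleI
  have h1 : ∀ t : Fin d, (((if h : t.val ≤ r.val then
      movingRows i j r (A.orderEmbOfFin hA ⟨t.val, by omega⟩) else i.1 t : Fin n)) : ℕ) =
      if h : t.val ≤ r.val then
        (fun u : Fin (r.val + 1) => mov i j r (A.orderEmbOfFin hA u)) ⟨t.val, Nat.lt_succ_of_le h⟩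
      else (i.1 t : ℕ) := by
    intro t
    split_ifs <;> rfl
  rw [Finset.sum_congr rfl (fun t _ => h1 t)]
  refine (sum_dite_le r (fun u => mov i j r (A.orderEmbOfFin hA u))
    (fun t => (i.1 t : ℕ))).trans ?_
  congr 1
  exact sum_orderEmbOfFin A hA (fun a => mov i j r a)

theorem rsum_shuffleJ (A : Finset (Fin (d + 1))) (hA : A.card = r.val + 1) :
    rsum (shuffleJ i j r A hA) =
      ∑ t ∈ Finset.univ.filter (fun t : Fin d => t.val < r.val), (j.1 t : ℕ) +
        ∑ a ∈ Aᶜ, mov i j r a := by
  have hC : Aᶜ.card = d - r.val := by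
    rw [Finset.card_compl, hA, Fintype.card_fin]; omega
  unfold rsum shuffleJ
  have h1 : ∀ t : Fin d, (((if h : t.val < r.val then j.1 t else
      movingRows i j r (Aᶜ.orderEmbOfFin hC ⟨t.val - r.val, by have := t.isLt; omega⟩) :
        Fin n)) : ℕ) =
      if h : t.val < r.val then (j.1 t : ℕ) else
        (fun u : Fin (d - r.val) => mov i j r (Aᶜ.orderEmbOfFin hC u))
          ⟨t.val - r.val, by have := t.isLt; omega⟩ := by
    intro t
    split_ifs <;> rfl
  rw [Finset.sum_congr rfl (fun t _ => h1 t)]
  refine (sum_dite_lt r (fun u => mov i j r (Aᶜ.orderEmbOfFin hC u))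
    (fun t => (j.1 t : ℕ))).trans ?_
  congr 1
  exact sum_orderEmbOfFin Aᶜ hC (fun a => mov i j r a)

/-- The initial segment of positions of the moving rows. -/
def initSeg : Finset (Fin (d + 1)) := Finset.univ.filter fun a => a.val ≤ r.val

theorem card_initSeg : (initSeg r).card = r.val + 1 := by
  unfold initSeg
  have : (Finset.univ.filter fun a : Fin (d + 1) => a.val ≤ r.val) =
      (Finset.univ : Finset (Fin (r.val + 1))).image
        (fun u => (⟨u.val, by have := u.isLt; have := r.isLt; omega⟩ : Fin (d + 1))) := by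
    ext a
    simp only [Finset.mem_filter, Finset.mem_univ, true_and, Finset.mem_image]
    constructor
    · intro h
      exact ⟨⟨a.val, Nat.lt_succ_of_le h⟩, rfl⟩
    · rintro ⟨u, rfl⟩
      exact Nat.lt_succ_iff.1 u.2
  rw [this, Finset.card_image_of_injective, Finset.card_univ, Fintype.card_fin]
  intro u v huv
  apply Fin.ext
  simpa using congrArg Fin.val huv

theorem orderEmb_initSeg (h : (initSeg r).card = r.val + 1) (u : Fin (r.val + 1)) :
    ((initSeg r).orderEmbOfFin h u : Fin (d + 1)) =
      ⟨u.val, by have := u.isLt; have := r.isLt; omega⟩ := by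
  have := Finset.orderEmbOfFin_unique (s := initSeg r) h
    (f := fun u : Fin (r.val + 1) =>
      (⟨u.val, by have := u.isLt; have := r.isLt; omega⟩ : Fin (d + 1))) ?_ ?_
  · exact (congrFun this u).symm
  · intro u
    simp only [initSeg, Finset.mem_filter, Finset.mem_univ, true_and]
    exact Nat.lt_succ_iff.1 u.2
  · intro u v huv
    exact huv

theorem orderEmb_initSeg_compl (h : (initSeg r)ᶜ.card = d - r.val) (u : Fin (d - r.val)) :
    ((initSeg r)ᶜ.orderEmbOfFin h u : Fin (d + 1)) =
      ⟨u.val + r.val + 1, by have := u.isLt; have := r.isLt; omega⟩ := by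
  have := Finset.orderEmbOfFin_unique (s := (initSeg r)ᶜ) h
    (f := fun u : Fin (d - r.val) =>
      (⟨u.val + r.val + 1, by have := u.isLt; have := r.isLt; omega⟩ : Fin (d + 1))) ?_ ?_
  · exact (congrFun this u).symm
  · intro u
    simp only [initSeg, Finset.mem_compl, Finset.mem_filter, Finset.mem_univ, true_and, not_le]
    omega
  · intro u v huv
    show u.val + r.val + 1 < v.val + r.val + 1
    have : u.val < v.val := huv
    omega

theorem shuffleI_initSeg (h : (initSeg r).card = r.val + 1) :
    shuffleI i j r (initSeg r) h = i.1 := by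
  funext t
  unfold shuffleI
  split_ifs with ht
  · rw [orderEmb_initSeg]
    unfold movingRows
    rw [dif_pos ht]
  · rfl

theorem shuffleJ_initSeg (h : (initSeg r).card = r.val + 1) :
    shuffleJ i j r (initSeg r) h = j.1 := by
  funext t
  unfold shuffleJ
  split_ifs with ht
  · rfl
  · rw [orderEmb_initSeg_compl]
    unfold movingRows
    have : ¬ (t.val - r.val + r.val + 1 ≤ r.val) := by omega
    rw [dif_neg this]
    have ht' : r.val ≤ t.val := not_lt.1 ht
    exact congrArg j.1 (Fin.ext (by simp only; omega))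

theorem mov_le_of_le (a : Fin (d + 1)) (ha : a.val ≤ r.val) : mov i j r a ≤ (i.1 r : ℕ) := by
  unfold mov movingRows
  rw [dif_pos ha]
  have : (⟨a.val, lt_of_le_of_lt ha r.isLt⟩ : Fin d) ≤ r := ha
  exact i.2.monotone this

theorem lt_mov_of_lt (hpiv : i.1 r < j.1 r) (a : Fin (d + 1)) (ha : r.val < a.val) :
    (i.1 r : ℕ) < mov i j r a := by
  unfold mov movingRows
  rw [dif_neg (not_le.2 ha)]
  have h1 : r ≤ (⟨a.val - 1, by have := a.isLt; omega⟩ : Fin d) := by
    show r.val ≤ a.val - 1
    omega
  have h2 := j.2.monotone h1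
  exact lt_of_lt_of_le hpiv h2

/-- The sum of the moving rows over a subset other than the initial segment is larger. -/
theorem sum_mov_lt (hpiv : i.1 r < j.1 r) (A : Finset (Fin (d + 1))) (hA : A.card = r.val + 1)
    (hne : A ≠ initSeg r) :
    ∑ a ∈ initSeg r, mov i j r a < ∑ a ∈ A, mov i j r a := by
  have h0 := card_initSeg (d := d) r
  rw [← Finset.sum_inter_add_sum_sdiff (initSeg r) A, ← Finset.sum_inter_add_sum_sdiff A (initSeg r),
    Finset.inter_comm A (initSeg r)]
  refine Nat.add_lt_add_left ?_ _
  have hcard : (initSeg r \ A).card = (A \ initSeg r).card := by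
    have h1 := Finset.card_sdiff_add_card_inter (initSeg r) A
    have h2 := Finset.card_sdiff_add_card_inter A (initSeg r)
    rw [Finset.inter_comm A (initSeg r)] at h2
    omega
  have hpos : 0 < (A \ initSeg r).card := by
    rw [Finset.card_pos]
    by_contra hemp
    rw [Finset.not_nonempty_iff_eq_empty, Finset.sdiff_eq_empty_iff_subset] at hemp
    exact hne (Finset.eq_of_subset_of_card_le hemp (by rw [h0, hA]))
  calc ∑ a ∈ initSeg r \ A, mov i j r a ≤ (initSeg r \ A).card • (i.1 r : ℕ) := by
        refine Finset.sum_le_card_nsmul _ _ _ fun a ha => ?_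
        have : a ∈ initSeg r := (Finset.mem_sdiff.1 ha).1
        simp only [initSeg, Finset.mem_filter, Finset.mem_univ, true_and] at this
        exact mov_le_of_le i j r a this
    _ < (A \ initSeg r).card • ((i.1 r : ℕ) + 1) := by
        rw [hcard, smul_eq_mul, smul_eq_mul]
        exact Nat.mul_lt_mul_of_pos_left (Nat.lt_succ_self _) hpos
    _ ≤ ∑ a ∈ A \ initSeg r, mov i j r a := by
        refine Finset.card_nsmul_le_sum _ _ _ fun a ha => ?_
        have : a ∉ initSeg r := (Finset.mem_sdiff.1 ha).2
        simp only [initSeg, Finset.mem_filter, Finset.mem_univ, true_and, not_le] at this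
        exact lt_mov_of_lt i j r hpiv a this

theorem rsum_shuffle_add (A : Finset (Fin (d + 1))) (hA : A.card = r.val + 1) :
    rsum (shuffleI i j r A hA) + rsum (shuffleJ i j r A hA) = rsum i.1 + rsum j.1 := by
  have h0 := card_initSeg (d := d) r
  have e1 := rsum_shuffleI i j r A hA
  have e2 := rsum_shuffleJ i j r A hA
  have e3 := rsum_shuffleI i j r (initSeg r) h0
  have e4 := rsum_shuffleJ i j r (initSeg r) h0
  rw [shuffleI_initSeg] at e3
  rw [shuffleJ_initSeg] at e4
  have s1 := Finset.sum_add_sum_compl A (fun a => mov i j r a)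
  have s2 := Finset.sum_add_sum_compl (initSeg r) (fun a => mov i j r a)
  omega

theorem rsum_shuffleI_lt (hpiv : i.1 r < j.1 r) (A : Finset (Fin (d + 1)))
    (hA : A.card = r.val + 1) (hne : A ≠ initSeg r) :
    rsum i.1 < rsum (shuffleI i j r A hA) := by
  have h0 := card_initSeg (d := d) r
  have e1 := rsum_shuffleI i j r A hA
  have e3 := rsum_shuffleI i j r (initSeg r) h0
  rw [shuffleI_initSeg] at e3
  have := sum_mov_lt i j r hpiv A hA hne
  omega

end

end Groth.Agent.Lib.Helper18.Plucker
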