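import Groth.Agent.Lib.Helper18.Plucker.AdjAlt
import Groth.Agent.Lib.Helper18.Plucker.Shuffle

/-! # The shuffle relations vanish at the minors of a matrix -/

set_option autoImplicit false

namespace Groth.Agent.Lib.Helper18.Plucker

open W4bk4grassmannian Equiv

variable {K : Type*} [Field K] {d : ℕ} (r : Fin d) (P Q : Fin d → (Fin d → K))

theorem card_compl_of_card {A : Finset (Fin (d + 1))} (hA : A.card = r.val + 1) :
    Aᶜ.card = d - r.val := by
  rw [Finset.card_compl, hA, Fintype.card_fin]; omega

/-- The rows of the first factor. -/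
def RI (v : Fin (d + 1) → (Fin d → K)) (A : Finset (Fin (d + 1))) (hA : A.card = r.val + 1) :
    Fin d → (Fin d → K) :=
  fun t => if h : t.val ≤ r.val then
    v (A.orderEmbOfFin hA ⟨t.val, Nat.lt_succ_of_le h⟩) else P t

/-- The rows of the second factor. -/
def RJ (v : Fin (d + 1) → (Fin d → K)) (A : Finset (Fin (d + 1))) (hC : Aᶜ.card = d - r.val) :
    Fin d → (Fin d → K) :=
  fun t => if h : t.val < r.val then Q t else
    v (Aᶜ.orderEmbOfFin hC ⟨t.val - r.val, by have := t.isLt; omega⟩)

/-- One term of the shuffle sum. -/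
noncomputable def sterm (v : Fin (d + 1) → (Fin d → K)) (A : Finset (Fin (d + 1))) : K :=
  if hA : A.card = r.val + 1 then
    (-1 : K) ^ shuffleSign r A * Matrix.det (RI r P v A hA : Matrix (Fin d) (Fin d) K) *
      Matrix.det (RJ r Q v A (card_compl_of_card r hA) : Matrix (Fin d) (Fin d) K)
  else 0

/-- The shuffle sum. -/
noncomputable def Psi (v : Fin (d + 1) → (Fin d → K)) : K := ∑ A, sterm r P Q v A

theorem RI_update_mem (v : Fin (d + 1) → (Fin d → K)) (A : Finset (Fin (d + 1)))
    (hA : A.card = r.val + 1) (u : Fin (r.val + 1)) (x : Fin d → K) :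
    RI r P (Function.update v (A.orderEmbOfFin hA u) x) A hA =
      Function.update (RI r P v A hA) ⟨u.val, lt_of_lt_of_le u.isLt r.isLt⟩ x := by
  funext t
  by_cases htu : t = ⟨u.val, lt_of_lt_of_le u.isLt r.isLt⟩
  · subst htu
    rw [Function.update_self]
    have h : u.val ≤ r.val := Nat.lt_succ_iff.1 u.isLt
    simp only [RI, dif_pos h]
    exact Function.update_self ..
  · rw [Function.update_of_ne htu]
    simp only [RI]
    split_ifs with h
    · rw [Function.update_of_ne]
      intro hh
      have := (A.orderEmbOfFin hA).injective hh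
      apply htu
      apply Fin.ext
      simpa using congrArg Fin.val this
    · rfl

theorem RI_update_not_mem (v : Fin (d + 1) → (Fin d → K)) (A : Finset (Fin (d + 1)))
    (hA : A.card = r.val + 1) (a : Fin (d + 1)) (ha : a ∉ A) (x : Fin d → K) :
    RI r P (Function.update v a x) A hA = RI r P v A hA := by
  funext t
  simp only [RI]
  split_ifs with h
  · rw [Function.update_of_ne]
    intro hh
    exact ha (hh ▸ Finset.orderEmbOfFin_mem A hA _)
  · rfl

theorem RJ_update_mem (v : Fin (d + 1) → (Fin d → K)) (A : Finset (Fin (d + 1)))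
    (hC : Aᶜ.card = d - r.val) (u : Fin (d - r.val)) (x : Fin d → K) :
    RJ r Q (Function.update v (Aᶜ.orderEmbOfFin hC u) x) A hC =
      Function.update (RJ r Q v A hC) ⟨u.val + r.val, by have := u.isLt; omega⟩ x := by
  funext t
  by_cases htu : t = ⟨u.val + r.val, by have := u.isLt; omega⟩
  · subst htu
    rw [Function.update_self]
    have h : ¬ (u.val + r.val < r.val) := by omega
    simp only [RJ, dif_neg h]
    have : (⟨u.val + r.val - r.val, by have := u.isLt; omega⟩ : Fin (d - r.val)) = u :=
      Fin.ext (by simp)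
    rw [this]
    exact Function.update_self ..
  · rw [Function.update_of_ne htu]
    simp only [RJ]
    split_ifs with h
    · rfl
    · rw [Function.update_of_ne]
      intro hh
      have := (Aᶜ.orderEmbOfFin hC).injective hh
      apply htu
      apply Fin.ext
      have h2 := congrArg Fin.val this
      simp only at h2
      simp only
      omega

theorem RJ_update_not_mem (v : Fin (d + 1) → (Fin d → K)) (A : Finset (Fin (d + 1)))
    (hC : Aᶜ.card = d - r.val) (a : Fin (d + 1)) (ha : a ∈ A) (x : Fin d → K) :
    RJ r Q (Function.update v a x) A hC = RJ r Q v A hC := by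
  funext t
  simp only [RJ]
  split_ifs with h
  · rfl
  · rw [Function.update_of_ne]
    intro hh
    have := Finset.orderEmbOfFin_mem Aᶜ hC ⟨t.val - r.val, by have := t.isLt; omega⟩
    rw [hh, Finset.mem_compl] at this
    exact this ha

/-- Each term is linear in each slot. -/
theorem exists_linear_sterm (v : Fin (d + 1) → (Fin d → K)) (a : Fin (d + 1))
    (A : Finset (Fin (d + 1))) :
    ∃ G : (Fin d → K) →ₗ[K] K, ∀ x, sterm r P Q (Function.update v a x) A = G x := by
  unfold sterm
  by_cases hA : A.card = r.val + 1
  · simp only [dif_pos hA]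
    by_cases ha : a ∈ A
    · obtain ⟨u, rfl⟩ : ∃ u, A.orderEmbOfFin hA u = a := by
        have : a ∈ Set.range (A.orderEmbOfFin hA) := by
          rw [Finset.range_orderEmbOfFin]; exact ha
        exact this
      refine ⟨((-1 : K) ^ shuffleSign r A *
          Matrix.det (RJ r Q v A (card_compl_of_card r hA) : Matrix (Fin d) (Fin d) K)) •
        (Matrix.detRowAlternating.toMultilinearMap.toLinearMap (RI r P v A hA)
          ⟨u.val, lt_of_lt_of_le u.isLt r.isLt⟩), fun x => ?_⟩
      rw [RI_update_mem, RJ_update_not_mem r Q v A _ _ ha]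
      simp only [LinearMap.smul_apply, MultilinearMap.toLinearMap_apply, smul_eq_mul]
      show _ = _ * Matrix.det _
      ring
    · obtain ⟨u, rfl⟩ : ∃ u, Aᶜ.orderEmbOfFin (card_compl_of_card r hA) u = a := by
        have : a ∈ Set.range (Aᶜ.orderEmbOfFin (card_compl_of_card r hA)) := by
          rw [Finset.range_orderEmbOfFin]; exact Finset.mem_compl.2 ha
        exact this
      refine ⟨((-1 : K) ^ shuffleSign r A *
          Matrix.det (RI r P v A hA : Matrix (Fin d) (Fin d) K)) •
        (Matrix.detRowAlternating.toMultilinearMap.toLinearMap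
          (RJ r Q v A (card_compl_of_card r hA)) ⟨u.val + r.val, by have := u.isLt; omega⟩),
        fun x => ?_⟩
      rw [RJ_update_mem, RI_update_not_mem r P v A hA _ ha]
      simp only [LinearMap.smul_apply, MultilinearMap.toLinearMap_apply, smul_eq_mul]
      show _ = _ * Matrix.det _
      ring
  · simp only [dif_neg hA]
    exact ⟨0, fun _ => rfl⟩

theorem exists_linear_Psi (v : Fin (d + 1) → (Fin d → K)) (a : Fin (d + 1)) :
    ∃ G : (Fin d → K) →ₗ[K] K, ∀ x, Psi r P Q (Function.update v a x) = G x := by
  choose G hG using fun A => exists_linear_sterm r P Q v a A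
  refine ⟨∑ A, G A, fun x => ?_⟩
  unfold Psi
  rw [LinearMap.sum_apply]
  exact Finset.sum_congr rfl fun A _ => hG A x

/-- The shuffle sum as a multilinear map. -/
noncomputable def PsiM : MultilinearMap K (fun _ : Fin (d + 1) => (Fin d → K)) K where
  toFun := Psi r P Q
  map_update_add' := by
    intro inst v a x y
    cases Subsingleton.elim inst (fun a b => instDecidableEqFin (d + 1) a b)
    obtain ⟨G, hG⟩ := exists_linear_Psi r P Q v a
    rw [hG, hG, hG, map_add]
  map_update_smul' := by
    intro inst v a c x
    cases Subsingleton.elim inst (fun a b => instDecidableEqFin (d + 1) a b)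
    obtain ⟨G, hG⟩ := exists_linear_Psi r P Q v a
    rw [hG, hG, map_smul]

end Groth.Agent.Lib.Helper18.Plucker
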