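import Groth.Agent.Lib.Helper18.Plucker.ShufAdj

/-! # Vanishing of the shuffle sum on linearly dependent vectors; the shuffle relations at minors -/

set_option autoImplicit false

namespace Groth.Agent.Lib.Helper18.Plucker

open W4bk4grassmannian Equiv

variable {K : Type*} [Field K] {d : ℕ} (r : Fin d) (P Q : Fin d → (Fin d → K))

theorem v_sw (v : Fin (d + 1) → (Fin d → K)) (a : Fin d) (hv : v a.castSucc = v a.succ)
    (x : Fin (d + 1)) : v (sw a x) = v x := by
  unfold sw
  by_cases h1 : x = a.castSucc
  · rw [h1, swap_apply_left, hv]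
  · by_cases h2 : x = a.succ
    · rw [h2, swap_apply_right, hv]
    · rw [swap_apply_of_ne_of_ne h1 h2]

theorem sterm_eq_zero_of_both (v : Fin (d + 1) → (Fin d → K)) (a : Fin d)
    (hv : v a.castSucc = v a.succ) (A : Finset (Fin (d + 1))) (h1 : a.castSucc ∈ A)
    (h2 : a.succ ∈ A) : sterm r P Q v A = 0 := by
  unfold sterm
  split_ifs with hA
  · obtain ⟨u1, hu1⟩ : ∃ u, A.orderEmbOfFin hA u = a.castSucc := by
      have : a.castSucc ∈ Set.range (A.orderEmbOfFin hA) := by
        rw [Finset.range_orderEmbOfFin]; exact h1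
      exact this
    obtain ⟨u2, hu2⟩ : ∃ u, A.orderEmbOfFin hA u = a.succ := by
      have : a.succ ∈ Set.range (A.orderEmbOfFin hA) := by
        rw [Finset.range_orderEmbOfFin]; exact h2
      exact this
    have hne : u1 ≠ u2 := by
      rintro rfl
      exact (Fin.castSucc_lt_succ (i := a)).ne (hu1.symm.trans hu2)
    have hl1 : u1.val ≤ r.val := Nat.lt_succ_iff.1 u1.isLt
    have hl2 : u2.val ≤ r.val := Nat.lt_succ_iff.1 u2.isLt
    have hdet : Matrix.det (RI r P v A hA : Matrix (Fin d) (Fin d) K) = 0 := by
      refine Matrix.det_zero_of_row_eq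
        (i := ⟨u1.val, lt_of_lt_of_le u1.isLt r.isLt⟩)
        (j := ⟨u2.val, lt_of_lt_of_le u2.isLt r.isLt⟩) ?_ ?_
      · intro h
        apply hne
        apply Fin.ext
        simpa using congrArg Fin.val h
      · show RI r P v A hA _ = RI r P v A hA _
        simp only [RI, dif_pos hl1, dif_pos hl2]
        have e1 : (⟨u1.val, Nat.lt_succ_of_le hl1⟩ : Fin (r.val + 1)) = u1 := Fin.ext rfl
        have e2 : (⟨u2.val, Nat.lt_succ_of_le hl2⟩ : Fin (r.val + 1)) = u2 := Fin.ext rfl
        rw [e1, e2, hu1, hu2, hv]
    rw [hdet, mul_zero, zero_mul]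
  · rfl

theorem sterm_eq_zero_of_neither (v : Fin (d + 1) → (Fin d → K)) (a : Fin d)
    (hv : v a.castSucc = v a.succ) (A : Finset (Fin (d + 1))) (h1 : a.castSucc ∉ A)
    (h2 : a.succ ∉ A) : sterm r P Q v A = 0 := by
  unfold sterm
  split_ifs with hA
  · have hC := card_compl_of_card r hA
    obtain ⟨u1, hu1⟩ : ∃ u, Aᶜ.orderEmbOfFin hC u = a.castSucc := by
      have : a.castSucc ∈ Set.range (Aᶜ.orderEmbOfFin hC) := by
        rw [Finset.range_orderEmbOfFin]; exact Finset.mem_coe.2 (Finset.mem_compl.2 h1)
      exact this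
    obtain ⟨u2, hu2⟩ : ∃ u, Aᶜ.orderEmbOfFin hC u = a.succ := by
      have : a.succ ∈ Set.range (Aᶜ.orderEmbOfFin hC) := by
        rw [Finset.range_orderEmbOfFin]; exact Finset.mem_coe.2 (Finset.mem_compl.2 h2)
      exact this
    have hne : u1 ≠ u2 := by
      rintro rfl
      exact (Fin.castSucc_lt_succ (i := a)).ne (hu1.symm.trans hu2)
    have hdet : Matrix.det (RJ r Q v A hC : Matrix (Fin d) (Fin d) K) = 0 := by
      refine Matrix.det_zero_of_row_eq
        (i := ⟨u1.val + r.val, by have := u1.isLt; omega⟩)
        (j := ⟨u2.val + r.val, by have := u2.isLt; omega⟩) ?_ ?_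
      · intro h
        apply hne
        apply Fin.ext
        have := congrArg Fin.val h
        simp only at this
        omega
      · show RJ r Q v A hC _ = RJ r Q v A hC _
        have hl1 : ¬ (u1.val + r.val < r.val) := by omega
        have hl2 : ¬ (u2.val + r.val < r.val) := by omega
        simp only [RJ, dif_neg hl1, dif_neg hl2]
        have e1 : (⟨u1.val + r.val - r.val, by have := u1.isLt; omega⟩ : Fin (d - r.val)) = u1 :=
          Fin.ext (by simp)
        have e2 : (⟨u2.val + r.val - r.val, by have := u2.isLt; omega⟩ : Fin (d - r.val)) = u2 :=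
          Fin.ext (by simp)
        rw [e1, e2, hu1, hu2, hv]
    rw [hdet, mul_zero]
  · rfl

theorem sum_val_gA (a : Fin d) (A : Finset (Fin (d + 1))) :
    ∑ x ∈ gA a A, x.val = ∑ x ∈ A, (sw a x).val := by
  unfold gA
  rw [Finset.sum_map]
  rfl

theorem sterm_gA (v : Fin (d + 1) → (Fin d → K)) (a : Fin d)
    (hv : v a.castSucc = v a.succ) (A : Finset (Fin (d + 1))) (hex : ExOne a A) :
    sterm r P Q v (gA a A) = - sterm r P Q v A := by
  unfold sterm
  by_cases hA : A.card = r.val + 1
  · have hB : (gA a A).card = r.val + 1 := by rw [card_gA]; exact hA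
    rw [dif_pos hA, dif_pos hB]
    have hRI : RI r P v (gA a A) hB = RI r P v A hA := by
      funext t
      simp only [RI]
      split_ifs with h
      · rw [orderEmb_gA a A hex hA hB, v_sw v a hv]
      · rfl
    have hRJ : RJ r Q v (gA a A) (card_compl_of_card r hB) = RJ r Q v A (card_compl_of_card r hA) := by
      funext t
      simp only [RJ]
      split_ifs with h
      · rfl
      · have hC' : (gA a Aᶜ).card = d - r.val := by
          rw [card_gA]; exact card_compl_of_card r hA
        rw [orderEmb_congr (compl_gA a A) (card_compl_of_card r hB) hC',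
          orderEmb_gA a Aᶜ (exOne_compl a A hex) (card_compl_of_card r hA) hC', v_sw v a hv]
    rw [hRI, hRJ]
    have hsign : (-1 : K) ^ shuffleSign r (gA a A) = - (-1 : K) ^ shuffleSign r A := by
      unfold shuffleSign
      have hlb1 := le_sum_val r.val A hA
      have hlb2 := le_sum_val r.val (gA a A) hB
      have hsum := sum_val_gA a A
      rcases hex with ⟨h1, h2⟩ | ⟨h1, h2⟩
      · -- the sum increases by one
        have : ∑ x ∈ A, (sw a x).val = ∑ x ∈ A, x.val + 1 := by
          rw [← Finset.add_sum_erase A _ h1, ← Finset.add_sum_erase A (fun x => x.val) h1]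
          have hrest : ∑ x ∈ A.erase a.castSucc, (sw a x).val = ∑ x ∈ A.erase a.castSucc, x.val := by
            refine Finset.sum_congr rfl fun x hx => ?_
            have hx1 : x ≠ a.castSucc := Finset.ne_of_mem_erase hx
            have hx2 : x ≠ a.succ := fun h => h2 (h ▸ Finset.mem_of_mem_erase hx)
            unfold sw
            rw [swap_apply_of_ne_of_ne hx1 hx2]
          rw [hrest]
          unfold sw
          rw [swap_apply_left]
          simp
          omega
        rw [hsum, this]
        have : ∑ x ∈ A, x.val + 1 - r.val * (r.val + 1) / 2 =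
            (∑ x ∈ A, x.val - r.val * (r.val + 1) / 2) + 1 := by omega
        rw [this, pow_succ]
        ring
      · have : ∑ x ∈ A, (sw a x).val + 1 = ∑ x ∈ A, x.val := by
          rw [← Finset.add_sum_erase A _ h1, ← Finset.add_sum_erase A (fun x => x.val) h1]
          have hrest : ∑ x ∈ A.erase a.succ, (sw a x).val = ∑ x ∈ A.erase a.succ, x.val := by
            refine Finset.sum_congr rfl fun x hx => ?_
            have hx1 : x ≠ a.succ := Finset.ne_of_mem_erase hx
            have hx2 : x ≠ a.castSucc := fun h => h2 (h ▸ Finset.mem_of_mem_erase hx)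
            unfold sw
            rw [swap_apply_of_ne_of_ne hx2 hx1]
          rw [hrest]
          unfold sw
          rw [swap_apply_right]
          simp
          omega
        rw [hsum] at hlb2 ⊢
        have : ∑ x ∈ A, x.val - r.val * (r.val + 1) / 2 =
            (∑ x ∈ A, (sw a x).val - r.val * (r.val + 1) / 2) + 1 := by omega
        rw [this, pow_succ]
        ring
    rw [hsign]
    ring
  · have hB : ¬ (gA a A).card = r.val + 1 := by rw [card_gA]; exact hA
    rw [dif_neg hA, dif_neg hB, neg_zero]

theorem Psi_eq_zero_of_adjacent (v : Fin (d + 1) → (Fin d → K)) (a : Fin d)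
    (hv : v a.castSucc = v a.succ) : Psi r P Q v = 0 := by
  unfold Psi
  refine Finset.sum_ninvolution (gA a) ?_ ?_ (fun _ => Finset.mem_univ _) (gA_gA a)
  · intro A
    by_cases h1 : a.castSucc ∈ A <;> by_cases h2 : a.succ ∈ A
    · have h1' : a.castSucc ∈ gA a A := by
        rw [mem_gA]; unfold sw; rw [swap_apply_left]; exact h2
      have h2' : a.succ ∈ gA a A := by
        rw [mem_gA]; unfold sw; rw [swap_apply_right]; exact h1
      rw [sterm_eq_zero_of_both r P Q v a hv A h1 h2,
        sterm_eq_zero_of_both r P Q v a hv _ h1' h2', add_zero]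
    · rw [sterm_gA r P Q v a hv A (Or.inl ⟨h1, h2⟩), add_neg_cancel]
    · rw [sterm_gA r P Q v a hv A (Or.inr ⟨h2, h1⟩), add_neg_cancel]
    · have h1' : a.castSucc ∉ gA a A := by
        rw [mem_gA]; unfold sw; rw [swap_apply_left]; exact h2
      have h2' : a.succ ∉ gA a A := by
        rw [mem_gA]; unfold sw; rw [swap_apply_right]; exact h1
      rw [sterm_eq_zero_of_neither r P Q v a hv A h1 h2,
        sterm_eq_zero_of_neither r P Q v a hv _ h1' h2', add_zero]
  · intro A hne hgA
    by_cases h1 : a.castSucc ∈ A <;> by_cases h2 : a.succ ∈ A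
    · exact hne (sterm_eq_zero_of_both r P Q v a hv A h1 h2)
    · apply h2
      rw [← hgA, mem_gA]; unfold sw; rw [swap_apply_right]; exact h1
    · apply h1
      rw [← hgA, mem_gA]; unfold sw; rw [swap_apply_left]; exact h2
    · exact hne (sterm_eq_zero_of_neither r P Q v a hv A h1 h2)

/-- The shuffle sum vanishes on any `d + 1` vectors of `K^d`. -/
theorem Psi_eq_zero (v : Fin (d + 1) → (Fin d → K)) : Psi r P Q v = 0 := by
  have hadj : ∀ (w : Fin (d + 1) → (Fin d → K)) (a : Fin d), w a.castSucc = w a.succ →
      PsiM r P Q w = 0 := fun w a hw => Psi_eq_zero_of_adjacent r P Q w a hw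
  let F : (Fin d → K) [⋀^Fin (d + 1)]→ₗ[K] K :=
    { PsiM r P Q with
      map_eq_zero_of_eq' := fun w i j hw hij =>
        map_eq_zero_of_eq_of_adjacent (PsiM r P Q) hadj w i j hij hw }
  have hdep : ¬ LinearIndependent K v := by
    intro hli
    have := hli.fintype_card_le_finrank
    rw [Fintype.card_fin, Module.finrank_fin_fun] at this
    omega
  exact F.map_linearDependent v hdep

end Groth.Agent.Lib.Helper18.Plucker
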