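import Groth.Agent.Lib.Helper18.Plucker.Ideals

/-! # Generic matrices with prescribed support: leading monomials, independence, primality -/

set_option autoImplicit false

namespace Groth.Agent.Lib.Helper18.Plucker

open W4bk4grassmannian Equiv MvPolynomial

variable {K : Type*} [Field K] {d n : ℕ}

/-- The generic matrix with support `P`: the entry `(x, t)` is a variable if `P x t` and zero
otherwise. -/
noncomputable def genP (P : Fin n → Fin d → Prop) [∀ x t, Decidable (P x t)] :
    Matrix (Fin n) (Fin d) (MatRing K d n) :=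
  Matrix.of fun x t => if P x t then X (x, t) else 0

variable (P : Fin n → Fin d → Prop) [∀ x t, Decidable (P x t)]

theorem term_casesP (a : Fin d → Fin n) :
    (∏ s : Fin d, genP (K := K) P (a s) s) = 0 ∨
      (∏ s : Fin d, genP (K := K) P (a s) s) = monomial (diagExp a) 1 := by
  by_cases h : ∀ s, P (a s) s
  · right
    rw [monomial_diagExp]
    refine Finset.prod_congr rfl fun s _ => ?_
    simp only [genP, Matrix.of_apply, if_pos (h s)]
  · left
    push_neg at h
    obtain ⟨s, hs⟩ := h
    refine Finset.prod_eq_zero (Finset.mem_univ s) ?_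
    simp only [genP, Matrix.of_apply, if_neg hs]

theorem lead_minorP (θ : Idx d n) (h : ∀ t, P (θ.1 t) t) :
    Lead (((genP (K := K) P).submatrix θ.1 id).det) (diagExp θ.1) := by
  have hdet : ((genP (K := K) P).submatrix θ.1 id).det =
      ∑ σ : Perm (Fin d), C (((Perm.sign σ : ℤ) : K)) * ∏ s : Fin d, genP P (θ.1 (σ s)) s := by
    rw [Matrix.det_apply']
    refine Finset.sum_congr rfl fun σ _ => ?_
    congr 1
  have hone : (∏ s : Fin d, genP (K := K) P (θ.1 ((1 : Perm (Fin d)) s)) s) =
      monomial (diagExp θ.1) 1 := by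
    rw [monomial_diagExp]
    refine Finset.prod_congr rfl fun s _ => ?_
    simp only [Perm.coe_one, id, genP, Matrix.of_apply, if_pos (h s)]
  have hcoeff : ∀ (u : (Fin n × Fin d) →₀ ℕ) (σ : Perm (Fin d)),
      coeff u (C (((Perm.sign σ : ℤ) : K)) * ∏ s : Fin d, genP P (θ.1 (σ s)) s) ≠ 0 →
        u = diagExp (θ.1 ∘ σ) := by
    intro u σ hne
    rcases term_casesP (K := K) P (θ.1 ∘ σ) with h0 | h1
    · simp only [Function.comp_apply] at h0
      rw [h0, mul_zero, coeff_zero] at hne
      exact absurd rfl hne
    · simp only [Function.comp_apply] at h1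
      rw [h1, coeff_C_mul, coeff_monomial] at hne
      by_contra hu
      rw [if_neg (Ne.symm hu), mul_zero] at hne
      exact hne rfl
  constructor
  · rw [hdet, coeff_sum, Finset.sum_eq_single (1 : Perm (Fin d))]
    · rw [hone, Perm.sign_one]
      simp
    · intro σ _ hσ
      by_contra hne
      have := hcoeff _ σ hne
      have hlt := wt_lt_of_ne_one θ σ hσ
      rw [← this] at hlt
      exact lt_irrefl _ hlt
    · intro h; exact absurd (Finset.mem_univ _) h
  · intro u hu hne
    rw [hdet, coeff_sum] at hu
    obtain ⟨σ, _, hσ⟩ := Finset.exists_ne_zero_of_sum_ne_zero hu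
    have hu' := hcoeff u σ hσ
    have hσ1 : σ ≠ 1 := by
      rintro rfl
      apply hne
      rw [hu']
      rfl
    rw [hu']
    exact wt_lt_of_ne_one θ σ hσ1

/-- Evaluation of Plücker polynomials at the minors of the generic matrix of support `P`. -/
noncomputable def evalGenP : PlRing K d n →ₐ[K] MatRing K d n :=
  MvPolynomial.aeval fun θ : Idx d n => ((genP (K := K) P).submatrix θ.1 id).det

theorem lead_chainMonP {m : ℕ} (c : Fin m → Idx d n) (hc : ∀ k t, P ((c k).1 t) t) :
    Lead (evalGenP (K := K) P (chainMon K c)) (chainExp c) := by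
  unfold chainMon chainExp
  rw [map_prod]
  refine Lead.prod _ _ _ fun k _ => ?_
  unfold evalGenP
  rw [aeval_X]
  exact lead_minorP P (c k) (hc k)

/-- The core independence statement for a generic matrix of support `P`. -/
theorem indepP_core (hd : 0 < d) {ι : Type*} (F : Finset ι)
    (ch : ι → Σ m : ℕ, {c : Fin m → Idx d n // Antitone c})
    (hinj : Set.InjOn ch F) (hle : ∀ i ∈ F, ∀ k t, P (((ch i).2.1 k).1 t) t) (a : ι → K)
    (h0 : evalGenP (K := K) P (∑ i ∈ F, a i • chainMon K (ch i).2.1) = 0) :
    ∀ i ∈ F, a i = 0 := by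
  classical
  by_contra hcon
  push_neg at hcon
  have hne : (F.filter fun i => a i ≠ 0).Nonempty := by
    obtain ⟨i, hi, hai⟩ := hcon
    exact ⟨i, Finset.mem_filter.2 ⟨hi, hai⟩⟩
  obtain ⟨i₀, hi₀, hmin⟩ := (F.filter fun i => a i ≠ 0).exists_min_image
    (fun i => wt (d := d) (n := n) (chainExp (ch i).2.1)) hne
  rw [Finset.mem_filter] at hi₀
  rw [map_sum] at h0
  have hc0 := congrArg (coeff (chainExp (ch i₀).2.1)) h0
  rw [coeff_sum, coeff_zero, Finset.sum_eq_single i₀] at hc0
  · rw [map_smul, coeff_smul, (lead_chainMonP P _ (hle i₀ hi₀.1)).1, smul_eq_mul, mul_one] at hc0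
    exact hi₀.2 hc0
  · intro i hi hne'
    rw [map_smul, coeff_smul, smul_eq_mul]
    by_cases hai : a i = 0
    · rw [hai, zero_mul]
    · by_contra hcoef
      have hcoef' : coeff (chainExp (ch i₀).2.1) (evalGenP P (chainMon K (ch i).2.1)) ≠ 0 :=
        fun h => hcoef (by rw [h, mul_zero])
      have hdiff : chainExp (ch i₀).2.1 ≠ chainExp (ch i).2.1 := by
        intro heq
        exact hne' (hinj hi hi₀.1 (chain_eq_of_chainExp_eq hd _ _ heq).symm)
      have hlt := (lead_chainMonP (K := K) P _ (hle i hi)).2 _ hcoef' hdiff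
      have hge := hmin i (Finset.mem_filter.2 ⟨hi, hai⟩)
      omega
  · intro h; exact absurd hi₀.1 h

/-- The prime ideal of polynomials vanishing at the minors of the generic matrix of support `P`. -/
noncomputable def kerP : Ideal (PlRing K d n) := RingHom.ker (evalGenP (K := K) P).toRingHom

instance kerP_isPrime : (kerP (K := K) P).IsPrime := RingHom.ker_isPrime _

theorem mem_kerP (f : PlRing K d n) : f ∈ kerP (K := K) P ↔ evalGenP P f = 0 := Iff.rfl

theorem std_indepP (hd : 0 < d) {ι : Type*} (ch : ι → Chain d n) (hinj : Function.Injective ch)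
    (hle : ∀ i k t, P (((ch i).2.1 k).1 t) t) :
    LinearIndependent K (fun i : ι =>
      Ideal.Quotient.mk (kerP (K := K) P) (chainMon K (ch i).2.1)) := by
  classical
  rw [linearIndependent_iff']
  intro s g hsum i₀ hi₀
  have hmem : ∑ i ∈ s, g i • chainMon K (ch i).2.1 ∈ kerP (K := K) P := by
    rw [← Ideal.Quotient.eq_zero_iff_mem, map_sum, ← hsum]
    refine Finset.sum_congr rfl fun i _ => ?_
    rw [← Ideal.Quotient.mkₐ_eq_mk K, map_smul]
  exact indepP_core P hd s ch (fun a _ b _ h => hinj h) (fun i _ => hle i) g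
    ((mem_kerP P _).1 hmem) i₀ hi₀

/-- The truncation of a point of matrix space to the support `P`. -/
def truncP (E : Fin n × Fin d → K) : Matrix (Fin n) (Fin d) K :=
  Matrix.of fun x t => if P x t then E (x, t) else 0

theorem eval_evalGenP (E : Fin n × Fin d → K) (f : PlRing K d n) :
    MvPolynomial.eval E (evalGenP P f) = evalMinors K d n (truncP P E) f := by
  have : (MvPolynomial.eval E : MatRing K d n →+* K).comp (evalGenP (K := K) P).toRingHom =
      (evalMinors K d n (truncP P E)).toRingHom := by
    apply MvPolynomial.ringHom_ext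
    · intro c
      simp [evalGenP, evalMinors]
    · intro θ
      simp only [RingHom.comp_apply, AlgHom.toRingHom_eq_coe, RingHom.coe_coe, evalGenP,
        evalMinors, aeval_X]
      rw [RingHom.map_det]
      congr 1
      ext s t
      simp only [RingHom.mapMatrix_apply, Matrix.map_apply, Matrix.submatrix_apply, id, genP,
        truncP, Matrix.of_apply]
      split_ifs <;> simp
  exact congrFun (congrArg DFunLike.coe this) f

theorem schubertVanishing_le_kerP [Infinite K] (w : Idx d n) (hP : ∀ x t, P x t → x ≤ w.1 t) :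
    schubertVanishing K d n w ≤ kerP (K := K) P := by
  intro f hf
  rw [mem_kerP]
  apply MvPolynomial.funext
  intro E
  rw [eval_evalGenP, map_zero]
  unfold schubertVanishing at hf
  simp only [Ideal.mem_iInf, RingHom.mem_ker] at hf
  refine hf (truncP P E) fun φ hφ => ?_
  refine minor_eq_zero_of_shape w φ _ ?_ hφ
  intro x t hxt
  have : ¬ P x t := fun h => absurd (hP x t h) (not_le.2 hxt)
  simp only [truncP, Matrix.of_apply, if_neg this]

/-- The Schubert ideal is the kernel of the evaluation at the generic matrix of its shape;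
in particular it is prime. -/
theorem schubertVanishing_eq_kerP [Infinite K] (hd : 0 < d) (w : Idx d n) :
    schubertVanishing K d n w = kerP (K := K) (fun x t => x ≤ w.1 t) := by
  refine eq_of_std _ _ (plIdealTop_le_schubertVanishing w)
    (schubertVanishing_le_kerP _ w fun x t h => h) (fun c => ∀ k, c.2.1 k ≤ w) ?_ ?_
  · intro c hc
    obtain ⟨k, hk⟩ := not_forall.1 hc
    exact chainMon_mem_of_X_mem _ _ k (X_mem_schubertVanishing w _ hk)
  · exact std_indepP (K := K) (fun x t => x ≤ w.1 t) hd
      (fun c : {c : Chain d n // ∀ k, c.2.1 k ≤ w} => c.1) Subtype.val_injective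
      (fun c k t => c.2 k t)

theorem schubertVanishing_isPrime [Infinite K] (hd : 0 < d) (w : Idx d n) :
    (schubertVanishing K d n w).IsPrime := by
  rw [schubertVanishing_eq_kerP hd w]
  infer_instance

end Groth.Agent.Lib.Helper18.Plucker
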