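import Groth.Agent.Lib.Helper18.Plucker.DetBasis2
import Groth.Agent.Lib.Helper18.Plucker.Basis

/-!
# The shape of the quadratic straightening relations

Torus weights (through counting functions), restriction to Schubert varieties and leading
monomials determine the shape of the standard expression of a product `X_τ X_φ`.
-/

set_option autoImplicit false

namespace Groth.Agent.Lib.Helper18.Plucker

open W4bk4grassmannian MvPolynomial

universe u

variable {K : Type u} [Field K] {d n : ℕ}

/-! ## Counting functions of joins and meets -/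

theorem cnt_eq_of_forall {A B : ℕ} (hA : A ≤ d) (hB : B ≤ d)
    (h : ∀ j : Fin d, j.val < A ↔ j.val < B) : A = B := by
  rcases lt_trichotomy A B with hlt | heq | hgt
  · exfalso
    have := (h ⟨A, by omega⟩).2 hlt
    simp at this
  · exact heq
  · exfalso
    have := (h ⟨B, by omega⟩).1 hgt
    simp at this

theorem cnt_inf (τ φ : Idx d n) (x : ℕ) :
    cnt (W4bk4grassmannian.inf τ φ).1 x = max (cnt τ.1 x) (cnt φ.1 x) := by
  apply cnt_eq_of_forall (cnt_le _ _) (max_le (cnt_le _ _) (cnt_le _ _))
  intro j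
  rw [lt_cnt_iff (W4bk4grassmannian.inf τ φ).2, lt_max_iff, lt_cnt_iff τ.2, lt_cnt_iff φ.2]
  change ((min (τ.1 j) (φ.1 j) : Fin n) : ℕ) < x ↔ _
  rcases le_total (τ.1 j) (φ.1 j) with h | h
  · rw [min_eq_left h]
    have : (τ.1 j).val ≤ (φ.1 j).val := h
    constructor
    · intro h'; left; exact h'
    · rintro (h' | h') <;> omega
  · rw [min_eq_right h]
    have : (φ.1 j).val ≤ (τ.1 j).val := h
    constructor
    · intro h'; right; exact h'
    · rintro (h' | h') <;> omega

theorem cnt_sup (τ φ : Idx d n) (x : ℕ) :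
    cnt (W4bk4grassmannian.sup τ φ).1 x = min (cnt τ.1 x) (cnt φ.1 x) := by
  apply cnt_eq_of_forall (cnt_le _ _) ((min_le_left _ _).trans (cnt_le _ _))
  intro j
  rw [lt_cnt_iff (W4bk4grassmannian.sup τ φ).2, lt_min_iff, lt_cnt_iff τ.2, lt_cnt_iff φ.2]
  change ((max (τ.1 j) (φ.1 j) : Fin n) : ℕ) < x ↔ _
  rcases le_total (τ.1 j) (φ.1 j) with h | h
  · rw [max_eq_right h]
    have : (τ.1 j).val ≤ (φ.1 j).val := h
    constructor
    · intro h'; exact ⟨by omega, h'⟩
    · rintro ⟨-, h'⟩; exact h'
  · rw [max_eq_left h]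
    have : (φ.1 j).val ≤ (τ.1 j).val := h
    constructor
    · intro h'; exact ⟨h', by omega⟩
    · rintro ⟨h', -⟩; exact h'

/-- The entrywise order through counting functions. -/
theorem idx_le_iff_cnt (α β : Idx d n) : α ≤ β ↔ ∀ x : ℕ, cnt β.1 x ≤ cnt α.1 x := by
  rw [← cnt_le_iff β.2 α.2]
  constructor
  · intro h
    refine ⟨le_rfl, fun j j' hjj => ?_⟩
    have : j = j' := Fin.ext hjj
    subst this
    exact h j
  · rintro ⟨-, h⟩ t
    exact h t t rfl

theorem idx_eq_of_cnt (α β : Idx d n) (h : ∀ x : ℕ, cnt α.1 x = cnt β.1 x) : α = β :=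
  le_antisymm ((idx_le_iff_cnt α β).2 fun x => (h x).ge) ((idx_le_iff_cnt β α).2 fun x => (h x).le)

theorem cnt_top (α : Idx d n) {x : ℕ} (hx : n ≤ x) : cnt α.1 x = d := cnt_of_le α.1 hx

/-- From the domination of the top index and the preservation of the content. -/
theorem le_inf_of_content (τ φ α β : Idx d n) (h1 : τ ≤ α) (h2 : φ ≤ α)
    (hc : ∀ x : ℕ, cnt α.1 x + cnt β.1 x = cnt τ.1 x + cnt φ.1 x) :
    β ≤ W4bk4grassmannian.inf τ φ := by
  rw [idx_le_iff_cnt]
  intro x
  rw [cnt_inf]
  have e1 := (idx_le_iff_cnt τ α).1 h1 x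
  have e2 := (idx_le_iff_cnt φ α).1 h2 x
  have := hc x
  rcases le_total (cnt τ.1 x) (cnt φ.1 x) with h | h
  · rw [max_eq_right h]; omega
  · rw [max_eq_left h]; omega

theorem sup_le_of_le {τ φ α : Idx d n} (h1 : τ ≤ α) (h2 : φ ≤ α) :
    W4bk4grassmannian.sup τ φ ≤ α := fun t => max_le (h1 t) (h2 t)

theorem content_sup_inf (τ φ : Idx d n) (x : ℕ) :
    cnt (W4bk4grassmannian.sup τ φ).1 x + cnt (W4bk4grassmannian.inf τ φ).1 x =
      cnt τ.1 x + cnt φ.1 x := by
  rw [cnt_sup, cnt_inf]
  rcases le_total (cnt τ.1 x) (cnt φ.1 x) with h | h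
  · rw [min_eq_left h, max_eq_right h]
  · rw [min_eq_right h, max_eq_left h, add_comm]

/-! ## The torus action -/

/-- The one-parameter subgroup of the torus scaling the rows below `x` by `z`. -/
noncomputable def torusT (z : K) (x : ℕ) : PlRing K d n →ₐ[K] PlRing K d n :=
  aeval fun θ : Idx d n => C (z ^ cnt θ.1 x) * X θ

theorem torusT_X (z : K) (x : ℕ) (θ : Idx d n) :
    torusT z x (X θ) = C (z ^ cnt θ.1 x) * X θ := by
  unfold torusT
  rw [aeval_X]

theorem torusT_chainMon (z : K) (x : ℕ) {m : ℕ} (c : Fin m → Idx d n) :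
    torusT z x (chainMon K c) = C (z ^ (∑ i, cnt (c i).1 x)) * chainMon K c := by
  unfold chainMon
  rw [map_prod]
  simp only [torusT_X]
  rw [Finset.prod_mul_distrib, ← map_prod, Finset.prod_pow_eq_pow_sum]

theorem evalMinors_torusT (z : K) (x : ℕ) (A : Matrix (Fin n) (Fin d) K) (f : PlRing K d n) :
    evalMinors K d n A (torusT z x f) =
      evalMinors K d n (Matrix.of fun y t => (if y.val < x then z else 1) * A y t) f := by
  have : (evalMinors K d n A).comp (torusT z x) =
      evalMinors K d n (Matrix.of fun y t => (if y.val < x then z else 1) * A y t) := by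
    apply MvPolynomial.algHom_ext
    intro θ
    rw [AlgHom.comp_apply, torusT_X]
    unfold evalMinors
    rw [map_mul, aeval_C, aeval_X, aeval_X]
    have hmat : (Matrix.of fun y t => (if y.val < x then z else 1) * A y t).submatrix θ.1 id =
        Matrix.diagonal (fun s : Fin d => if (θ.1 s).val < x then z else 1) *
          A.submatrix θ.1 id := by
      refine Matrix.ext fun s t => ?_
      rw [Matrix.diagonal_mul]
      rfl
    rw [hmat, Matrix.det_mul, Matrix.det_diagonal]
    congr 1
    rw [Finset.prod_ite, Finset.prod_const, Finset.prod_const_one, mul_one]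
    rfl
  rw [← this, AlgHom.comp_apply]

theorem torusT_mem_vanishing (z : K) (x : ℕ) {f : PlRing K d n} (hf : f ∈ vanishing K d n) :
    torusT z x f ∈ vanishing K d n := by
  unfold vanishing at hf ⊢
  rw [Ideal.mem_iInf] at hf ⊢
  intro A
  rw [RingHom.mem_ker]
  change evalMinors K d n A (torusT z x f) = 0
  rw [evalMinors_torusT]
  exact hf _

theorem exists_pow_ne [Infinite K] {a b : ℕ} (hab : a ≠ b) : ∃ z : K, z ^ a ≠ z ^ b := by
  by_contra h
  push_neg at h
  have : (Polynomial.X ^ a : Polynomial K) = Polynomial.X ^ b := by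
    apply Polynomial.funext
    intro r
    simp [h r]
  have h2 := congrArg Polynomial.natDegree this
  rw [Polynomial.natDegree_X_pow, Polynomial.natDegree_X_pow] at h2
  exact hab h2

end Groth.Agent.Lib.Helper18.Plucker
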