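import Groth.Agent.Lib.Helper18.Plucker.StrShape1

/-!
# The shape of the quadratic straightening relations, II
-/

set_option autoImplicit false

namespace Groth.Agent.Lib.Helper18.Plucker

open W4bk4grassmannian MvPolynomial

universe u

variable {K : Type u} [Field K] {d n : ℕ}

/-- The shape of the terms of a straightening relation. -/
def StrRel (τ φ α β : Idx d n) : Prop :=
  β ≤ α ∧ W4bk4grassmannian.sup τ φ < α ∧ β < W4bk4grassmannian.inf τ φ ∧
    ∀ x : ℕ, cnt α.1 x + cnt β.1 x = cnt τ.1 x + cnt φ.1 x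

/-- The chain of a comparable pair. -/
def pairChain (α β : Idx d n) (h : β ≤ α) : Chain d n :=
  ⟨2, ![α, β], by
    intro i j hij
    fin_cases i <;> fin_cases j
    · exact le_rfl
    · exact h
    · exact absurd hij (by decide)
    · exact le_rfl⟩

theorem chain_two_eq (c : Chain d n) (h : c.1 = 2) :
    ∃ (α β : Idx d n) (h' : β ≤ α), c = pairChain α β h' := by
  obtain ⟨m, c, hc⟩ := c
  simp only at h
  subst h
  refine ⟨c 0, c 1, hc (by decide), ?_⟩
  unfold pairChain
  refine Sigma.ext rfl (heq_of_eq (Subtype.ext ?_))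
  funext i
  fin_cases i <;> rfl

theorem chainMon_pairChain (α β : Idx d n) (h : β ≤ α) :
    chainMon K (pairChain α β h).2.1 = X α * X β := by
  unfold chainMon pairChain
  simp [Fin.prod_univ_two]

theorem sum_cnt_pairChain (α β : Idx d n) (h : β ≤ α) (x : ℕ) :
    ∑ i, cnt ((pairChain α β h).2.1 i).1 x = cnt α.1 x + cnt β.1 x := by
  unfold pairChain
  simp [Fin.sum_univ_two]

variable [Infinite K]

/-- The content of the standard monomials of the standard expression of `X_τ X_φ`. -/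
theorem content_eq (hd : 0 < d) (hdn : d ≤ n) (τ φ : Idx d n) (a : Chain d n →₀ K)
    (hP : X τ * X φ - ∑ c ∈ a.support, a c • chainMon K c.2.1 ∈ vanishing K d n) :
    ∀ c ∈ a.support, ∀ x : ℕ, ∑ i, cnt (c.2.1 i).1 x = cnt τ.1 x + cnt φ.1 x := by
  classical
  intro c₁ hc₁ x
  by_contra hne
  obtain ⟨z, hz⟩ := exists_pow_ne (K := K) hne
  have h1 := torusT_mem_vanishing z x hP
  have h2 : C (z ^ (cnt τ.1 x + cnt φ.1 x)) *
      (X τ * X φ - ∑ c ∈ a.support, a c • chainMon K c.2.1) ∈ vanishing K d n :=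
    Ideal.mul_mem_left _ _ hP
  have h3 : torusT z x (X τ * X φ - ∑ c ∈ a.support, a c • chainMon K c.2.1) -
      C (z ^ (cnt τ.1 x + cnt φ.1 x)) *
        (X τ * X φ - ∑ c ∈ a.support, a c • chainMon K c.2.1) =
      ∑ c ∈ a.support, (a c * (z ^ (cnt τ.1 x + cnt φ.1 x) -
        z ^ (∑ i, cnt (c.2.1 i).1 x))) • chainMon K c.2.1 := by
    rw [map_sub, map_mul, torusT_X, torusT_X, map_sum, mul_sub, Finset.mul_sum]
    have e1 : C (z ^ (cnt τ.1 x + cnt φ.1 x)) * (X τ * X φ) =
        C (z ^ cnt τ.1 x) * X τ * (C (z ^ cnt φ.1 x) * (X φ : PlRing K d n)) := by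
      rw [pow_add, C_mul]; ring
    rw [e1, sub_sub_sub_cancel_left, ← Finset.sum_sub_distrib]
    refine Finset.sum_congr rfl fun c _ => ?_
    rw [map_smul, torusT_chainMon, smul_eq_C_mul, smul_eq_C_mul, smul_eq_C_mul]
    simp only [C_mul, C_sub]
    ring
  have h4 : ∑ c ∈ a.support, (a c * (z ^ (cnt τ.1 x + cnt φ.1 x) -
      z ^ (∑ i, cnt (c.2.1 i).1 x))) • chainMon K c.2.1 ∈
      schubertVanishing K d n (topIdx d n hdn) := by
    rw [← h3]
    exact vanishing_le_schubertVanishing _ (Ideal.sub_mem _ h1 h2)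
  have h5 := indep_core hd (topIdx d n hdn) a.support id (fun _ _ _ _ h => h)
    (fun c _ k => le_topIdx hdn _) _ h4 c₁ hc₁
  rcases mul_eq_zero.1 h5 with h6 | h6
  · exact (Finsupp.mem_support_iff.1 hc₁) h6
  · exact hz (sub_eq_zero.1 h6).symm

/-- The top element of the standard monomials of the standard expression of `X_τ X_φ`. -/
theorem top_ge (hd : 0 < d) (τ φ θ : Idx d n) (hθ : θ = τ ∨ θ = φ) (a : Chain d n →₀ K)
    (hP : X τ * X φ - ∑ c ∈ a.support, a c • chainMon K c.2.1 ∈ vanishing K d n) :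
    ∀ c ∈ a.support, ∀ h : 0 < c.1, θ ≤ c.2.1 ⟨0, h⟩ := by
  classical
  intro c₁ hc₁ h0
  by_contra hnot
  have hXX : X τ * X φ ∈ schubertVanishing K d n (c₁.2.1 ⟨0, h0⟩) := by
    rcases hθ with rfl | rfl
    · exact Ideal.mul_mem_right _ _ (X_mem_schubertVanishing _ _ hnot)
    · exact Ideal.mul_mem_left _ _ (X_mem_schubertVanishing _ _ hnot)
  have hsplit : ∑ c ∈ a.support, a c • chainMon K c.2.1 =
      ∑ c ∈ a.support.filter (fun c => ∀ k, c.2.1 k ≤ c₁.2.1 ⟨0, h0⟩),
        a c • chainMon K c.2.1 +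
      ∑ c ∈ a.support.filter (fun c => ¬ ∀ k, c.2.1 k ≤ c₁.2.1 ⟨0, h0⟩),
        a c • chainMon K c.2.1 :=
    (Finset.sum_filter_add_sum_filter_not _ _ _).symm
  have hrest : ∑ c ∈ a.support.filter (fun c => ¬ ∀ k, c.2.1 k ≤ c₁.2.1 ⟨0, h0⟩),
      a c • chainMon K c.2.1 ∈ schubertVanishing K d n (c₁.2.1 ⟨0, h0⟩) := by
    refine Ideal.sum_mem _ fun c hc => ?_
    rw [Finset.mem_filter] at hc
    obtain ⟨k, hk⟩ := not_forall.1 hc.2
    rw [smul_eq_C_mul]
    exact Ideal.mul_mem_left _ _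
      (chainMon_mem_of_X_mem _ _ k (X_mem_schubertVanishing _ _ hk))
  have hsum : ∑ c ∈ a.support, a c • chainMon K c.2.1 ∈
      schubertVanishing K d n (c₁.2.1 ⟨0, h0⟩) := by
    have := Ideal.sub_mem _ hXX (vanishing_le_schubertVanishing (c₁.2.1 ⟨0, h0⟩) hP)
    rwa [sub_sub_cancel] at this
  have hF : ∑ c ∈ a.support.filter (fun c => ∀ k, c.2.1 k ≤ c₁.2.1 ⟨0, h0⟩),
      a c • chainMon K c.2.1 ∈ schubertVanishing K d n (c₁.2.1 ⟨0, h0⟩) := by
    rw [hsplit] at hsum
    exact (Ideal.add_mem_iff_left _ hrest).1 hsum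
  have := indep_core hd (c₁.2.1 ⟨0, h0⟩)
    (a.support.filter (fun c => ∀ k, c.2.1 k ≤ c₁.2.1 ⟨0, h0⟩)) id (fun _ _ _ _ h => h)
    (fun c hc => (Finset.mem_filter.1 hc).2) a hF c₁
    (Finset.mem_filter.2 ⟨hc₁, fun k => c₁.2.2 (Fin.mk_le_of_le_val (Nat.zero_le _))⟩)
  exact (Finsupp.mem_support_iff.1 hc₁) this

theorem diagExp_sup_inf (τ φ : Idx d n) :
    diagExp (W4bk4grassmannian.sup τ φ).1 + diagExp (W4bk4grassmannian.inf τ φ).1 =
      diagExp τ.1 + diagExp φ.1 := by
  unfold diagExp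
  rw [← Finset.sum_add_distrib, ← Finset.sum_add_distrib]
  refine Finset.sum_congr rfl fun s _ => ?_
  change Finsupp.single (max (τ.1 s) (φ.1 s), s) 1 + Finsupp.single (min (τ.1 s) (φ.1 s), s) 1 = _
  rcases le_total (τ.1 s) (φ.1 s) with h | h
  · rw [max_eq_right h, min_eq_left h, add_comm]
  · rw [max_eq_left h, min_eq_right h]

/-- The coefficient of the join–meet term. -/
theorem coeff_lattice (τ φ : Idx d n) (a : Chain d n →₀ K)
    (hP : X τ * X φ - ∑ c ∈ a.support, a c • chainMon K c.2.1 ∈ vanishing K d n)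
    (hle : W4bk4grassmannian.inf τ φ ≤ W4bk4grassmannian.sup τ φ)
    (hshape : ∀ c ∈ a.support, c ≠ pairChain _ _ hle →
      ∃ k, ¬ c.2.1 k ≤ W4bk4grassmannian.sup τ φ) :
    a (pairChain _ _ hle) = 1 := by
  classical
  set w := W4bk4grassmannian.sup τ φ with hw
  set v := W4bk4grassmannian.inf τ φ with hv
  have h0 := evalGen_eq_zero_of_mem w _ (vanishing_le_schubertVanishing w hP)
  rw [map_sub, sub_eq_zero, map_sum] at h0
  have h1 : ∑ c ∈ a.support, evalGen (K := K) w (a c • chainMon K c.2.1) =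
      a (pairChain w v hle) • evalGen (K := K) w (chainMon K (pairChain w v hle).2.1) := by
    rw [Finset.sum_eq_single (pairChain w v hle)]
    · rw [map_smul]
    · intro c hc hne
      obtain ⟨k, hk⟩ := hshape c hc hne
      rw [map_smul, evalGen_eq_zero_of_mem w _
        (chainMon_mem_of_X_mem _ _ k (X_mem_schubertVanishing _ _ hk)), smul_zero]
    · intro hn
      rw [Finsupp.notMem_support_iff.1 hn, zero_smul, map_zero]
  rw [h1] at h0
  have hτw : τ ≤ w := fun t => le_max_left _ _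
  have hφw : φ ≤ w := fun t => le_max_right _ _
  have hvw : v ≤ w := hle
  have e1 : X τ * X φ = chainMon K (![τ, φ] : Fin 2 → Idx d n) := by
    unfold chainMon
    simp [Fin.prod_univ_two]
  have l1 := lead_chainMon (K := K) w (![τ, φ] : Fin 2 → Idx d n) (by
    intro k; fin_cases k
    · exact hτw
    · exact hφw)
  have l2 := lead_chainMon (K := K) w (pairChain w v hle).2.1 (by
    intro k
    unfold pairChain
    fin_cases k
    · exact le_rfl
    · exact hvw)
  have e2 : chainExp (pairChain w v hle).2.1 = chainExp (![τ, φ] : Fin 2 → Idx d n) := by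
    unfold chainExp pairChain
    simp only [Fin.sum_univ_two, Matrix.cons_val_zero, Matrix.cons_val_one]
    exact diagExp_sup_inf τ φ
  have h2 := congrArg (coeff (chainExp (![τ, φ] : Fin 2 → Idx d n))) h0
  rw [e1, l1.1, coeff_smul, ← e2, l2.1, smul_eq_mul, mul_one] at h2
  exact h2.symm

/-- Existence of the standard expression. -/
theorem exists_std_expr (f : PlRing K d n) :
    ∃ a : Chain d n →₀ K, f - ∑ c ∈ a.support, a c • chainMon K c.2.1 ∈ vanishing K d n := by
  have hf : Ideal.Quotient.mk (plIdealTop (d := d) (n := n) K) f ∈ Sp K (d := d) (n := n) := by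
    rw [Sp_eq_top]; trivial
  unfold Sp at hf
  rw [Finsupp.mem_span_range_iff_exists_finsupp] at hf
  obtain ⟨a, ha⟩ := hf
  refine ⟨a, plIdealTop_le_vanishing ?_⟩
  rw [← Ideal.Quotient.eq_zero_iff_mem, map_sub, ← ha, sub_eq_zero, map_sum]
  unfold Finsupp.sum
  refine Finset.sum_congr rfl fun c _ => ?_
  rw [← Ideal.Quotient.mkₐ_eq_mk K, map_smul]

/-- The shape of the straightening relation of an incomparable pair, with the preservation of
the content. -/
theorem straightening_shape (hd : 0 < d) (hdn : d ≤ n) (τ φ : Idx d n) (h₁ : ¬ τ ≤ φ)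
    (h₂ : ¬ φ ≤ τ) :
    ∃ g ∈ Submodule.span K {f : PlRing K d n | ∃ α β : Idx d n,
        StrRel τ φ α β ∧ f = X α * X β},
      X τ * X φ - X (W4bk4grassmannian.sup τ φ) * X (W4bk4grassmannian.inf τ φ) - g ∈
        vanishing K d n := by
  classical
  obtain ⟨a, hP⟩ := exists_std_expr (K := K) (X τ * X φ : PlRing K d n)
  have hcont := content_eq hd hdn τ φ a hP
  have hlen : ∀ c ∈ a.support, c.1 = 2 := by
    intro c hc
    have h := hcont c hc n
    rw [cnt_top τ le_rfl, cnt_top φ le_rfl] at h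
    have h' : ∑ i : Fin c.1, cnt (c.2.1 i).1 n = c.1 * d := by
      rw [Finset.sum_congr rfl fun i _ => cnt_top (c.2.1 i) le_rfl]
      simp
    rw [h'] at h
    have : c.1 * d = 2 * d := by omega
    exact Nat.eq_of_mul_eq_mul_right hd this
  have hle : W4bk4grassmannian.inf τ φ ≤ W4bk4grassmannian.sup τ φ :=
    fun t => le_trans (min_le_left _ _) (le_max_left _ _)
  -- the facts about the chains of the support
  have hfacts : ∀ c ∈ a.support, ∃ (α β : Idx d n) (h' : β ≤ α), c = pairChain α β h' ∧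
      W4bk4grassmannian.sup τ φ ≤ α ∧ β ≤ W4bk4grassmannian.inf τ φ ∧
      ∀ x : ℕ, cnt α.1 x + cnt β.1 x = cnt τ.1 x + cnt φ.1 x := by
    intro c hc
    obtain ⟨α, β, h', rfl⟩ := chain_two_eq c (hlen c hc)
    have h2 : 0 < (pairChain α β h').1 := by unfold pairChain; norm_num
    have hτ : τ ≤ α := top_ge hd τ φ τ (Or.inl rfl) a hP _ hc h2
    have hφ : φ ≤ α := top_ge hd τ φ φ (Or.inr rfl) a hP _ hc h2
    have hct : ∀ x : ℕ, cnt α.1 x + cnt β.1 x = cnt τ.1 x + cnt φ.1 x := by
      intro x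
      rw [← sum_cnt_pairChain α β h' x]
      exact hcont _ hc x
    exact ⟨α, β, h', rfl, sup_le_of_le hτ hφ, le_inf_of_content τ φ α β hτ hφ hct, hct⟩
  have hshape : ∀ c ∈ a.support, c ≠ pairChain _ _ hle →
      ∃ k, ¬ c.2.1 k ≤ W4bk4grassmannian.sup τ φ := by
    intro c hc hne
    obtain ⟨α, β, h', rfl, hα, hβ, hct⟩ := hfacts c hc
    refine ⟨⟨0, by unfold pairChain; norm_num⟩, ?_⟩
    intro hle'
    have hα' : α = W4bk4grassmannian.sup τ φ := le_antisymm hle' hα
    apply hne
    subst hα'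
    have hβ' : β = W4bk4grassmannian.inf τ φ := by
      apply idx_eq_of_cnt
      intro x
      have := hct x
      have := content_sup_inf τ φ x
      omega
    subst hβ'
    rfl
  have hone := coeff_lattice τ φ a hP hle hshape
  have hmem : pairChain _ _ hle ∈ a.support := by
    rw [Finsupp.mem_support_iff, hone]
    exact one_ne_zero
  refine ⟨∑ c ∈ a.support.erase (pairChain _ _ hle), a c • chainMon K c.2.1, ?_, ?_⟩
  · refine Submodule.sum_mem _ fun c hc => Submodule.smul_mem _ _ (Submodule.subset_span ?_)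
    rw [Finset.mem_erase] at hc
    obtain ⟨hne, hc⟩ := hc
    obtain ⟨α, β, h', rfl, hα, hβ, hct⟩ := hfacts c hc
    refine ⟨α, β, ⟨h', lt_of_le_of_ne hα ?_, lt_of_le_of_ne hβ ?_, hct⟩,
      chainMon_pairChain α β h'⟩
    · intro hα'
      apply hne
      subst hα'
      have hβ' : β = W4bk4grassmannian.inf τ φ := by
        apply idx_eq_of_cnt
        intro x
        have := hct x
        have := content_sup_inf τ φ x
        omega
      subst hβ'
      rfl
    · intro hβ'
      apply hne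
      subst hβ'
      have hα' : α = W4bk4grassmannian.sup τ φ := by
        apply idx_eq_of_cnt
        intro x
        have := hct x
        have := content_sup_inf τ φ x
        omega
      subst hα'
      rfl
  · have hsum : ∑ c ∈ a.support, a c • chainMon K c.2.1 =
        X (W4bk4grassmannian.sup τ φ) * X (W4bk4grassmannian.inf τ φ) +
          ∑ c ∈ a.support.erase (pairChain _ _ hle), a c • chainMon K c.2.1 := by
      rw [← Finset.add_sum_erase _ _ hmem, hone, one_smul, chainMon_pairChain]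
    rw [sub_sub, ← hsum]
    exact hP

end Groth.Agent.Lib.Helper18.Plucker
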