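import Groth.Agent.Lib.Helper18.Plucker.Normal
import Groth.Agent.Lib.Helper24.UFD.Nagata

/-! # Factoriality of Schubert varieties -/

set_option autoImplicit false

namespace Groth.Agent.Lib.Helper18.Plucker

open W4bk4grassmannian MvPolynomial Equiv

universe u

variable {K : Type u} [Field K] {d n : ℕ}

/-! ## `Prime (mk x)` versus primality of `J + (x)` -/

theorem prime_mk_iff {S : Type*} [CommRing S] (J : Ideal S) (x : S) (hx : x ∉ J) :
    Prime (Ideal.Quotient.mk J x) ↔ (J ⊔ Ideal.span {x}).IsPrime := by
  have hne : Ideal.Quotient.mk J x ≠ 0 := fun h => hx (Ideal.Quotient.eq_zero_iff_mem.1 h)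
  have hspan : Ideal.span {Ideal.Quotient.mk J x} =
      (J ⊔ Ideal.span {x}).map (Ideal.Quotient.mk J) := by
    rw [Ideal.map_sup, Ideal.map_span, Set.image_singleton, Ideal.map_quotient_self, bot_sup_eq]
  rw [← Ideal.span_singleton_prime hne, hspan]
  constructor
  · intro h
    have h2 : ((J ⊔ Ideal.span {x}).map (Ideal.Quotient.mk J)).comap (Ideal.Quotient.mk J) =
        J ⊔ Ideal.span {x} := by
      rw [Ideal.comap_map_of_surjective _ Ideal.Quotient.mk_surjective,
        ← RingHom.ker_eq_comap_bot, Ideal.mk_ker, sup_eq_left.2 le_sup_left]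
    rw [← h2]
    exact Ideal.comap_isPrime _ _
  · intro h
    exact Ideal.map_isPrime_of_surjective Ideal.Quotient.mk_surjective
      (by rw [Ideal.mk_ker]; exact le_sup_left)

/-! ## Order lemmas -/

theorem le_of_schubertVanishing_le [Infinite K] (hd : 0 < d) {a b : Idx d n}
    (h : schubertVanishing K d n a ≤ schubertVanishing K d n b) : b ≤ a := by
  by_contra hba
  exact X_notMem_schubertVanishing hd b b le_rfl (h (X_mem_schubertVanishing a b hba))

theorem eq_of_le_of_sumVal_eq {a b : Idx d n} (h : a ≤ b) (hs : sumVal a = sumVal b) : a = b := by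
  by_contra hne
  have := sumVal_lt (lt_of_le_of_ne h hne)
  omega

theorem sumVal_of_mem_divisors {τ φ : Idx d n} (h : φ ∈ divisors τ) :
    sumVal φ + 1 = sumVal τ := by
  have h1 := codeg_add φ
  have h2 := codeg_add τ
  have h3 := h.2
  omega

/-! ## (2) ⇔ (3) -/

theorem sup_span_eq_irr_of_isMin [Infinite K] (hd : 0 < d) (τ : Idx d n)
    (hex : ¬ ∃ φ : Idx d n, φ < τ) :
    schubertVanishing K d n τ ⊔ Ideal.span {(X τ : PlRing K d n)} = irr K d n := by
  set I' := schubertVanishing K d n τ ⊔ Ideal.span {(X τ : PlRing K d n)} with hI'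
  have hall : ∀ φ : Idx d n, (X φ : PlRing K d n) ∈ I' := by
    intro φ
    by_cases hφw : φ = τ
    · rw [hφw]; exact Ideal.mem_sup_right (Ideal.subset_span rfl)
    · refine Ideal.mem_sup_left (X_mem_schubertVanishing τ φ ?_)
      intro hle
      exact hex ⟨φ, lt_of_le_of_ne hle hφw⟩
  have hle : I' ≤ irr K d n := by
    refine sup_le (schubertVanishing_le_irr hd τ) ?_
    rw [Ideal.span_le, Set.singleton_subset_iff]
    exact X_mem_irr hd τ
  refine le_antisymm hle fun f hf => ?_
  obtain ⟨c, hc⟩ := exists_sub_C_mem I' hall f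
  have h2 : (C c : PlRing K d n) ∈ irr K d n := by
    have := (irr K d n).sub_mem hf (hle hc)
    simpa using this
  unfold irr at h2
  rw [RingHom.mem_ker] at h2
  have h4 : c = 0 := by simpa [evalMinors] using h2
  rw [h4, C_0, sub_zero] at hc
  exact hc

theorem sup_span_isPrime_iff [Infinite K] (hd : 0 < d) (τ : Idx d n) :
    (schubertVanishing K d n τ ⊔ Ideal.span {(X τ : PlRing K d n)}).IsPrime ↔
      (divisors τ).Subsingleton := by
  classical
  by_cases hex : ∃ φ : Idx d n, φ < τ
  · rw [sup_span_eq_inf_divFinset hd τ hex]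
    constructor
    · intro hprime φ₁ hφ₁ φ₂ hφ₂
      obtain ⟨φ₀, hφ₀, hle⟩ := hprime.inf_le'.1 le_rfl
      have h1 : schubertVanishing K d n φ₀ ≤ schubertVanishing K d n φ₁ :=
        hle.trans (Finset.inf_le ((mem_divFinset τ φ₁).2 hφ₁))
      have h2 : schubertVanishing K d n φ₀ ≤ schubertVanishing K d n φ₂ :=
        hle.trans (Finset.inf_le ((mem_divFinset τ φ₂).2 hφ₂))
      have hφ₀' := (mem_divFinset τ φ₀).1 hφ₀
      have e1 := eq_of_le_of_sumVal_eq (le_of_schubertVanishing_le hd h1) (by
        have := sumVal_of_mem_divisors hφ₁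
        have := sumVal_of_mem_divisors hφ₀'
        omega)
      have e2 := eq_of_le_of_sumVal_eq (le_of_schubertVanishing_le hd h2) (by
        have := sumVal_of_mem_divisors hφ₂
        have := sumVal_of_mem_divisors hφ₀'
        omega)
      rw [e1, e2]
    · intro hsub
      obtain ⟨φ₀, hφ₀⟩ := hex
      obtain ⟨ψ₀, hψ₀, -⟩ := Groth.Agent.S11268.result d n φ₀ τ hφ₀
      have : (divFinset τ).inf (fun φ => schubertVanishing K d n φ) =
          schubertVanishing K d n ψ₀ := by
        refine le_antisymm (Finset.inf_le ((mem_divFinset τ ψ₀).2 hψ₀)) ?_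
        refine Finset.le_inf fun φ hφ => ?_
        rw [hsub ((mem_divFinset τ φ).1 hφ) hψ₀]
      rw [this]
      exact schubertVanishing_isPrime hd ψ₀
  · rw [sup_span_eq_irr_of_isMin hd τ hex]
    constructor
    · intro _ φ₁ hφ₁
      exact absurd ⟨φ₁, hφ₁.1⟩ hex
    · intro _
      infer_instance

/-! ## (1) ⇔ (2) -/

/-- The embedding of the Schubert coordinate ring in the cell ring. -/
noncomputable def cellEmb [Infinite K] (hd : 0 < d) (w : Idx d n) :
    (PlRing K d n ⧸ schubertVanishing K d n w) →+* CellR K w :=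
  Ideal.Quotient.lift (schubertVanishing K d n w) (cellEval (K := K) w).toRingHom
    (fun f hf => schubertVanishing_le_ker_cellEval hd w f hf)

theorem cellEmb_mk [Infinite K] (hd : 0 < d) (w : Idx d n) (f : PlRing K d n) :
    cellEmb hd w (Ideal.Quotient.mk _ f) = cellEval w f := rfl

theorem cellEmb_injective [Infinite K] (hd : 0 < d) (w : Idx d n) :
    Function.Injective (cellEmb (K := K) hd w) := by
  refine RingHom.lift_injective_of_ker_le_ideal _ _ ?_
  rw [ker_cellEval hd w]

theorem irreducible_mk_X [Infinite K] (hd : 0 < d) (w : Idx d n) :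
    Irreducible (Ideal.Quotient.mk (schubertVanishing K d n w) (X w : PlRing K d n)) := by
  have hX : cellEmb hd w (Ideal.Quotient.mk _ (X w)) = (X none : CellR K w) := by
    rw [cellEmb_mk, cellEval_X_top]
  have hirr : Irreducible (X none : CellR K w) := (X_prime (R := K) (i := none)).irreducible
  constructor
  · intro hu
    have := hu.map (cellEmb (K := K) hd w)
    rw [hX] at this
    exact hirr.not_isUnit this
  · intro a b hab
    have h1 : (X none : CellR K w) = cellEmb hd w a * cellEmb hd w b := by
      rw [← hX, hab, map_mul]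
    have key : ∀ c : PlRing K d n ⧸ schubertVanishing K d n w,
        IsUnit (cellEmb (K := K) hd w c) → IsUnit c := by
      intro c hc
      obtain ⟨r, hr, hcr⟩ := (MvPolynomial.isUnit_iff_eq_C_of_isReduced).1 hc
      have : c = Ideal.Quotient.mk _ (C r) := by
        apply cellEmb_injective hd w
        rw [hcr, cellEmb_mk]
        simp [cellEval]
      rw [this]
      exact (hr.map C).map (Ideal.Quotient.mk _)
    rcases hirr.isUnit_or_isUnit h1 with h | h
    · exact Or.inl (key a h)
    · exact Or.inr (key b h)

theorem ufd_iff_prime [Infinite K] (hd : 0 < d) (w : Idx d n) :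
    UniqueFactorizationMonoid (PlRing K d n ⧸ schubertVanishing K d n w) ↔
      Prime (Ideal.Quotient.mk (schubertVanishing K d n w) (X w : PlRing K d n)) := by
  haveI hprime := schubertVanishing_isPrime (K := K) hd w
  haveI hdom : IsDomain (PlRing K d n ⧸ schubertVanishing K d n w) := Ideal.Quotient.isDomain _
  constructor
  · intro hufd
    exact UniqueFactorizationMonoid.irreducible_iff_prime.1 (irreducible_mk_X hd w)
  · intro hp
    let S := Localization.Away (X none : CellR K w)
    letI alg : Algebra (PlRing K d n ⧸ schubertVanishing K d n w) S :=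
      ((algebraMap (CellR K w) S).comp (cellEmb (K := K) hd w)).toAlgebra
    have halg : ∀ r, algebraMap (PlRing K d n ⧸ schubertVanishing K d n w) S r =
        algebraMap (CellR K w) S (cellEmb hd w r) := fun r => rfl
    have hX : cellEmb hd w (Ideal.Quotient.mk _ (X w)) = (X none : CellR K w) := by
      rw [cellEmb_mk, cellEval_X_top]
    have hinjS : Function.Injective (algebraMap (CellR K w) S) :=
      IsLocalization.injective S (Submonoid.powers_le.mpr
        (mem_nonZeroDivisors_of_ne_zero (X_ne_zero (R := K) none)))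
    haveI : IsLocalization.Away
        (Ideal.Quotient.mk (schubertVanishing K d n w) (X w : PlRing K d n)) S := by
      refine ⟨?_, ?_, ?_⟩
      · rintro ⟨_, k, rfl⟩
        rw [halg, map_pow, hX, map_pow]
        exact (IsLocalization.Away.algebraMap_isUnit (X none : CellR K w)).pow k
      · intro z
        obtain ⟨⟨a, ⟨_, j, rfl⟩⟩, hz⟩ := IsLocalization.surj
          (Submonoid.powers (X none : CellR K w)) z
        simp only at hz
        obtain ⟨k, f, hf⟩ := exists_pow_mul_mem_range (K := K) w a
        refine ⟨⟨Ideal.Quotient.mk _ f, ⟨_, j + k, rfl⟩⟩, ?_⟩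
        simp only
        rw [halg, halg, cellEmb_mk, map_pow, hX]
        have hf' : cellEval (K := K) w f = X none ^ k * a := hf
        rw [hf', map_mul, ← hz, map_pow, map_pow, map_pow]
        ring
      · intro r₁ r₂ h
        rw [halg, halg] at h
        have := cellEmb_injective hd w (hinjS h)
        exact ⟨1, by rw [this]⟩
    have hufdS : UniqueFactorizationMonoid S :=
      UniqueFactorizationMonoid.of_isLocalization (Submonoid.powers (X none : CellR K w)) S
    exact Groth.Agent.Lib.Helper24.Nagata.ufd_of_away _ hp S hufdS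

end Groth.Agent.Lib.Helper18.Plucker
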